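import Cfsg.Agent.Lib.Recog.SzSquare.TwoModule
import Cfsg.Agent.Lib.Invol.PiTwoClosed.SzFixed
import Mathlib.GroupTheory.NoncommPiCoprod

/-!
# A group with two factors and no radical is the direct square
-/

set_option autoImplicit false
set_option linter.style.haveILetI false

open Subgroup

namespace Cfsg.Agent.Recog.SzSquare

universe u v

variable {G : Type u} [Group G] [Finite G] {m : ℕ} {L1 L2 : Subgroup G}

omit [Finite G] in
theorem TwoFactors.symm (h : TwoFactors G m L1 L2) : TwoFactors G m L2 L1 where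
  sz1 := h.sz2
  sz2 := h.sz1
  comm := h.comm.symm
  ne := h.ne.symm
  conj1 g := (h.conj2 g).symm
  conj2 g := (h.conj1 g).symm
  cent x a b := h.cent x b a

omit [Finite G] in
theorem TwoFactors.inf_bot (h : TwoFactors G m L1 L2) : L1 ⊓ L2 = ⊥ := by
  haveI := h.sz1.simple
  refine (Subgroup.eq_bot_iff_forall _).2 fun x hx => ?_
  have hz : (⟨x, hx.1⟩ : ↥L1) ∈ center ↥L1 := mem_center_iff.2 fun y => Subtype.ext (h.comm _ y.2 x hx.2)
  rcases Subgroup.Normal.eq_bot_or_eq_top (inferInstance : (center ↥L1).Normal) with e | e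
  · exact congrArg Subtype.val ((Subgroup.eq_bot_iff_forall _).1 e _ hz)
  · exact absurd ⟨⟨fun a b => mem_center_iff.1 (e ▸ mem_top b) a⟩⟩ h.sz1.not_comm

omit [Finite G] in
theorem four_mul_order {a b : G} (hab : a * b = b * a) (hd : ∀ n : ℕ, a ^ n * b ^ n = 1 → a ^ n = 1) :
    orderOf a ∣ orderOf (a * b) := by
  refine orderOf_dvd_of_pow_eq_one (hd _ ?_)
  rw [← (show Commute a b from hab).mul_pow, pow_orderOf_eq_one]

/-- No element exchanges the two factors. -/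
theorem TwoFactors.no_swap (hB : Bound G m) (h : TwoFactors G m L1 L2) (g : G) : conjSub g L1 = L1 := by
  by_contra hg
  have hinf := h.inf_bot
  have hswap : ∀ g, conjSub g L1 = L2 → conjSub g L2 = L1 := fun g e => (h.conj2 g).resolve_right fun e' => h.ne (by
    have e2 := congrArg (conjSub g⁻¹) (e.trans e'.symm)
    rwa [← conjSub_mul, ← conjSub_mul, inv_mul_cancel, conjSub_one, conjSub_one] at e2)
  have hg12 := (h.conj1 g).resolve_left hg
  have hsq : ∀ g, conjSub g L1 = L2 → ∀ n, conjSub (g ^ (2 * n + 1)) L1 = L2 := fun g e n => by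
    induction n with
    | zero => simpa using e
    | succ n ih =>
      rw [show 2 * (n + 1) + 1 = 1 + (1 + (2 * n + 1)) by ring, pow_add, pow_add, pow_one, conjSub_mul,
        conjSub_mul, ih, hswap g e, e]
  -- a two-element
  obtain ⟨e, w, hw, hgo⟩ := Nat.exists_eq_two_pow_mul_odd (orderOf_pos g).ne'
  obtain ⟨w', rfl⟩ := hw
  set g1 := g ^ (2 * w' + 1)
  have hg1 : conjSub g1 L1 = L2 := hsq g hg12 w'
  have hg1o : g1 ^ (2 ^ e) = 1 := by rw [← pow_mul, mul_comm, ← hgo, pow_orderOf_eq_one]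
  set h2 := g1 * g1
  have hn1 : conjSub h2 L1 = L1 := by rw [conjSub_mul, hg1, hswap g1 hg1]
  have hn2 : conjSub h2 L2 = L2 := by rw [conjSub_mul, hswap g1 hg1, hg1]
  have key : ∀ {A : Subgroup G}, SzLike ↥A m → conjSub h2 A = A →
      ∃ u ∈ A, ∀ a ∈ A, h2 ^ (2 * m + 1) * a * (h2 ^ (2 * m + 1))⁻¹ = u * a * u⁻¹ := by
    intro A hA hn
    let φ : MulAut ↥A :=
      ((MulAut.conj h2).subgroupMap A).trans (MulEquiv.subgroupCongr hn)
    have hφ : ∀ (n : ℕ) (a : ↥A), (((φ ^ n) a : ↥A) : G) = h2 ^ n * a * (h2 ^ n)⁻¹ := by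
      intro n
      induction n with
      | zero => intro a; simp
      | succ n ih =>
        intro a
        rw [pow_succ', MulAut.mul_apply, pow_succ' h2]
        show h2 * ((φ ^ n) a : G) * h2⁻¹ = _
        rw [ih]; group
    obtain ⟨u, hu⟩ := hA.out φ
    exact ⟨u, u.2, fun a ha => by rw [← hφ _ ⟨a, ha⟩, ← hu]; rfl⟩
  obtain ⟨u0, hu0, ku⟩ := key h.sz1 hn1
  obtain ⟨v0, hv0, kv⟩ := key h.sz2 hn2
  have hdec : h2 ^ (2 * m + 1) = u0 * v0 := by
    refine (inv_mul_eq_one.1 (h.cent ((u0 * v0)⁻¹ * h2 ^ (2 * m + 1)) (fun a ha => ?_) fun a ha => ?_)).symm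
    · have e1 : u0 * v0 * a * (u0 * v0)⁻¹ = h2 ^ (2 * m + 1) * a * (h2 ^ (2 * m + 1))⁻¹ := by
        rw [ku a ha, show u0 * v0 * a = u0 * (v0 * a) by group, ← h.comm a ha v0 hv0]; group
      generalize h2 ^ (2 * m + 1) = T at e1 ⊢
      generalize u0 * v0 = U at e1 ⊢
      calc a * (U⁻¹ * T) = U⁻¹ * (U * a * U⁻¹) * T := by group
        _ = U⁻¹ * (T * a * T⁻¹) * T := by rw [e1]
        _ = _ := by group
    · have e1 : u0 * v0 * a * (u0 * v0)⁻¹ = h2 ^ (2 * m + 1) * a * (h2 ^ (2 * m + 1))⁻¹ := by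
        rw [kv a ha]
        have hm : v0 * a * v0⁻¹ ∈ L2 := mul_mem (mul_mem hv0 ha) (inv_mem hv0)
        calc u0 * v0 * a * (u0 * v0)⁻¹ = u0 * (v0 * a * v0⁻¹) * u0⁻¹ := by group
          _ = _ := by rw [h.comm u0 hu0 _ hm, mul_inv_cancel_right]
      generalize h2 ^ (2 * m + 1) = T at e1 ⊢
      generalize u0 * v0 = U at e1 ⊢
      calc a * (U⁻¹ * T) = U⁻¹ * (U * a * U⁻¹) * T := by group
        _ = U⁻¹ * (T * a * T⁻¹) * T := by rw [e1]
        _ = _ := by group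
  obtain ⟨u, hu, v, hv, huv⟩ : ∃ u ∈ L1, ∃ v ∈ L2, h2 = u * v := by
    haveI : Fact (Nat.Prime 2) := ⟨Nat.prime_two⟩
    have hcop : (2 * m + 1).Coprime (orderOf h2) := by
      refine Nat.Coprime.coprime_dvd_right (orderOf_dvd_of_pow_eq_one (n := 2 ^ e) ?_) ?_
      · rw [(Commute.refl g1).mul_pow, hg1o, one_mul]
      · exact (Nat.coprime_two_right.2 ⟨m, rfl⟩).pow_right e
    obtain ⟨n, hn⟩ := exists_pow_eq_self_of_coprime hcop
    refine ⟨u0 ^ n, pow_mem hu0 n, v0 ^ n, pow_mem hv0 n, ?_⟩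
    rw [← (show Commute u0 v0 from h.comm u0 hu0 v0 hv0).mul_pow, ← hdec, hn]
  -- an exchanging involution
  set g2 := u⁻¹ * g1
  have hg2 : conjSub g2 L1 = L2 := by
    rw [conjSub_mul, hg1]
    refine SetLike.ext fun x => ?_
    rw [mem_conjSub, inv_inv]
    constructor
    · intro hx
      have e1 := h.comm u hu _ hx
      have : x = u * x * u⁻¹ := by
        have e2 : u * (u * x * u⁻¹) * u⁻¹ = u * x * u⁻¹ := by rw [e1, mul_inv_cancel_right]
        exact (mul_right_inj u).1 (mul_left_injective u⁻¹ e2).symm |> fun e3 => e3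
      rwa [this]
    · intro hx
      rw [h.comm u hu x hx, mul_inv_cancel_right]; exact hx
  have hsq2 : g2 * g2 = 1 := by
    have hz : g1 * u⁻¹ * g1⁻¹ ∈ L2 := hg1 ▸ (⟨u⁻¹, inv_mem hu, rfl⟩ : g1 * u⁻¹ * g1⁻¹ ∈ conjSub g1 L1)
    have hm : g2 * g2 ∈ L2 := by
      have e1 : g2 * g2 = u⁻¹ * ((g1 * u⁻¹ * g1⁻¹) * u) * v := by
        rw [show u⁻¹ * ((g1 * u⁻¹ * g1⁻¹) * u) * v = u⁻¹ * (g1 * u⁻¹ * g1⁻¹) * (u * v) by group, ← huv]
        show u⁻¹ * g1 * (u⁻¹ * g1) = u⁻¹ * (g1 * u⁻¹ * g1⁻¹) * (g1 * g1)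
        group
      rw [e1, ← h.comm u hu _ hz, inv_mul_cancel_left]
      exact mul_mem hz hv
    have hm' : g2 * g2 ∈ L1 := by
      have : g2 * (g2 * g2) * g2⁻¹ ∈ conjSub g2 L2 := ⟨_, hm, rfl⟩
      rwa [hswap g2 hg2, show g2 * (g2 * g2) * g2⁻¹ = g2 * g2 by group] at this
    exact (Subgroup.eq_bot_iff_forall _).1 hinf _ ⟨hm', hm⟩
  obtain ⟨x, hx⟩ := h.sz1.exists_four
  have hy : g2 * (x : G) * g2⁻¹ ∈ L2 := hg2 ▸ ⟨x, x.2, rfl⟩
  have hg2' : g2⁻¹ = g2 := inv_eq_of_mul_eq_one_left hsq2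
  have hxy : 4 ∣ orderOf ((x : G) * (g2 * x * g2⁻¹)) := by
    rw [← hx, ← Subgroup.orderOf_coe]
    refine four_mul_order (h.comm _ x.2 _ hy) fun n hn => ?_
    exact (Subgroup.eq_bot_iff_forall _).1 hinf _ ⟨pow_mem x.2 n,
      by rw [eq_inv_of_mul_eq_one_left hn]; exact L2.inv_mem (pow_mem hy n)⟩
  have hsqx : ((x : G) * g2) ^ 2 = (x : G) * (g2 * x * g2⁻¹) := by
    rw [hg2', pow_two]; group
  rw [← hsqx, orderOf_pow' _ two_ne_zero] at hxy
  refine hB.not_eight ((x : G) * g2) ?_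
  have h2d : Nat.gcd (orderOf ((x : G) * g2)) 2 = 2 := by
    rcases (Nat.dvd_prime Nat.prime_two).1 (Nat.gcd_dvd_right (orderOf ((x : G) * g2)) 2) with e1 | e1
    · rw [e1, Nat.div_one] at hxy
      rw [Nat.gcd_eq_right (dvd_trans ⟨2, rfl⟩ hxy)] at e1
      exact absurd e1 (by norm_num)
    · exact e1
  rw [h2d] at hxy
  have hd2 : 2 ∣ orderOf ((x : G) * g2) := h2d ▸ Nat.gcd_dvd_left _ _
  rw [← Nat.mul_div_cancel' hd2]
  exact mul_dvd_mul_left 2 hxy

theorem TwoFactors.normal (hB : Bound G m) (h : TwoFactors G m L1 L2) : L1.Normal ∧ L2.Normal :=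
  ⟨⟨fun x hx g => h.no_swap hB g ▸ ⟨x, hx, rfl⟩⟩, ⟨fun x hx g => h.symm.no_swap hB g ▸ ⟨x, hx, rfl⟩⟩⟩

/-- The product of the two factors contains the `(2 * m + 1)`-th powers. -/
theorem TwoFactors.pow_mem_prod (hB : Bound G m) (h : TwoFactors G m L1 L2) (g : G) :
    ∃ u ∈ L1, ∃ v ∈ L2, g ^ (2 * m + 1) = u * v := by
  haveI := (h.normal hB).1
  haveI := (h.normal hB).2
  obtain ⟨u, hu⟩ := h.sz1.out (MulAut.conjNormal g)
  obtain ⟨v, hv⟩ := h.sz2.out (MulAut.conjNormal g)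
  have ku : ∀ a : ↥L1, g ^ (2 * m + 1) * (a : G) * (g ^ (2 * m + 1))⁻¹ = u * a * (u : G)⁻¹ := fun a => by
    rw [← MulAut.conjNormal_apply, map_pow, ← hu]; rfl
  have kv : ∀ a : ↥L2, g ^ (2 * m + 1) * (a : G) * (g ^ (2 * m + 1))⁻¹ = v * a * (v : G)⁻¹ := fun a => by
    rw [← MulAut.conjNormal_apply, map_pow, ← hv]; rfl
  refine ⟨u, u.2, v, v.2, (inv_mul_eq_one.1 (h.cent (((u : G) * v)⁻¹ * g ^ (2 * m + 1)) (fun a ha => ?_)
    fun a ha => ?_)).symm⟩
  · have e1 : (u : G) * v * a * ((u : G) * v)⁻¹ = g ^ (2 * m + 1) * a * (g ^ (2 * m + 1))⁻¹ := by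
      rw [ku ⟨a, ha⟩, show (u : G) * v * a = u * ((v : G) * a) by group, ← h.comm a ha v v.2]; group
    generalize g ^ (2 * m + 1) = T at e1 ⊢
    generalize (u : G) * v = U at e1 ⊢
    calc a * (U⁻¹ * T) = U⁻¹ * (U * a * U⁻¹) * T := by group
      _ = U⁻¹ * (T * a * T⁻¹) * T := by rw [e1]
      _ = _ := by group
  · have e1 : (u : G) * v * a * ((u : G) * v)⁻¹ = g ^ (2 * m + 1) * a * (g ^ (2 * m + 1))⁻¹ := by
      rw [kv ⟨a, ha⟩]
      have hm : (v : G) * a * (v : G)⁻¹ ∈ L2 := mul_mem (mul_mem v.2 ha) (inv_mem v.2)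
      calc (u : G) * v * a * ((u : G) * v)⁻¹ = u * ((v : G) * a * (v : G)⁻¹) * (u : G)⁻¹ := by group
        _ = _ := by rw [h.comm u u.2 _ hm, mul_inv_cancel_right]
    generalize g ^ (2 * m + 1) = T at e1 ⊢
    generalize (u : G) * v = U at e1 ⊢
    calc a * (U⁻¹ * T) = U⁻¹ * (U * a * U⁻¹) * T := by group
      _ = U⁻¹ * (T * a * T⁻¹) * T := by rw [e1]
      _ = _ := by group

/-- Suzuki groups over fields of equal order are isomorphic. -/
theorem sz_congr {K F : Type*} [Field K] [Fintype K] [Field F] [Fintype F] (hK : Suz.SzField K m)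
    (hF : Suz.SzField F m) : Nonempty (↥(Cfsg.Sz K m) ≃* ↥(Cfsg.Sz F m)) := by
  obtain ⟨ι⟩ := Suz.exists_embedding hF hK dvd_rfl
  refine ⟨MulEquiv.ofBijective (Suz.fieldHom hF hK ι (Suz.ι_th hK dvd_rfl ι)) ?_⟩
  refine (Nat.bijective_iff_injective_and_card _).2 ⟨Suz.fieldHom_injective hF hK ι _, ?_⟩
  rw [Suz.card_Sz hF, Suz.card_Sz hK]

/-- Each factor lives over the whole field. -/
theorem TwoFactors.full (hS : Spec G m) (h : TwoFactors G m L1 L2) {F : Type*} [Field F] [Fintype F]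
    (hF : Suz.SzField F m) : Nonempty (↥L1 ≃* ↥(Cfsg.Sz F m)) := by
  obtain ⟨K, i1, i2, k, hK, hd, ⟨e⟩⟩ := h.sz1
  have hm := hS.one_le
  rcases eq_or_ne k m with rfl | hkm
  · obtain ⟨e'⟩ := sz_congr hK hF
    exact ⟨e.trans e'⟩
  exfalso
  have hlt : k < m := by
    have := Nat.le_of_dvd (by omega) hd
    omega
  obtain ⟨g, hg⟩ := hS.occ 1 3 (by decide)
  obtain ⟨u, hu, v, hv, huv⟩ := h.pow_mem_prod hS.toBound g
  obtain ⟨σ, hσb, hσ0, hσ1, hσ⟩ := exists_cl_map hd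
  obtain ⟨i, hi⟩ := sz_orders hK (e ⟨u, hu⟩)
  rw [MulEquiv.orderOf_eq, Subgroup.orderOf_mk] at hi
  obtain ⟨j, hj⟩ := h.sz2.orders ⟨v, hv⟩
  rw [Subgroup.orderOf_mk] at hj
  set f := 2 * m + 1
  have hgf : orderOf (g ^ f) ∣ orderOf u * orderOf v := by
    rw [huv]
    exact (show Commute u v from h.comm u hu v hv).orderOf_mul_dvd_mul_orderOf
  rw [orderOf_pow' g (by omega), hg, Nat.gcd_comm, Nat.Coprime.gcd_mul _ (cl_coprime hm (by decide : (1 : Fin 4) ≠ 3)),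
    Nat.gcd_comm f, Nat.gcd_comm f, ← Nat.div_mul_div_comm (Nat.gcd_dvd_left _ _) (Nat.gcd_dvd_left _ _)] at hgf
  set A := cl m 1 / Nat.gcd (cl m 1) f
  set C := cl m 3 / Nat.gcd (cl m 3) f
  have hA : A ∣ cl m 1 := Nat.div_dvd_of_dvd (Nat.gcd_dvd_left _ _)
  have hC : C ∣ cl m 3 := Nat.div_dvd_of_dvd (Nat.gcd_dvd_left _ _)
  have hboth : ∀ {X : ℕ}, X ∣ A * C → X ∣ cl k i * cl m j := fun hX => (hX.trans hgf).trans (mul_dvd_mul hi hj)
  have hne : ∀ {X : ℕ} {a b : Fin 4}, a ≠ b → X ∣ cl m a → X ∣ cl m b → X = 1 := fun hab h1 h2 =>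
    Nat.eq_one_of_dvd_coprimes (cl_coprime hm hab) h1 h2
  by_cases hj1 : j = 1
  · have hCk : C ∣ cl k i := (Nat.Coprime.coprime_dvd_left hC (cl_coprime hm (by decide : (3 : Fin 4) ≠ 1))
      |> fun h => h).dvd_of_dvd_mul_right (hj1 ▸ hboth (dvd_mul_left C A))
    have hC1 : C ≠ 1 := by
      obtain ⟨t, ht, htd⟩ := exists_rep hm 3
      intro e
      change t ∣ C at htd
      rw [e, Nat.dvd_one] at htd
      exact ht.ne_one htd
    have hσi : σ i = 3 := by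
      by_contra hne'
      exact hC1 (hne (Ne.symm hne') hC (hCk.trans (hσ i)))
    have hi' : i = 2 ∨ i = 3 := by
      have h0 : i ≠ 0 := fun e' => by rw [e', hσ0] at hσi; exact absurd hσi (by decide)
      have h1 : i ≠ 1 := fun e' => by rw [e', hσ1] at hσi; exact absurd hσi (by decide)
      exact (show ∀ i : Fin 4, i ≠ 0 → i ≠ 1 → i = 2 ∨ i = 3 by decide) i h0 h1
    refine no_C hK.one_le hd hlt (x := cl k i) ?_ hCk
    rw [← cl_prod]
    rcases hi' with rfl | rfl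
    · exact dvd_mul_right _ _
    · exact dvd_mul_left _ _
  · have hAk : A ∣ cl k i := (Nat.Coprime.coprime_dvd_left hA (cl_coprime hm (Ne.symm hj1))).dvd_of_dvd_mul_right
      (hboth (dvd_mul_right A C))
    have hA1 : A ≠ 1 := by
      obtain ⟨t, ht, htd⟩ := exists_rep hm 1
      intro e
      change t ∣ A at htd
      rw [e, Nat.dvd_one] at htd
      exact ht.ne_one htd
    have hσi : σ i = 1 := by
      by_contra hne'
      exact hA1 (hne (Ne.symm hne') hA (hAk.trans (hσ i)))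
    obtain rfl : i = 1 := hσb.injective (hσi.trans hσ1.symm)
    have h1 := big_A hK.one_le hd hlt
    have h2 : cl m 1 ≤ Nat.gcd (cl m 1) f * cl k 1 := by
      conv_lhs => rw [← Nat.mul_div_cancel' (Nat.gcd_dvd_left (cl m 1) f)]
      exact Nat.mul_le_mul_left _ (Nat.le_of_dvd (by have := one_lt_cl hK.one_le 1; omega) hAk)
    have h3 : Nat.gcd (cl m 1) f * cl k 1 ≤ f * cl k 1 :=
      Nat.mul_le_mul_right _ (Nat.le_of_dvd (by omega) (Nat.gcd_dvd_right _ _))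
    change (2 * m + 1) * cl k 1 < cl m 1 at h1
    exact absurd (h2.trans h3) (not_le.2 h1)

section Field

variable {F : Type*} [Field F] [Fintype F] (hF : Suz.SzField F m)
include hF

/-- Fixed elements of every class for a field automorphism of prime order. -/
theorem exists_fixed_elt {p : ℕ} (hp : p.Prime) (hpm : p ≠ 2 * m + 1) {σ : F ≃+* F} (hσ : σ ^ p = 1) (j : Fin 4) :
    ∃ (t : ℕ) (x : ↥(Cfsg.Sz F m)), t.Prime ∧ t ∣ cl m j ∧ orderOf x = t ∧ Suz.fieldAut hF σ x = x := by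
  classical
  haveI := Fact.mk hp
  have hlike : ∀ {K : Type} [Field K] [Fintype K] {k : ℕ}, Suz.SzField K k → 2 * k + 1 ∣ 2 * m + 1 →
      SzLike ↥(Cfsg.Sz K k) m := fun {K} _ _ {k} hK hd => ⟨K, _, _, k, hK, hd, ⟨MulEquiv.refl _⟩⟩
  by_cases hσ1 : σ = 1
  · obtain ⟨g, hg⟩ := sz_exists hF j
    obtain ⟨t, ht, htd⟩ := Nat.exists_prime_and_dvd (one_lt_cl hF.one_le j).ne'
    obtain ⟨n, hn⟩ := exists_pow_orderOf (orderOf_pos g) (hg ▸ htd)
    exact ⟨t, g ^ n, ht, htd, hn, by rw [hσ1, Invol.PiTwoClosed.fieldAut_one hF]; rfl⟩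
  have hord : orderOf σ = p := orderOf_eq_prime hσ hσ1
  let K := FixedPoints.subfield ↥(zpowers σ) F
  letI : Fintype K := Fintype.ofFinite _
  haveI : Finite (F ≃+* F) := Finite.of_injective (fun τ => (τ : F → F)) DFunLike.coe_injective
  letI : Fintype ↥(zpowers σ) := Fintype.ofFinite _
  have hfr : Module.finrank K F = p := by
    rw [FixedPoints.finrank_eq_card, ← Nat.card_eq_fintype_card, Nat.card_zpowers, hord]
  have hcard : Fintype.card F = Fintype.card K ^ p := by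
    rw [← hfr]; exact Module.card_eq_pow_finrank
  rw [hF.card] at hcard
  obtain ⟨l, -, hl⟩ := (Nat.dvd_prime_pow Nat.prime_two).1 (hcard ▸ dvd_pow_self (Fintype.card K) hp.ne_zero)
  rw [hl, ← pow_mul] at hcard
  have hlm : 2 * m + 1 = l * p := Nat.pow_right_injective le_rfl hcard
  obtain ⟨k, rfl⟩ : ∃ k, l = 2 * k + 1 := by
    refine ⟨l / 2, ?_⟩
    have : Odd l := (Nat.odd_mul.1 (hlm ▸ (⟨m, rfl⟩ : Odd (2 * m + 1)))).1
    obtain ⟨a, rfl⟩ := this
    omega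
  have hk : 1 ≤ k := by
    rcases Nat.eq_zero_or_pos k with rfl | h
    · exact absurd (by omega) hpm
    · exact h
  have hK : Suz.SzField K k := ⟨hk, hl⟩
  have hd : 2 * k + 1 ∣ 2 * m + 1 := ⟨p, hlm⟩
  set f := Suz.fieldHom hF hK K.subtype (Suz.ι_th (m := m) hK hd K.subtype) with hf
  have hff : ∀ x, Suz.fieldAut hF σ (f x) = f x := fun x =>
    Subtype.ext (Subtype.ext (Matrix.ext fun a b =>
      ((x : Matrix.SpecialLinearGroup (Fin 4) K).1 a b).2 ⟨σ, mem_zpowers σ⟩))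
  obtain ⟨σ', hσb, -, -, hσ'⟩ := exists_cl_map hd
  obtain ⟨i, rfl⟩ := hσb.surjective j
  obtain ⟨g, hg⟩ := sz_exists hK i
  obtain ⟨t, ht, htd⟩ := Nat.exists_prime_and_dvd (one_lt_cl hk i).ne'
  obtain ⟨n, hn⟩ := exists_pow_orderOf (orderOf_pos g) (hg ▸ htd)
  exact ⟨t, f (g ^ n), ht, htd.trans (hσ' i),
    (orderOf_injective f (Suz.fieldHom_injective hF hK _ _) _).trans hn, hff _⟩

omit hF in
theorem not_prime_dvd (hm : 1 ≤ m) (hm2 : m ≠ 2) (hp : (2 * m + 1).Prime) (j : Fin 4) : ¬ 2 * m + 1 ∣ cl m j := by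
  set p := 2 * m + 1
  haveI := Fact.mk hp
  have h1 : (2 : ZMod p) ^ p = 2 := ZMod.pow_card 2
  intro hd
  have h4 : ∀ {n : ℕ}, p ∣ n → (n : ZMod p) = 0 := fun h => (ZMod.natCast_eq_zero_iff _ _).2 h
  fin_cases j
  · have := (Nat.prime_dvd_prime_iff_eq hp Nat.prime_two).1 (hp.dvd_of_dvd_pow (show p ∣ 2 ^ 2 from hd))
    omega
  · have e := h4 hd
    change ((2 ^ p - 1 : ℕ) : ZMod p) = 0 at e
    rw [Nat.cast_sub Nat.one_le_two_pow, Nat.cast_pow, Nat.cast_ofNat, h1, Nat.cast_one] at e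
    norm_num at e
  all_goals
    have hBC : p ∣ cl m 2 * cl m 3 := by
      first
      | exact Dvd.dvd.mul_right hd _
      | exact Dvd.dvd.mul_left hd _
    have e := h4 hBC
    rw [cl_prod] at e
    push_cast at e
    rw [show (2 * m + 1) = p from rfl, h1] at e
    norm_num at e
    have h5 : p ∣ 5 := (ZMod.natCast_eq_zero_iff 5 p).1 (by exact_mod_cast e)
    have := (Nat.prime_dvd_prime_iff_eq hp (by norm_num)).1 h5
    omega

end Field

/-- The group is the product of the two factors. -/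
theorem TwoFactors.sup_top (hS : Spec G m) (hm2 : m ≠ 2) (h : TwoFactors G m L1 L2) : L1 ⊔ L2 = ⊤ := by
  by_contra hne
  haveI := (h.normal hS.toBound).1
  haveI := (h.normal hS.toBound).2
  set P := L1 ⊔ L2
  obtain ⟨g0, -, hg0⟩ := SetLike.exists_of_lt (lt_top_iff_ne_top.2 hne)
  obtain ⟨p, hp, hpd⟩ := Nat.exists_prime_and_dvd (fun e : orderOf ((g0 : G) : G ⧸ P) = 1 =>
    hg0 ((QuotientGroup.eq_one_iff g0).1 (orderOf_eq_one_iff.1 e)))
  obtain ⟨n, hn⟩ := exists_pow_orderOf (orderOf_pos ((g0 : G) : G ⧸ P)) hpd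
  set g := g0 ^ n
  have hgo : orderOf ((g : G) : G ⧸ P) = p := by rw [QuotientGroup.mk_pow]; exact hn
  have hgP : g ∉ P := fun e => hp.ne_one (by rw [← hgo, (QuotientGroup.eq_one_iff g).2 e, orderOf_one])
  have hgp : g ^ p ∈ P := (QuotientGroup.eq_one_iff _).1 (by
    rw [QuotientGroup.mk_pow, ← hgo, pow_orderOf_eq_one])
  have hpf : p ∣ 2 * m + 1 := by
    obtain ⟨u, hu, v, hv, e⟩ := h.pow_mem_prod hS.toBound g
    rw [← hgo]
    refine orderOf_dvd_of_pow_eq_one ?_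
    rw [← QuotientGroup.mk_pow, QuotientGroup.eq_one_iff, e]
    exact mul_mem (le_sup_left (b := L2) hu) (le_sup_right (a := L1) hv)
  obtain ⟨K, i1, i2, k, hK, hd, ⟨e1'⟩⟩ := h.sz1
  have hcardK : Fintype.card K = 2 ^ (2 * k + 1) := hK.card
  obtain ⟨K2, j1, j2, k2, hK2, hd2, -⟩ := h.sz2
  -- both factors over a common field
  obtain ⟨F, iF, iF', hF⟩ : ∃ (F : Type) (_ : Field F) (_ : Fintype F), Suz.SzField F m := by
    haveI : Fact (Nat.Prime 2) := ⟨Nat.prime_two⟩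
    letI : Fintype (GaloisField 2 (2 * m + 1)) := Fintype.ofFinite _
    refine ⟨GaloisField 2 (2 * m + 1), _, _, hS.one_le, ?_⟩
    rw [← Nat.card_eq_fintype_card, GaloisField.card 2 _ (by omega)]
  obtain ⟨e1⟩ := h.full hS hF
  obtain ⟨e2⟩ := h.symm.full hS hF
  obtain ⟨a1, σ1, h1⟩ := Suz.exists_decomp hF (MulAut.congr e1 (MulAut.conjNormal g))
  obtain ⟨a2, σ2, h2⟩ := Suz.exists_decomp hF (MulAut.congr e2 (MulAut.conjNormal g))
  set g1 := ((e1.symm a1 : G) * (e2.symm a2 : G))⁻¹ * g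
  have k1 : ∀ x : ↥L1, e1 (MulAut.conjNormal g1 x) = Suz.fieldAut hF σ1 (e1 x) := fun x => by
    have e : e1 (MulAut.conjNormal g x) = a1 * Suz.fieldAut hF σ1 (e1 x) * a1⁻¹ := by
      have e' := DFunLike.congr_fun h1 (e1 x)
      simpa [MulAut.congr] using e'
    have e' : MulAut.conjNormal g1 x = (e1.symm a1)⁻¹ * MulAut.conjNormal g x * e1.symm a1 := by
      refine Subtype.ext ?_
      rw [MulAut.conjNormal_apply, Subgroup.coe_mul, Subgroup.coe_mul, Subgroup.coe_inv, MulAut.conjNormal_apply]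
      set A := (e1.symm a1 : G)
      set B := (e2.symm a2 : G)
      have hy : g * (x : G) * g⁻¹ ∈ L1 := (inferInstance : L1.Normal).conj_mem x x.2 g
      have hm : A⁻¹ * (g * (x : G) * g⁻¹) * A ∈ L1 :=
        mul_mem (mul_mem (inv_mem (e1.symm a1).2) hy) (e1.symm a1).2
      show (A * B)⁻¹ * g * x * ((A * B)⁻¹ * g)⁻¹ = A⁻¹ * (g * x * g⁻¹) * A
      calc (A * B)⁻¹ * g * x * ((A * B)⁻¹ * g)⁻¹ = B⁻¹ * (A⁻¹ * (g * x * g⁻¹) * A) * B := by group
        _ = _ := by rw [← h.comm _ hm _ (inv_mem (e2.symm a2).2), inv_mul_cancel_right]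
    rw [e', map_mul, map_mul, map_inv, MulEquiv.apply_symm_apply, e]
    group
  have k2 : ∀ x : ↥L2, e2 (MulAut.conjNormal g1 x) = Suz.fieldAut hF σ2 (e2 x) := fun x => by
    have e : e2 (MulAut.conjNormal g x) = a2 * Suz.fieldAut hF σ2 (e2 x) * a2⁻¹ := by
      have e' := DFunLike.congr_fun h2 (e2 x)
      simpa [MulAut.congr] using e'
    have e' : MulAut.conjNormal g1 x = (e2.symm a2)⁻¹ * MulAut.conjNormal g x * e2.symm a2 := by
      refine Subtype.ext ?_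
      rw [MulAut.conjNormal_apply, Subgroup.coe_mul, Subgroup.coe_mul, Subgroup.coe_inv, MulAut.conjNormal_apply]
      set A := (e1.symm a1 : G)
      set B := (e2.symm a2 : G)
      have hy : g * (x : G) * g⁻¹ ∈ L2 := (inferInstance : L2.Normal).conj_mem x x.2 g
      show (A * B)⁻¹ * g * x * ((A * B)⁻¹ * g)⁻¹ = B⁻¹ * (g * x * g⁻¹) * B
      calc (A * B)⁻¹ * g * x * ((A * B)⁻¹ * g)⁻¹ = B⁻¹ * (A⁻¹ * (g * x * g⁻¹) * A) * B := by group
        _ = _ := by rw [h.comm _ (inv_mem (e1.symm a1).2) _ hy, inv_mul_cancel_right]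
    rw [e', map_mul, map_mul, map_inv, MulEquiv.apply_symm_apply, e]
    group
  have hg1P : g1 ∉ P := fun e => hgP (by
    have := mul_mem (mul_mem (le_sup_left (b := L2) (e1.symm a1).2) (le_sup_right (a := L1) (e2.symm a2).2)) e
    rwa [mul_inv_cancel_left] at this)
  have hg1p : g1 ^ p ∈ P := by
    rw [← QuotientGroup.eq_one_iff, QuotientGroup.mk_pow]
    have : ((g1 : G) : G ⧸ P) = (g : G) := by
      rw [QuotientGroup.mk_mul, (QuotientGroup.eq_one_iff _).2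
        (inv_mem (mul_mem (le_sup_left (b := L2) (e1.symm a1).2) (le_sup_right (a := L1) (e2.symm a2).2))), one_mul]
    rw [this, ← hgo, pow_orderOf_eq_one]
  obtain ⟨u, hu, v, hv, huv⟩ : ∃ u ∈ L1, ∃ v ∈ L2, g1 ^ p = u * v := by
    rw [mem_sup_of_normal_right] at hg1p
    obtain ⟨u, hu, v, hv, e⟩ := hg1p
    exact ⟨u, hu, v, hv, e.symm⟩
  -- the field automorphisms have order dividing `p`
  have hpow : ∀ {A : Subgroup G} [A.Normal] (e : ↥A ≃* ↥(Cfsg.Sz F m)) (σ : F ≃+* F),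
      (∀ x : ↥A, e (MulAut.conjNormal g1 x) = Suz.fieldAut hF σ (e x)) → ∀ w : ↥A,
      (∀ x : ↥A, g1 ^ p * (x : G) * (g1 ^ p)⁻¹ = w * x * (w : G)⁻¹) → σ ^ p = 1 ∧ (w : G) = 1 := by
    intro A _ e σ hk w hw
    have hn : ∀ n : ℕ, ∀ x : ↥A, e (MulAut.conjNormal (g1 ^ n) x) = Suz.fieldAut hF (σ ^ n) (e x) := by
      intro n
      induction n with
      | zero => intro x; rw [pow_zero, map_one, pow_zero, Invol.PiTwoClosed.fieldAut_one hF]; rfl
      | succ n ih =>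
        intro x
        rw [pow_succ', map_mul, MulAut.mul_apply, hk, ih, pow_succ' σ, Invol.PiTwoClosed.fieldAut_mul hF,
          MulAut.mul_apply]
    have hconj : Suz.fieldAut hF (σ ^ p) = MulAut.conj (e w) := MulEquiv.ext fun y => by
      obtain ⟨x, rfl⟩ := e.surjective y
      rw [← hn, MulAut.conj_apply, ← map_inv, ← map_mul, ← map_mul]
      exact congrArg e (Subtype.ext (by rw [MulAut.conjNormal_apply]; exact hw x))
    have hσp : σ ^ p = 1 := by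
      refine (Suz.toOut_bijective hF).1 ?_
      show (QuotientGroup.mk (Suz.fieldAut hF (σ ^ p)) : Cfsg.Out _) = QuotientGroup.mk (Suz.fieldAut hF 1)
      rw [hconj, Invol.PiTwoClosed.fieldAut_one hF]
      exact (QuotientGroup.eq_one_iff _).2 ⟨e w, rfl⟩
    refine ⟨hσp, ?_⟩
    rw [hσp, Invol.PiTwoClosed.fieldAut_one hF] at hconj
    haveI := Suz.isSimple hF
    have hz : e w ∈ center ↥(Cfsg.Sz F m) := mem_center_iff.2 fun y => by
      have := DFunLike.congr_fun hconj y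
      rw [MulAut.one_apply, MulAut.conj_apply, eq_mul_inv_iff_mul_eq] at this
      exact this
    rcases Subgroup.Normal.eq_bot_or_eq_top (inferInstance : (center ↥(Cfsg.Sz F m)).Normal) with ec | ec
    · have : e w = 1 := (Subgroup.eq_bot_iff_forall _).1 ec _ hz
      rw [e.map_eq_one_iff] at this
      rw [this]; rfl
    · exact absurd ⟨⟨fun a b => mem_center_iff.1 (ec ▸ mem_top b) a⟩⟩ (sz_not_comm hF)
  obtain ⟨hσ1, hu1⟩ := hpow e1 σ1 k1 ⟨u, hu⟩ fun x => by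
    show g1 ^ p * (x : G) * (g1 ^ p)⁻¹ = u * x * u⁻¹
    rw [huv, show u * v * (x : G) = u * (v * x) by group, ← h.comm x x.2 v hv]; group
  obtain ⟨hσ2, hv1⟩ := hpow e2 σ2 k2 ⟨v, hv⟩ fun x => by
    show g1 ^ p * (x : G) * (g1 ^ p)⁻¹ = v * x * v⁻¹
    rw [huv]
    calc u * v * (x : G) * (u * v)⁻¹ = u * (v * x * v⁻¹) * u⁻¹ := by group
      _ = _ := by rw [h.comm u hu _ (mul_mem (mul_mem hv x.2) (inv_mem hv)), mul_inv_cancel_right]
  haveI := Fact.mk hp
  have hg1o : orderOf g1 = p := orderOf_eq_prime (by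
    rw [huv, show u = 1 from hu1, show v = 1 from hv1, one_mul]) fun e => hg1P (e ▸ one_mem P)
  obtain ⟨c, hc⟩ := hS.cls hp (g := g1) (dvd_of_eq hg1o.symm)
  by_cases hpm : p = 2 * m + 1
  · exact not_prime_dvd hS.one_le hm2 (hpm ▸ hp) c (hpm ▸ hc)
  obtain ⟨a, b, hab, hca, hcb⟩ : ∃ a b : Fin 4, a ≠ b ∧ c ≠ a ∧ c ≠ b :=
    (show ∀ c : Fin 4, ∃ a b : Fin 4, a ≠ b ∧ c ≠ a ∧ c ≠ b by decide) c
  obtain ⟨s, x, hs, hsd, hxo, hxf⟩ := exists_fixed_elt hF hp hpm hσ1 a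
  obtain ⟨t, y, ht, htd, hyo, hyf⟩ := exists_fixed_elt hF hp hpm hσ2 b
  have hxc : g1 * (e1.symm x : G) = (e1.symm x : G) * g1 := by
    have e := k1 (e1.symm x)
    rw [MulEquiv.apply_symm_apply, hxf, ← MulEquiv.eq_symm_apply] at e
    have e' := congrArg Subtype.val e
    rw [MulAut.conjNormal_apply] at e'
    exact mul_inv_eq_iff_eq_mul.1 e'
  have hyc : g1 * (e2.symm y : G) = (e2.symm y : G) * g1 := by
    have e := k2 (e2.symm y)
    rw [MulEquiv.apply_symm_apply, hyf, ← MulEquiv.eq_symm_apply] at e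
    have e' := congrArg Subtype.val e
    rw [MulAut.conjNormal_apply] at e'
    exact mul_inv_eq_iff_eq_mul.1 e'
  have hne : ∀ {s t : ℕ} {i j : Fin 4}, s.Prime → s ∣ cl m i → t ∣ cl m j → i ≠ j → s ≠ t :=
    fun hs h1 h2 hij e => hij (cl_eq_of_dvd hS.one_le hs h1 (e ▸ h2))
  exact (hS.toBound.t3 hp hs ht hca hcb hab hc hsd htd).false hp hs ht (hne hp hc hsd hca) (hne hp hc htd hcb)
    (hne hs hsd htd hab) hg1o ((Subgroup.orderOf_coe _).trans ((MulEquiv.orderOf_eq _ _).trans hxo))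
    ((Subgroup.orderOf_coe _).trans ((MulEquiv.orderOf_eq _ _).trans hyo)) hxc hyc
    (h.comm _ (e1.symm x).2 _ (e2.symm y).2)

/-- The group is the direct square. -/
theorem TwoFactors.nonempty_iso (hS : Spec G m) (hm2 : m ≠ 2) (h : TwoFactors G m L1 L2) {F : Type*} [Field F]
    [Fintype F] (hF : Suz.SzField F m) : Nonempty (G ≃* ↥(Cfsg.Sz F m) × ↥(Cfsg.Sz F m)) := by
  obtain ⟨e1⟩ := h.full hS hF
  obtain ⟨e2⟩ := h.symm.full hS hF
  have htop := h.sup_top hS hm2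
  let f : ↥L1 × ↥L2 →* G := MonoidHom.noncommCoprod L1.subtype L2.subtype fun a b => h.comm a a.2 b b.2
  have hf : Function.Bijective f := by
    refine ⟨(injective_iff_map_eq_one f).2 fun ⟨a, b⟩ e => ?_, fun x => ?_⟩
    · have e' : (a : G) * b = 1 := e
      have ha : (a : G) = 1 := (Subgroup.eq_bot_iff_forall _).1 h.inf_bot _
        ⟨a.2, by rw [eq_inv_of_mul_eq_one_left e']; exact L2.inv_mem b.2⟩
      rw [ha, one_mul] at e'
      exact Prod.ext (Subtype.ext ha) (Subtype.ext e')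
    · haveI := (h.normal hS.toBound).2
      have hx : x ∈ L1 ⊔ L2 := htop ▸ mem_top x
      rw [mem_sup_of_normal_right] at hx
      obtain ⟨a, ha, b, hb, rfl⟩ := hx
      exact ⟨(⟨a, ha⟩, ⟨b, hb⟩), rfl⟩
  exact ⟨(MulEquiv.ofBijective f hf).symm.trans (e1.prodCongr e2)⟩

end Cfsg.Agent.Recog.SzSquare
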