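import Cfsg.Agent.Lib.Recog.SzSquare.Triple

/-!
# Three further primes acting faithfully on a `p`-group
-/

set_option autoImplicit false
set_option linter.style.haveILetI false

open Subgroup
open scoped commutatorElement

namespace Cfsg.Agent.Recog.SzSquare

universe u

variable {G : Type u} [Group G] [Finite G]

theorem eq_of_dvd_prime_pow_card {a t : ℕ} {W : Subgroup G} (hW : IsPGroup a ↥W) (ha : a.Prime) (ht : t.Prime)
    (hd : t ∣ Nat.card W) : t = a := by
  haveI := Fact.mk ha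
  obtain ⟨n, hn⟩ := IsPGroup.iff_card.1 hW
  exact (Nat.prime_dvd_prime_iff_eq ht ha).1 (ht.dvd_of_dvd_pow (hn ▸ hd))

theorem isPGroup_zpowers_of_orderOf {a : ℕ} {x : G} (hx : orderOf x = a) : IsPGroup a ↥(zpowers x) :=
  IsPGroup.of_card (n := 1) (by rw [Nat.card_zpowers, hx, pow_one])

theorem commutator_mem_of_normalizer {N : Subgroup G} {x y : G} (hx : x ∈ N) (hy : y ∈ normalizer (N : Set G)) :
    ⁅x, y⁆ ∈ N := by
  rw [commutatorElement_def, mul_assoc, mul_assoc, ← mul_assoc y]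
  exact mul_mem hx (Grp.mem_conj_normalizer hy (inv_mem hx))

/-- The centre of a subgroup, as a subgroup of the group. -/
def zc (K : Subgroup G) : Subgroup G := (center ↥K).map K.subtype

theorem zc_le (K : Subgroup G) : zc K ≤ K := map_subtype_le _

theorem zc_comm {K : Subgroup G} {x y : G} (hx : x ∈ zc K) (hy : y ∈ K) : x * y = y * x := by
  obtain ⟨x, hxc, rfl⟩ := hx
  exact (congrArg Subtype.val (mem_center_iff.1 hxc ⟨y, hy⟩)).symm

theorem zc_isMulCommutative (K : Subgroup G) : IsMulCommutative ↥(zc K) :=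
  ⟨⟨fun a b => Subtype.ext (zc_comm a.2 (zc_le K b.2))⟩⟩

theorem zc_ne_bot {a : ℕ} [Fact a.Prime] {K : Subgroup G} (hK : IsPGroup a ↥K) (h : K ≠ ⊥) : zc K ≠ ⊥ := by
  haveI : Nontrivial ↥K := (Subgroup.nontrivial_iff_ne_bot _).2 h
  haveI := hK.center_nontrivial
  exact fun e => (center ↥K).nontrivial_iff_ne_bot.1 inferInstance
    ((map_eq_bot_iff_of_injective _ K.subtype_injective).1 e)

theorem normalizer_le_zc (K : Subgroup G) : normalizer (K : Set G) ≤ normalizer (zc K : Set G) :=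
  Grp.FlavellPair.normalizer_le_map_char K (center ↥K)

/-- A `p`-group and a group of three further primes acting faithfully on it, with no triangle. -/
structure Faith (G : Type u) [Group G] (p r s k : ℕ) (V T : Subgroup G) : Prop where
  hp : p.Prime
  hr : r.Prime
  hs : s.Prime
  hk : k.Prime
  pr : p ≠ r
  ps : p ≠ s
  pk : p ≠ k
  rs : r ≠ s
  rk : r ≠ k
  sk : s ≠ k
  Vp : IsPGroup p ↥V
  nT : T ≤ normalizer (V : Set G)
  faith : T ⊓ centralizer (V : Set G) = ⊥
  rankR : RankTwo r T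
  rankS : RankTwo s T
  rankK : RankTwo k T
  primes : ∀ t : ℕ, t.Prime → t ∣ Nat.card T → t = r ∨ t = s ∨ t = k
  prs : ∃ g ∈ T, r * s ∣ orderOf g
  prk : ∃ g ∈ T, r * k ∣ orderOf g
  psk : ∃ g ∈ T, s * k ∣ orderOf g
  tprs : T3 G p r s
  tprk : T3 G p r k
  tpsk : T3 G p s k
  trsk : T3 G r s k

variable {p r s k : ℕ} {V T : Subgroup G}

theorem Faith.swapRS (h : Faith G p r s k V T) : Faith G p s r k V T :=
  { h with
    hr := h.hs, hs := h.hr, pr := h.ps, ps := h.pr, rs := h.rs.symm, rk := h.sk, sk := h.rk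
    rankR := h.rankS, rankS := h.rankR
    primes := fun t a b => by rcases h.primes t a b with e | e | e <;> simp [e]
    prs := let ⟨g, a, b⟩ := h.prs; ⟨g, a, by rwa [mul_comm]⟩
    prk := h.psk, psk := h.prk, tprs := h.tprs.swap23, tprk := h.tpsk, tpsk := h.tprk, trsk := h.trsk.swap12 }

theorem Faith.swapSK (h : Faith G p r s k V T) : Faith G p r k s V T :=
  { h with
    hs := h.hk, hk := h.hs, ps := h.pk, pk := h.ps, rs := h.rk, rk := h.rs, sk := h.sk.symm
    rankS := h.rankK, rankK := h.rankS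
    primes := fun t a b => by rcases h.primes t a b with e | e | e <;> simp [e]
    prs := h.prk, prk := h.prs, psk := let ⟨g, a, b⟩ := h.psk; ⟨g, a, by rwa [mul_comm]⟩
    tprs := h.tprk, tprk := h.tprs, tpsk := h.tpsk.swap23, trsk := h.trsk.swap23 }

/-- At most two cores of `T` are nontrivial. -/
theorem Faith.core_bot (h : Faith G p r s k V T) (h1 : OP r T ≠ ⊥) (h2 : OP s T ≠ ⊥) : OP k T = ⊥ := by
  haveI := Fact.mk h.hr
  haveI := Fact.mk h.hs
  haveI := Fact.mk h.hk
  by_contra h3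
  obtain ⟨x, hx, ex⟩ := exists_order_mem (OP_isPGroup r T) h1
  obtain ⟨y, hy, ey⟩ := exists_order_mem (OP_isPGroup s T) h2
  obtain ⟨z, hz, ez⟩ := exists_order_mem (OP_isPGroup k T) h3
  exact h.trsk.false h.hr h.hs h.hk h.rs h.rk h.sk ex ey ez (OP_comm h.rs T x hx y hy) (OP_comm h.rk T x hx z hz)
    (OP_comm h.sk T y hy z hz)

theorem Faith.not_both (h : Faith G p r s k V T) (hV1 : V ≠ ⊥) (h1 : RankTwo r (OP r T))
    (h2 : RankTwo s (OP s T)) : False := by
  haveI := Fact.mk h.hp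
  haveI := Fact.mk h.hr
  haveI := Fact.mk h.hs
  obtain ⟨A, hA, hA2, hAc, hA3⟩ := h1
  obtain ⟨B, hB, hB2, hBc, hB3⟩ := h2
  obtain ⟨u, huA, hu, hfu⟩ := exists_fixed_rankTwo h.hr hA2 hAc hA3 hV1 ((hA.trans (OP_le r T)).trans h.nT)
    (fun hd => h.pr (eq_of_dvd_prime_pow_card h.Vp h.hp h.hr hd).symm)
  obtain ⟨v, hvB, hv, hfv⟩ := exists_fixed_rankTwo h.hs hB2 hBc hB3 hfu (fun x hx => mem_normalizer_fintype
    fun w hw => ⟨Grp.mem_conj_normalizer (h.nT (OP_le s T (hB hx))) hw.1, mem_centralizer_singleton_iff.2 (by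
      have hxu : Commute x u := (OP_comm h.rs T u (hA huA) x (hB hx)).symm
      exact ((hxu.mul_left (mem_centralizer_singleton_iff.1 hw.2)).mul_left hxu.inv_left).eq)⟩)
    (fun hd => h.ps (eq_of_dvd_prime_pow_card h.Vp h.hp h.hs (hd.trans (card_dvd_of_le inf_le_left))).symm)
  obtain ⟨w, hw, hwp⟩ := exists_order_mem ((h.Vp.to_le inf_le_left).to_le inf_le_left) hfv
  exact h.tprs.false h.hp h.hr h.hs h.pr h.ps h.rs hwp hu hv (mem_centralizer_singleton_iff.1 hw.1.2)
    (mem_centralizer_singleton_iff.1 hw.2) (OP_comm h.rs T u (hA huA) v (hB hvB))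

theorem Faith.rankOne [Group.IsSolvable ↥T] (h : Faith G p r s k V T) (h1 : OP r T ≠ ⊥) (h2 : OP s T ≠ ⊥)
    (hr1 : ¬ RankTwo r (OP r T)) : False := by
  haveI := Fact.mk h.hp
  haveI := Fact.mk h.hr
  haveI := Fact.mk h.hs
  haveI := Fact.mk h.hk
  set R := OP r T
  set S := OP s T
  have hR := OP_isPGroup r T
  have hS := OP_isPGroup s T
  obtain ⟨u, hu, hur, huniq, -⟩ := (unique_or_rankTwo hR h1).resolve_left hr1
  have huT : u ∈ T := OP_le r T hu
  have hun : T ≤ normalizer (zpowers u : Set G) := fun g hg => by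
    refine mem_normalizer_fintype fun w hw => ?_
    obtain ⟨i, rfl⟩ := mem_zpowers_iff.1 hw
    rw [← conj_zpow]
    exact zpow_mem (huniq _ (conj_mem_OP hg hu) (by rw [orderOf_conj, hur])) i
  by_cases hr2 : r = 2
  · have hall : ∀ g ∈ T, g * u = u * g := fun g hg => by
      by_contra hne
      have hm := huniq _ (conj_mem_OP hg hu) (by rw [orderOf_conj, hur])
      obtain ⟨i, hi⟩ := mem_zpowers_iff.1 hm
      rw [← zpow_mod_orderOf, hur, hr2] at hi
      rcases Int.emod_two_eq_zero_or_one i with e | e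
      · rw [Nat.cast_ofNat, e, zpow_zero] at hi
        rw [eq_comm, conj_eq_one_iff] at hi
        rw [hi, orderOf_one] at hur
        omega
      · rw [Nat.cast_ofNat, e, zpow_one] at hi
        exact hne (mul_inv_eq_iff_eq_mul.1 hi.symm)
    obtain ⟨g, hgT, hg⟩ := h.psk
    obtain ⟨i, hi⟩ := exists_pow_orderOf (orderOf_pos g) (dvd_trans (dvd_mul_right s k) hg)
    obtain ⟨j, hj⟩ := exists_pow_orderOf (orderOf_pos g) (dvd_trans (dvd_mul_left k s) hg)
    exact h.trsk.false h.hr h.hs h.hk h.rs h.rk h.sk hur hi hj (hall _ (pow_mem hgT i)).symm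
      (hall _ (pow_mem hgT j)).symm ((Commute.refl g).pow_pow i j).eq
  have hcyc : IsCyclic ↥R := isCyclic_of_not_rankTwo hr2 hR hr1
  set D := T ⊓ centralizer ({u} : Set G)
  have hDT : D ≤ T := inf_le_left
  have hfix : ∀ {z : G}, z ∈ D → orderOf z = k → S ⊓ centralizer ({z} : Set G) = ⊥ := by
    intro z hz hzk
    by_contra hne
    obtain ⟨v, hv, hvs⟩ := exists_order_mem (hS.to_le inf_le_left) hne
    exact h.trsk.false h.hr h.hs h.hk h.rs h.rk h.sk hur hvs hzk (OP_comm h.rs T u hu v hv.1)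
      (mem_centralizer_singleton_iff.1 hz.2).symm (mem_centralizer_singleton_iff.1 hv.2)
  obtain ⟨F, hFT, hF2, hFc, hF3⟩ := h.rankK
  obtain ⟨z0, hz0F, hz0, hz0u⟩ := exists_centralizing h.hr h.hk hur hF2 hF3 (hFT.trans hun)
  obtain ⟨e, heF, he, heu⟩ : ∃ e ∈ F, orderOf e = k ∧ e * u ≠ u * e := by
    by_contra hcon
    push Not at hcon
    obtain ⟨e, heF, he, hfe⟩ := exists_fixed_rankTwo h.hk hF2 hFc hF3 h2 (hFT.trans (le_normalizer_OP s T))
      (fun hd => h.sk (eq_of_dvd_prime_pow_card hS h.hs h.hk hd).symm)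
    exact hfe (hfix ⟨hFT heF, mem_centralizer_singleton_iff.2 (hcon e heF he)⟩ he)
  have hkr : k < r := by
    have h3 := Nat.le_of_dvd (by have := h.hr.two_le; omega) (dvd_sub_one_of_moves h.hr h.hk hur he (hun (hFT heF)) heu)
    have := h.hr.two_le
    omega
  have hnot : ¬ r ∣ k - 1 := fun hd => by
    have h3 := Nat.le_of_dvd (by have := h.hk.two_le; omega) hd
    omega
  -- elements of order `k` of `D` centralise `R`
  have hcR : ∀ {z : G}, z ∈ D → orderOf z = k → ∀ a ∈ R, a * z = z * a := by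
    intro z hz hzk a ha
    haveI : IsMulCommutative ↥R := ⟨⟨fun a b => (hcyc.commGroup).mul_comm a b⟩⟩
    have hn : zpowers z ≤ normalizer (R : Set G) := zpowers_le.2 (le_normalizer_OP r T hz.1)
    have hinf := Grp.abelian_commutator_inf_fixed (zpowers z) R hn (by
      obtain ⟨n, hn⟩ := IsPGroup.iff_card.1 hR
      rw [Nat.card_zpowers, hzk, hn]; exact ((Nat.coprime_primes h.hk h.hr).2 h.rk.symm).pow_right n)
    by_contra hne
    have hbot : ⁅R, zpowers z⁆ ≠ ⊥ := fun e1 => hne (commutatorElement_eq_one_iff_mul_comm.1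
      ((eq_bot_iff_forall _).1 e1 _ (commutator_mem_commutator ha (mem_zpowers z))))
    have hle := Grp.commutator_le_left_of_le_normalizer hn
    obtain ⟨c, hc, hcr⟩ := exists_order_mem (hR.to_le hle) hbot
    have hc1 : c = 1 := (eq_bot_iff_forall _).1 hinf c ⟨⟨hle hc, by
      show c ∈ centralizer ((zpowers z : Subgroup G) : Set G)
      rw [← Grp.centralizer_singleton_eq_zpowers, mem_centralizer_singleton_iff]
      obtain ⟨i, rfl⟩ := mem_zpowers_iff.1 (huniq c (hle hc) hcr)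
      exact ((show Commute z u from mem_centralizer_singleton_iff.1 hz.2).zpow_right i).symm.eq⟩, hc⟩
    rw [hc1, orderOf_one] at hcr
    exact h.hr.one_lt.ne hcr
  obtain ⟨A, hAT, hA2, hAc, hA3⟩ := h.rankR
  have hAD : A ≤ D := fun a ha => ⟨hAT ha, mem_centralizer_singleton_iff.2 (by
    by_contra hne
    by_cases ha1 : a = 1
    · exact hne (by rw [ha1, one_mul, mul_one])
    have h3 := Nat.le_of_dvd (by have := h.hr.two_le; omega)
      (dvd_sub_one_of_moves h.hr h.hr hur (orderOf_eq_prime (hA3 a ha) ha1) (hun (hAT ha)) hne)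
    have := h.hr.two_le
    omega)⟩
  haveI : Group.IsSolvable ↥D := Grp.isSolvable_of_le hDT inferInstance
  obtain ⟨H0, hH0, hH0c⟩ := exists_hallSub (G := ↥D) {r, k}
  set H := H0.map D.subtype
  have hHD : H ≤ D := map_subtype_le _
  haveI : Group.IsSolvable ↥H := Grp.isSolvable_of_le (hHD.trans hDT) inferInstance
  have hHp : ∀ t : ℕ, t.Prime → t ∣ Nat.card H → t = r ∨ t = k := fun t ht hd => by
    rw [card_map_of_injective D.subtype_injective] at hd
    simpa using hH0 t ht hd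
  -- conjugate `A` and `z0` into `H`
  obtain ⟨g1, hg1⟩ := hH0c (A.subgroupOf D) fun t ht hd => by
    rw [Nat.card_congr (subgroupOfEquivOfLe hAD).toEquiv, hA2] at hd
    simp [(Nat.prime_dvd_prime_iff_eq ht h.hr).1 (ht.dvd_of_dvd_pow hd)]
  have hA' : RankTwo r H := by
    refine ⟨A.map (MulAut.conj (g1 : G)).toMonoidHom, ?_, ?_, ?_, ?_⟩
    · rintro _ ⟨a, ha, rfl⟩
      exact ⟨_, hg1 ⟨a, hAD ha⟩ ha, rfl⟩
    · rw [card_map_of_injective (MulAut.conj (g1 : G)).injective, hA2]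
    · refine ⟨⟨?_⟩⟩
      rintro ⟨_, a, ha, rfl⟩ ⟨_, b, hb, rfl⟩
      exact Subtype.ext (show _ * _ = _ * _ by
        rw [← map_mul, ← map_mul]; exact congrArg _ (congrArg Subtype.val (hAc.is_comm.comm ⟨a, ha⟩ ⟨b, hb⟩)))
    · rintro _ ⟨a, ha, rfl⟩
      rw [← map_pow, hA3 a ha, map_one]
  have hz0D : z0 ∈ D := ⟨hFT hz0F, mem_centralizer_singleton_iff.2 hz0u⟩
  obtain ⟨g2, hg2⟩ := hH0c (zpowers (⟨z0, hz0D⟩ : ↥D)) fun t ht hd => by
    rw [Nat.card_zpowers, Subgroup.orderOf_mk, hz0] at hd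
    simp [(Nat.prime_dvd_prime_iff_eq ht h.hk).1 hd]
  obtain ⟨z1, hz1H, hz1⟩ : ∃ z ∈ H, orderOf z = k :=
    ⟨(g2 : G) * z0 * (g2 : G)⁻¹, ⟨_, hg2 _ (mem_zpowers _), rfl⟩, by rw [orderOf_conj, hz0]⟩
  -- the `k`-core of `H` is nontrivial
  have hk0 : OP k H ≠ ⊥ := by
    intro hbot
    set Q := OP r H
    have hQH : Q ≤ H := OP_le r H
    have hzD : z1 ∈ D := hHD hz1H
    have hnQ : z1 ∈ normalizer (Q : Set G) := le_normalizer_OP r H hz1H
    have hQs : ⁅Q, zpowers z1⁆ ≤ centralizer (S : Set G) :=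
      fpf_commutator_le (p := s) (q := r) (r := k) h.rs.symm h.sk h.rk hz1 (OP_isPGroup r H)
        (fun e1 => absurd e1 hr2) hnQ S hS (le_normalizer_OP s T hzD.1)
        ((hQH.trans (hHD.trans hDT)).trans (le_normalizer_OP s T)) (hfix hzD hz1)
    have hb : ⁅⁅Q, zpowers z1⁆, zpowers z1⁆ = ⊥ := by
      have hle : ⁅Q, zpowers z1⁆ ≤ centralizer ({z1} : Set G) := by
        rw [commutator_le]
        intro c hc d hd
        have hxQ : ⁅c, d⁆ ∈ Q := commutator_mem_of_normalizer hc (zpowers_le.2 hnQ hd)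
        have hxR : ⁅c, d⁆ ∈ centralizer (R : Set G) := by
          rw [commutatorElement_def]
          exact conj_comm_of_cyclic hcyc (le_normalizer_OP r T (hDT (hHD (hQH hc))))
            (le_normalizer_OP r T (hDT (zpowers_le.2 hzD hd)))
        have hx := cent_cores_le T (R ⊔ S) (fun t ht => by
          haveI := Fact.mk ht
          by_cases h3 : OP t T = ⊥
          · rw [h3]; exact bot_le
          rcases h.primes t ht (OP_dvd_card h3) with rfl | rfl | rfl
          · exact le_sup_left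
          · exact le_sup_right
          · exact absurd (h.core_bot h1 h2) h3) (hDT (hHD (hQH hxQ))) (fun t ht y hy => by
          haveI := Fact.mk ht
          by_cases h3 : OP t T = ⊥
          · rw [h3, mem_bot] at hy; rw [hy, mul_one, one_mul]
          rcases h.primes t ht (OP_dvd_card h3) with rfl | rfl | rfl
          · exact (mem_centralizer_iff.1 hxR y hy).symm
          · exact (mem_centralizer_iff.1 (hQs (commutator_mem_commutator hc hd)) y hy).symm
          · exact absurd (h.core_bot h1 h2) h3)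
        rw [← SetLike.mem_coe, coe_mul_of_left_le_normalizer_right R S
          ((OP_le r T).trans (le_normalizer_OP s T))] at hx
        obtain ⟨a, ha, b, hb, hab⟩ := Set.mem_mul.1 hx
        simp only [SetLike.mem_coe] at ha hb
        have hb1 : b = 1 := by
          have hbe : b = a⁻¹ * ⁅c, d⁆ := by rw [← hab, inv_mul_cancel_left]
          obtain ⟨i, hi⟩ := IsPGroup.iff_orderOf.1 hR ⟨a, ha⟩
          obtain ⟨j, hj⟩ := IsPGroup.iff_orderOf.1 (OP_isPGroup r H) ⟨_, hxQ⟩
          obtain ⟨l, hl⟩ := IsPGroup.iff_orderOf.1 hS ⟨b, hb⟩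
          rw [Subgroup.orderOf_mk] at hi hj hl
          have hd : orderOf b ∣ r ^ (i + j) := by
            rw [hbe, pow_add]
            refine (Commute.orderOf_mul_dvd_mul_orderOf ((show Commute a ⁅c, d⁆ from mem_centralizer_iff.1 hxR a ha).inv_left)).trans ?_
            rw [orderOf_inv, hi, hj]
          exact orderOf_eq_one_iff.1 (Nat.eq_one_of_dvd_coprimes
            ((((Nat.coprime_primes h.hr h.hs).2 h.rs).pow_left (i + j)).pow_right l) hd hl.dvd)
        rw [← hab, hb1, mul_one, mem_centralizer_singleton_iff]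
        exact hcR hzD hz1 a ha
      rw [commutator_eq_bot_iff_le_centralizer, ← Grp.centralizer_singleton_eq_zpowers]
      exact hle
    rw [Grp.commutator_commutator_eq (zpowers z1) Q (zpowers_le.2 hnQ) (by
      obtain ⟨n, hn⟩ := IsPGroup.iff_card.1 (OP_isPGroup r H)
      rw [Nat.card_zpowers, hz1, hn]; exact ((Nat.coprime_primes h.hk h.hr).2 h.rk.symm).pow_right n)
      (Or.inl inferInstance)] at hb
    have hzQ : z1 ∈ Q := by
      refine cent_cores_le H Q (fun t ht => ?_) hz1H (fun t ht y hy => ?_)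
      · haveI := Fact.mk ht
        by_cases h3 : OP t H = ⊥
        · rw [h3]; exact bot_le
        rcases hHp t ht (OP_dvd_card h3) with rfl | rfl
        · exact le_rfl
        · exact absurd hbot h3
      · haveI := Fact.mk ht
        by_cases h3 : OP t H = ⊥
        · rw [h3, mem_bot] at hy; rw [hy, mul_one, one_mul]
        rcases hHp t ht (OP_dvd_card h3) with rfl | rfl
        · exact (commutatorElement_eq_one_iff_mul_comm.1
            ((eq_bot_iff_forall _).1 hb _ (commutator_mem_commutator hy (mem_zpowers z1)))).symm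
        · exact absurd hbot h3
    exact h.rk (eq_of_dvd_prime_pow_card (OP_isPGroup r H) h.hr h.hk (hz1 ▸ Q.orderOf_dvd_natCard hzQ)).symm
  obtain ⟨⟨E, hE, hE2, hEc, hE3⟩⟩ | ⟨z, hz, hzk, hzuniq, -⟩ := unique_or_rankTwo (OP_isPGroup k H) hk0
  · obtain ⟨e1, he1E, he1, hfe⟩ := exists_fixed_rankTwo h.hk hE2 hEc hE3 h2
      ((hE.trans (OP_le k H)).trans ((hHD.trans hDT).trans (le_normalizer_OP s T)))
      (fun hd => h.sk (eq_of_dvd_prime_pow_card hS h.hs h.hk hd).symm)
    exact hfe (hfix (hHD (OP_le k H (hE he1E))) he1)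
  have hzH : z ∈ H := OP_le k H hz
  have hzn : H ≤ normalizer (zpowers z : Set G) := fun g hg => by
    refine mem_normalizer_fintype fun w hw => ?_
    obtain ⟨i, rfl⟩ := mem_zpowers_iff.1 hw
    rw [← conj_zpow]
    exact zpow_mem (hzuniq _ (conj_mem_OP hg hz) (by rw [orderOf_conj, hzk])) i
  obtain ⟨A', hA'H, hA'2, hA'c, hA'3⟩ := hA'
  have hA'z : ∀ a ∈ A', a * z = z * a := fun a ha => by
    by_contra hne
    by_cases ha1 : a = 1
    · exact hne (by rw [ha1, one_mul, mul_one])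
    exact hnot (dvd_sub_one_of_moves h.hk h.hr hzk (orderOf_eq_prime (hA'3 a ha) ha1) (hzn (hA'H ha)) hne)
  have hzD : z ∈ D := hHD hzH
  by_cases hW : V ⊓ centralizer ({z} : Set G) = ⊥
  · have hZn : z ∈ normalizer (zc S : Set G) := normalizer_le_zc S (le_normalizer_OP s T hzD.1)
    haveI := zc_isMulCommutative S
    have hle := fpf_commutator_le (p := p) (q := s) (r := k) h.ps h.pk h.sk hzk (hS.to_le (zc_le S))
      (fun _ _ => zc_isMulCommutative S) hZn V h.Vp (h.nT hzD.1)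
      (((zc_le S).trans (OP_le s T)).trans h.nT) hW
    obtain ⟨v, hv, hvs⟩ := exists_order_mem (hS.to_le (zc_le S)) (zc_ne_bot hS h2)
    have h3 : ⁅v, z⁆ = 1 := (eq_bot_iff_forall _).1 h.faith _
      ⟨OP_le s T (zc_le S (commutator_mem_of_normalizer hv hZn)), hle (commutator_mem_commutator hv (mem_zpowers z))⟩
    have h4 : v = 1 := (eq_bot_iff_forall _).1 (hfix hzD hzk) v
      ⟨zc_le S hv, mem_centralizer_singleton_iff.2 (commutatorElement_eq_one_iff_mul_comm.1 h3)⟩
    rw [h4, orderOf_one] at hvs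
    exact h.hs.one_lt.ne hvs
  · obtain ⟨a, haA, ha, hfa⟩ := exists_fixed_rankTwo h.hr hA'2 hA'c hA'3 hW (fun x hx => mem_normalizer_fintype
      fun w hw => ⟨Grp.mem_conj_normalizer (h.nT (hDT (hHD (hA'H hx)))) hw.1, mem_centralizer_singleton_iff.2 (by
        have hxz : Commute x z := hA'z x hx
        exact ((hxz.mul_left (mem_centralizer_singleton_iff.1 hw.2)).mul_left hxz.inv_left).eq)⟩)
      (fun hd => h.pr (eq_of_dvd_prime_pow_card h.Vp h.hp h.hr (hd.trans (card_dvd_of_le inf_le_left))).symm)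
    obtain ⟨w, hw, hwp⟩ := exists_order_mem ((h.Vp.to_le inf_le_left).to_le inf_le_left) hfa
    exact h.tprk.false h.hp h.hr h.hk h.pr h.pk h.rk hwp ha hzk (mem_centralizer_singleton_iff.1 hw.2)
      (mem_centralizer_singleton_iff.1 hw.1.2) (hA'z a haA)


theorem mem_normalizer_inf_cent {K : Subgroup G} {x y : G} (hy : y ∈ normalizer (K : Set G)) (h : y * x = x * y) :
    y ∈ normalizer ((K ⊓ centralizer ({x} : Set G) : Subgroup G) : Set G) :=
  mem_normalizer_fintype fun w hw => ⟨Grp.mem_conj_normalizer hy hw.1, mem_centralizer_singleton_iff.2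
    ((((show Commute y x from h).mul_left (mem_centralizer_singleton_iff.1 hw.2))).mul_left
      (show Commute y x from h).inv_left).eq⟩

/-- A prime-order element fixing a point of the core and having a partner is fixed-point-free on `V`. -/
theorem Faith.fix_bot (h : Faith G p r s k V T) {x y : G} (hx : x ∈ T) (hy : y ∈ T) (hxs : orderOf x = s)
    (hyk : orderOf y = k) (hxy : x * y = y * x) (hR : OP r T ⊓ centralizer ({x} : Set G) ≠ ⊥) :
    V ⊓ centralizer ({x} : Set G) = ⊥ := by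
  haveI := Fact.mk h.hp
  haveI := Fact.mk h.hr
  haveI := Fact.mk h.hs
  haveI := Fact.mk h.hk
  by_contra hV
  set W := V ⊓ centralizer ({x} : Set G)
  set Q := OP r T ⊓ centralizer ({x} : Set G)
  have hQ : IsPGroup r ↥Q := (OP_isPGroup r T).to_le inf_le_left
  haveI := zc_isMulCommutative Q
  have hyQ : y ∈ normalizer (Q : Set G) := mem_normalizer_inf_cent (le_normalizer_OP r T hy) hxy.symm
  have hQW : zc Q ≤ normalizer (W : Set G) := fun w hw =>
    mem_normalizer_inf_cent (h.nT (OP_le r T (zc_le Q hw).1)) (mem_centralizer_singleton_iff.1 (zc_le Q hw).2)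
  have hWy : W ⊓ centralizer ({y} : Set G) = ⊥ := by
    by_contra hne
    obtain ⟨w, hw, hwp⟩ := exists_order_mem ((h.Vp.to_le inf_le_left).to_le inf_le_left) hne
    exact h.tpsk.false h.hp h.hs h.hk h.ps h.pk h.sk hwp hxs hyk (mem_centralizer_singleton_iff.1 hw.1.2)
      (mem_centralizer_singleton_iff.1 hw.2) hxy
  have hle := fpf_commutator_le (p := p) (q := r) (r := k) h.pr h.pk h.rk hyk (hQ.to_le (zc_le Q))
    (fun _ _ => zc_isMulCommutative Q) (normalizer_le_zc Q hyQ) W (h.Vp.to_le inf_le_left)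
    (mem_normalizer_inf_cent (h.nT hy) hxy.symm) hQW hWy
  obtain ⟨v, hv, hvr⟩ := exists_order_mem (hQ.to_le (zc_le Q)) (zc_ne_bot hQ hR)
  have hvQ := zc_le Q hv
  have hc1 : ⁅v, y⁆ ≠ 1 := fun e => h.trsk.false h.hr h.hs h.hk h.rs h.rk h.sk hvr hxs hyk
    (mem_centralizer_singleton_iff.1 hvQ.2) (commutatorElement_eq_one_iff_mul_comm.1 e) hxy
  have hcQ : ⁅v, y⁆ ∈ Q := commutator_mem_of_normalizer hvQ hyQ
  have hcW : ⁅v, y⁆ ∈ centralizer (W : Set G) := hle (commutator_mem_commutator hv (mem_zpowers y))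
  obtain ⟨u, hu, hur⟩ := exists_order_mem (hQ.to_le ((zpowers_le).2 hcQ)) (by simpa using hc1)
  obtain ⟨w, hw, hwp⟩ := exists_order_mem (h.Vp.to_le inf_le_left) hV
  exact h.tprs.false h.hp h.hr h.hs h.pr h.ps h.rs hwp hur hxs
    (mem_centralizer_iff.1 (zpowers_le.2 hcW hu) w hw) (mem_centralizer_singleton_iff.1 hw.2)
    (mem_centralizer_singleton_iff.1 (zpowers_le.2 hcQ hu).2)

/-- An element that is fixed-point-free on `V` centralises the centre of the core. -/
theorem Faith.fpf_cent_zc (h : Faith G p r s k V T) {x : G} (hx : x ∈ T) (hxs : orderOf x = s)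
    (hV : V ⊓ centralizer ({x} : Set G) = ⊥) : ∀ v ∈ zc (OP r T), v * x = x * v := by
  haveI := Fact.mk h.hp
  haveI := Fact.mk h.hr
  haveI := Fact.mk h.hs
  haveI := zc_isMulCommutative (OP r T)
  have hn : x ∈ normalizer (zc (OP r T) : Set G) := normalizer_le_zc _ (le_normalizer_OP r T hx)
  have hle := fpf_commutator_le (p := p) (q := r) (r := s) h.pr h.ps h.rs hxs
    ((OP_isPGroup r T).to_le (zc_le _)) (fun _ _ => zc_isMulCommutative _) hn V h.Vp (h.nT hx)
    (((zc_le _).trans (OP_le r T)).trans h.nT) hV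
  intro v hv
  exact commutatorElement_eq_one_iff_mul_comm.1 ((eq_bot_iff_forall _).1 h.faith _
    ⟨OP_le r T (zc_le _ (commutator_mem_of_normalizer hv hn)), hle (commutator_mem_commutator hv (mem_zpowers x))⟩)

/-- No element of order `k` centralises an elementary abelian subgroup of order `s ^ 2`. -/
theorem Faith.no_square (h : Faith G p r s k V T) (hV1 : V ≠ ⊥) (h1 : OP r T ≠ ⊥)
    (hC : T ⊓ centralizer (OP r T : Set G) ≤ OP r T) {A : Subgroup G} (hAT : A ≤ T) (hA2 : Nat.card A = s ^ 2)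
    (hAc : IsMulCommutative ↥A) (hA3 : ∀ a ∈ A, a ^ s = 1) {y : G} (hy : y ∈ T) (hyk : orderOf y = k)
    (hAy : ∀ a ∈ A, a * y = y * a) : False := by
  haveI := Fact.mk h.hp
  haveI := Fact.mk h.hr
  haveI := Fact.mk h.hs
  haveI := hAc
  set R := OP r T
  have hR := OP_isPGroup r T
  have hcent : ∀ a ∈ A, orderOf a = s → R ⊓ centralizer ({a} : Set G) ≠ ⊥ → ∀ v ∈ zc R, v * a = a * v :=
    fun a ha has hne => h.fpf_cent_zc (hAT ha) has (h.fix_bot (hAT ha) hy has hyk (hAy a ha) hne)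
  by_cases hall : A ≤ centralizer (zc R : Set G)
  · obtain ⟨a, ha, has, hfa⟩ := exists_fixed_rankTwo h.hs hA2 hAc hA3 hV1 (hAT.trans h.nT)
      (fun hd => h.ps (eq_of_dvd_prime_pow_card h.Vp h.hp h.hs hd).symm)
    refine hfa (h.fix_bot (hAT ha) hy has hyk (hAy a ha) fun e => zc_ne_bot hR h1 (eq_bot_iff.2 ?_))
    rw [← e]
    exact fun v hv => ⟨zc_le R hv, mem_centralizer_singleton_iff.2 (mem_centralizer_iff.1 (hall ha) v hv)⟩
  obtain ⟨a0, ha0, ha0s, hfa0⟩ := exists_fixed_rankTwo h.hs hA2 hAc hA3 h1 (hAT.trans (le_normalizer_OP r T))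
    (fun hd => h.rs (eq_of_dvd_prime_pow_card hR h.hr h.hs hd).symm)
  have hW : A ⊓ centralizer (zc R : Set G) = zpowers a0 := by
    refine (Subgroup.eq_of_le_of_card_ge (zpowers_le.2 (mem_inf.2 ⟨ha0, mem_centralizer_iff.2 (hcent a0 ha0 ha0s hfa0)⟩)) ?_).symm
    rw [Nat.card_zpowers, ha0s]
    obtain ⟨i, hi, hi'⟩ := (Nat.dvd_prime_pow h.hs).1
      (hA2 ▸ card_dvd_of_le (inf_le_left : A ⊓ centralizer (zc R : Set G) ≤ A))
    rcases Nat.lt_or_ge i 2 with hi2 | hi2
    · rw [hi']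
      exact (Nat.pow_le_pow_right h.hs.pos (Nat.le_of_lt_succ hi2)).trans_eq (pow_one s)
    · exact absurd (inf_eq_left.1 (Subgroup.eq_of_le_of_card_ge inf_le_left (by
        rw [hA2, hi', le_antisymm hi hi2]))) hall
  have hgen := Grp.generated_by_centralizers A R (not_isCyclic_of_elem h.hs hA2 hA3)
    (hAT.trans (le_normalizer_OP r T)) (by
      obtain ⟨n, hn⟩ := IsPGroup.iff_card.1 hR
      rw [hA2, hn]; exact ((Nat.coprime_primes h.hs h.hr).2 h.rs.symm).pow 2 n)
  have hRa : R ≤ centralizer ({a0} : Set G) := by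
    rw [← hgen]
    refine iSup₂_le fun a ha => ?_
    by_cases hne : R ⊓ centralizer ({a} : Set G) = ⊥
    · rw [hne]; exact bot_le
    have has : orderOf a = s := orderOf_eq_prime (hA3 a ha.1) ha.2
    have hmem : a ∈ zpowers a0 := hW ▸ (show a ∈ A ⊓ centralizer (zc R : Set G) from
      ⟨ha.1, mem_centralizer_iff.2 (hcent a ha.1 has hne)⟩)
    have he : zpowers a = zpowers a0 := Subgroup.eq_of_le_of_card_ge (zpowers_le.2 hmem)
      (by rw [Nat.card_zpowers, Nat.card_zpowers, has, ha0s])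
    rw [Grp.centralizer_singleton_eq_zpowers a, he, ← Grp.centralizer_singleton_eq_zpowers a0]
    exact inf_le_right
  have ha0R : a0 ∈ R := hC ⟨hAT ha0, mem_centralizer_iff.2 fun v hv => mem_centralizer_singleton_iff.1 (hRa hv)⟩
  exact h.rs (eq_of_dvd_prime_pow_card hR h.hr h.hs (ha0s ▸ R.orderOf_dvd_natCard ha0R)).symm

/-- An element of order `k` with a partner centralises the `s`-subgroups it normalises. -/
theorem Faith.centralizes (h : Faith G p r s k V T) (hC : T ⊓ centralizer (OP r T : Set G) ≤ OP r T) {x y : G}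
    (hx : x ∈ T) (hy : y ∈ T) (hxs : orderOf x = s) (hyk : orderOf y = k) (hxy : x * y = y * x) {Q : Subgroup G}
    (hQT : Q ≤ T) (hQ : IsPGroup s ↥Q) (hexc : s = 2 → IsMulCommutative ↥Q) (hyQ : y ∈ normalizer (Q : Set G)) :
    ∀ v ∈ Q, v * y = y * v := by
  haveI := Fact.mk h.hp
  haveI := Fact.mk h.hr
  haveI := Fact.mk h.hs
  haveI := Fact.mk h.hk
  intro v hv
  have hvy : ⁅v, y⁆ ∈ Q := commutator_mem_of_normalizer hv hyQ
  refine commutatorElement_eq_one_iff_mul_comm.1 ?_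
  by_cases hR : OP r T ⊓ centralizer ({y} : Set G) = ⊥
  · have hle := fpf_commutator_le (p := r) (q := s) (r := k) h.rs h.rk h.sk hyk hQ (fun e _ => hexc e) hyQ
      (OP r T) (OP_isPGroup r T) (le_normalizer_OP r T hy) (hQT.trans (le_normalizer_OP r T)) hR
    exact disjoint_def.1 (IsPGroup.disjoint_of_ne r s h.rs _ _ (OP_isPGroup r T) hQ)
      (hC ⟨hQT hvy, hle (commutator_mem_commutator hv (mem_zpowers y))⟩) hvy
  · have hle := fpf_commutator_le (p := p) (q := s) (r := k) h.ps h.pk h.sk hyk hQ (fun e _ => hexc e) hyQ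
      V h.Vp (h.nT hy) (hQT.trans h.nT) (h.swapSK.fix_bot hy hx hyk hxs hxy.symm hR)
    exact (eq_bot_iff_forall _).1 h.faith _ ⟨hQT hvy, hle (commutator_mem_commutator hv (mem_zpowers y))⟩

theorem Faith.step (h : Faith G p r s k V T) (hV1 : V ≠ ⊥) (h1 : OP r T ≠ ⊥)
    (hC : T ⊓ centralizer (OP r T : Set G) ≤ OP r T) {H : Subgroup G} [Group.IsSolvable ↥H] (hHT : H ≤ T)
    (hHp : ∀ t : ℕ, t.Prime → t ∣ Nat.card H → t = s ∨ t = k) (hK : RankTwo k H) {x y : G} (hx : x ∈ H) (hy : y ∈ H)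
    (hxs : orderOf x = s) (hyk : orderOf y = k) (hxy : x * y = y * x) (h0 : OP s H ≠ ⊥) :
    k ∣ s - 1 ∧ OP k H ≠ ⊥ := by
  haveI := Fact.mk h.hs
  haveI := Fact.mk h.hk
  set Q := OP s H
  have hQH : Q ≤ H := OP_le s H
  have hQ : IsPGroup s ↥Q := OP_isPGroup s H
  haveI := zc_isMulCommutative Q
  have hzy : ∀ v ∈ zc Q, v * y = y * v := h.centralizes hC (hHT hx) (hHT hy) hxs hyk hxy
    ((zc_le Q).trans (hQH.trans hHT)) (hQ.to_le (zc_le Q)) (fun _ => zc_isMulCommutative Q)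
    (normalizer_le_zc Q (le_normalizer_OP s H hy))
  obtain ⟨A, hA, hA2, hAc, hA3⟩ | ⟨v, hv, hvs, huniq, -⟩ := unique_or_rankTwo (hQ.to_le (zc_le Q)) (zc_ne_bot hQ h0)
  · exact (h.no_square hV1 h1 hC ((hA.trans (zc_le Q)).trans (hQH.trans hHT)) hA2 hAc hA3 (hHT hy) hyk
      fun a ha => hzy a (hA ha)).elim
  have hvn : H ≤ normalizer (zpowers v : Set G) := fun g hg => by
    refine mem_normalizer_fintype fun w hw => ?_
    obtain ⟨i, rfl⟩ := mem_zpowers_iff.1 hw
    rw [← conj_zpow]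
    exact zpow_mem (huniq _ (Grp.mem_conj_normalizer (normalizer_le_zc Q (le_normalizer_OP s H hg)) hv)
      (by rw [orderOf_conj, hvs])) i
  obtain ⟨F, hF, hF2, hFc, hF3⟩ := hK
  have hmove : ∃ f ∈ F, f * v ≠ v * f := by
    by_contra hcon
    push Not at hcon
    exact h.swapSK.no_square hV1 h1 hC (hF.trans hHT) hF2 hFc hF3 (hHT (hQH (zc_le Q hv))) hvs hcon
  obtain ⟨f, hf, hfv⟩ := hmove
  have hf1 : f ≠ 1 := fun e => hfv (by rw [e, one_mul, mul_one])
  have hdvd := dvd_sub_one_of_moves h.hs h.hk hvs (orderOf_eq_prime (hF3 f hf) hf1) (hvn (hF hf)) hfv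
  have hs2 : s ≠ 2 := fun e => by
    rw [e] at hdvd
    exact h.hk.one_lt.ne' (Nat.dvd_one.1 hdvd)
  refine ⟨hdvd, fun hbot => ?_⟩
  have hyc : ∀ w ∈ Q, w * y = y * w := h.centralizes hC (hHT hx) (hHT hy) hxs hyk hxy
    (hQH.trans hHT) hQ (fun e => absurd e hs2) (le_normalizer_OP s H hy)
  have hyQ : y ∈ Q := by
    refine cent_cores_le H Q (fun t ht => ?_) hy (fun t ht w hw => ?_)
    · haveI := Fact.mk ht
      by_cases h3 : OP t H = ⊥
      · rw [h3]; exact bot_le
      rcases hHp t ht (OP_dvd_card h3) with rfl | rfl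
      · exact le_rfl
      · exact absurd hbot h3
    · haveI := Fact.mk ht
      by_cases h3 : OP t H = ⊥
      · rw [h3, mem_bot] at hw; rw [hw, mul_one, one_mul]
      rcases hHp t ht (OP_dvd_card h3) with rfl | rfl
      · exact (hyc w hw).symm
      · exact absurd hbot h3
  exact h.sk (eq_of_dvd_prime_pow_card hQ h.hs h.hk (hyk ▸ Q.orderOf_dvd_natCard hyQ)).symm

theorem RankTwo.to_hall {a : ℕ} (ha : a.Prime) {π : Finset ℕ} (haπ : a ∈ π) {T : Subgroup G} {H0 : Subgroup ↥T}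
    (hH0c : ∀ K : Subgroup ↥T, (∀ q : ℕ, q.Prime → q ∣ Nat.card K → q ∈ π) → ∃ g : ↥T, ∀ x ∈ K, g * x * g⁻¹ ∈ H0)
    (h : RankTwo a T) : RankTwo a (H0.map T.subtype) := by
  obtain ⟨A, hAT, hA2, hAc, hA3⟩ := h
  obtain ⟨g, hg⟩ := hH0c (A.subgroupOf T) fun t ht hd => by
    rw [Nat.card_congr (subgroupOfEquivOfLe hAT).toEquiv, hA2] at hd
    rwa [(Nat.prime_dvd_prime_iff_eq ht ha).1 (ht.dvd_of_dvd_pow hd)]
  refine ⟨A.map (MulAut.conj (g : G)).toMonoidHom, ?_, ?_, ?_, ?_⟩
  · rintro _ ⟨b, hb, rfl⟩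
    exact ⟨_, hg ⟨b, hAT hb⟩ hb, rfl⟩
  · rw [card_map_of_injective (MulAut.conj (g : G)).injective, hA2]
  · refine ⟨⟨?_⟩⟩
    rintro ⟨_, b, hb, rfl⟩ ⟨_, c, hc, rfl⟩
    exact Subtype.ext (show _ * _ = _ * _ by
      rw [← map_mul, ← map_mul]; exact congrArg _ (congrArg Subtype.val (hAc.is_comm.comm ⟨b, hb⟩ ⟨c, hc⟩)))
  · rintro _ ⟨b, hb, rfl⟩
    rw [← map_pow, hA3 b hb, map_one]

theorem Faith.oneCore [Group.IsSolvable ↥T] (h : Faith G p r s k V T) (hV1 : V ≠ ⊥) (h1 : OP r T ≠ ⊥)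
    (h2 : OP s T = ⊥) (h3 : OP k T = ⊥) : False := by
  haveI := Fact.mk h.hr
  haveI := Fact.mk h.hs
  haveI := Fact.mk h.hk
  have hC : T ⊓ centralizer (OP r T : Set G) ≤ OP r T := fun w hw => by
    refine cent_cores_le T (OP r T) (fun t ht => ?_) hw.1 (fun t ht v hv => ?_)
    · haveI := Fact.mk ht
      by_cases h4 : OP t T = ⊥
      · rw [h4]; exact bot_le
      rcases h.primes t ht (OP_dvd_card h4) with rfl | rfl | rfl
      · exact le_rfl
      · exact absurd h2 h4
      · exact absurd h3 h4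
    · haveI := Fact.mk ht
      by_cases h4 : OP t T = ⊥
      · rw [h4, mem_bot] at hv; rw [hv, mul_one, one_mul]
      rcases h.primes t ht (OP_dvd_card h4) with rfl | rfl | rfl
      · exact (mem_centralizer_iff.1 hw.2 v hv).symm
      · exact absurd h2 h4
      · exact absurd h3 h4
  obtain ⟨H0, hH0, hH0c⟩ := exists_hallSub (G := ↥T) {s, k}
  set H := H0.map T.subtype
  have hHT : H ≤ T := map_subtype_le _
  haveI : Group.IsSolvable ↥H := Grp.isSolvable_of_le hHT inferInstance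
  have hHp : ∀ t : ℕ, t.Prime → t ∣ Nat.card H → t = s ∨ t = k := fun t ht hd => by
    rw [card_map_of_injective T.subtype_injective] at hd
    simpa using hH0 t ht hd
  have hS : RankTwo s H := h.rankS.to_hall h.hs (by simp) hH0c
  have hK : RankTwo k H := h.rankK.to_hall h.hk (by simp) hH0c
  obtain ⟨g0, hg0T, hg0⟩ := h.psk
  set g1 := g0 ^ (orderOf g0 / (s * k))
  have hg1 : orderOf g1 = s * k := orderOf_pow_orderOf_div (orderOf_pos g0).ne' hg0
  have hg1T : g1 ∈ T := pow_mem hg0T _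
  obtain ⟨c, hc⟩ := hH0c (zpowers (⟨g1, hg1T⟩ : ↥T)) fun t ht hd => by
    rw [Nat.card_zpowers, Subgroup.orderOf_mk, hg1] at hd
    rcases (Nat.Prime.dvd_mul ht).1 hd with e | e
    · simp [(Nat.prime_dvd_prime_iff_eq ht h.hs).1 e]
    · simp [(Nat.prime_dvd_prime_iff_eq ht h.hk).1 e]
  have hg2H : (c : G) * g1 * (c : G)⁻¹ ∈ H := ⟨_, hc _ (mem_zpowers _), rfl⟩
  set g2 := (c : G) * g1 * (c : G)⁻¹
  have hg2 : orderOf g2 = s * k := by rw [orderOf_conj, hg1]
  obtain ⟨i, hi⟩ := exists_pow_orderOf (orderOf_pos g2) (hg2 ▸ dvd_mul_right s k)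
  obtain ⟨j, hj⟩ := exists_pow_orderOf (orderOf_pos g2) (hg2 ▸ dvd_mul_left k s)
  have hij : g2 ^ i * g2 ^ j = g2 ^ j * g2 ^ i := ((Commute.refl g2).pow_pow i j).eq
  have hHne : H ≠ ⊥ := fun e => by
    have h5 : g2 ^ i = 1 := (eq_bot_iff_forall _).1 e _ (pow_mem hg2H i)
    rw [h5, orderOf_one] at hi
    exact h.hs.one_lt.ne hi
  have hstep := h.step hV1 h1 hC hHT hHp hK (pow_mem hg2H i) (pow_mem hg2H j) hi hj hij
  have hstep' := h.swapSK.step hV1 h1 hC hHT (fun t a b => (hHp t a b).symm) hS (pow_mem hg2H j) (pow_mem hg2H i)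
    hj hi hij.symm
  obtain ⟨t, ht, htne⟩ := exists_OP_ne_bot hHne
  haveI := Fact.mk ht
  have := h.hs.two_le
  have := h.hk.two_le
  rcases hHp t ht (OP_dvd_card htne) with rfl | rfl
  · obtain ⟨a, b⟩ := hstep htne
    have := Nat.le_of_dvd (by omega) a
    have := Nat.le_of_dvd (by omega) (hstep' b).1
    omega
  · obtain ⟨a, b⟩ := hstep' htne
    have := Nat.le_of_dvd (by omega) a
    have := Nat.le_of_dvd (by omega) (hstep b).1
    omega

theorem Faith.of_core [Group.IsSolvable ↥T] (h : Faith G p r s k V T) (hV1 : V ≠ ⊥) (h1 : OP r T ≠ ⊥) : False := by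
  by_cases h2 : OP s T = ⊥
  · by_cases h3 : OP k T = ⊥
    · exact h.oneCore hV1 h1 h2 h3
    · by_cases a : RankTwo r (OP r T)
      · by_cases b : RankTwo k (OP k T)
        · exact h.swapSK.not_both hV1 a b
        · exact h.swapSK.swapRS.rankOne h3 h1 b
      · exact h.swapSK.rankOne h1 h3 a
  · by_cases a : RankTwo r (OP r T)
    · by_cases b : RankTwo s (OP s T)
      · exact h.not_both hV1 a b
      · exact h.swapRS.rankOne h2 h1 b
    · exact h.rankOne h1 h2 a

/-- Three further primes with all pairs and no triangle cannot act faithfully on a `p`-group. -/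
theorem Faith.false [Group.IsSolvable ↥T] (h : Faith G p r s k V T) (hV1 : V ≠ ⊥) : False := by
  have hT : T ≠ ⊥ := fun e => by
    obtain ⟨A, hA, hA2, -, -⟩ := h.rankR
    have h1 : 1 < r ^ 2 := Nat.one_lt_pow two_ne_zero h.hr.one_lt
    rw [e, le_bot_iff] at hA
    rw [hA, card_bot] at hA2
    omega
  obtain ⟨t, ht, htne⟩ := exists_OP_ne_bot hT
  haveI := Fact.mk ht
  rcases h.primes t ht (OP_dvd_card htne) with rfl | rfl | rfl
  · exact h.of_core hV1 htne
  · exact h.swapRS.of_core hV1 htne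
  · exact h.swapSK.swapRS.of_core hV1 htne

end Cfsg.Agent.Recog.SzSquare
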