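import Mathlib

/-!
# Automorphisms of finite abelian groups: norms and fixed points

Elementary substitutes for the freeness of modules over Frobenius groups and elementary two-groups.
-/

set_option autoImplicit false
set_option linter.style.haveILetI false

open Subgroup Finset

namespace Cfsg.Agent.Recog.SzSquare

universe u v

variable {W : Type u} [CommGroup W]

/-- The fixed points of an automorphism. -/
def fixd (a : MulAut W) : Subgroup W where
  carrier := {v | a v = v}
  one_mem' := map_one a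
  mul_mem' {x y} hx hy := by show a (x * y) = x * y; rw [map_mul, show a x = x from hx, show a y = y from hy]
  inv_mem' {x} hx := by show a x⁻¹ = x⁻¹; rw [map_inv, show a x = x from hx]

theorem mem_fixd {a : MulAut W} {v : W} : v ∈ fixd a ↔ a v = v := Iff.rfl

/-- The automorphisms preserving a subgroup. -/
def pres (S : Subgroup W) : Subgroup (MulAut W) where
  carrier := {a | ∀ v, a v ∈ S ↔ v ∈ S}
  one_mem' v := Iff.rfl
  mul_mem' {a b} ha hb v := (ha (b v)).trans (hb v)
  inv_mem' {a} ha v := by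
    have h := ha (a⁻¹ v)
    rw [MulAut.apply_inv_self] at h
    exact h.symm

theorem mem_pres_top (a : MulAut W) : a ∈ pres (⊤ : Subgroup W) := fun _ => iff_of_true trivial trivial

theorem pow_fix {a : MulAut W} {v : W} (h : a v = v) : ∀ n : ℕ, (a ^ n) v = v
  | 0 => by rw [pow_zero]; rfl
  | n + 1 => by rw [pow_succ, MulAut.mul_apply, h, pow_fix h n]

theorem zpow_fix {a : MulAut W} {v : W} (h : a v = v) (n : ℤ) : (a ^ n) v = v := by
  obtain ⟨n, rfl | rfl⟩ := n.eq_nat_or_neg
  · rw [zpow_natCast]; exact pow_fix h n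
  · rw [zpow_neg, zpow_natCast]
    exact (a ^ n).injective ((MulAut.apply_inv_self _ _ _).trans (pow_fix h n).symm)

variable [Finite W]

/-- A coprime operator moving `v` to a multiple by a fixed element fixes `v`. -/
theorem div_fixed {b : ℕ} (hb : b.Prime) {S : Subgroup W} (hbS : ¬ b ∣ Nat.card S) {y : MulAut W} (hy : y ^ b = 1)
    {v : W} (hv : v ∈ S) (hyS : y ∈ pres S) (h : y (y v / v) = y v / v) : y v = v := by
  set u := y v / v with hu
  have hyv : y v = u * v := by rw [hu, div_mul_cancel]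
  have hn : ∀ n : ℕ, (y ^ n) v = u ^ n * v := by
    intro n
    induction n with
    | zero => rw [pow_zero, pow_zero, one_mul]; rfl
    | succ n ih =>
      rw [pow_succ, MulAut.mul_apply, hyv, map_mul, pow_fix h, ih, ← mul_assoc, ← pow_succ']
  have hb1 : u ^ b = 1 := by
    have h1 := hn b
    rw [hy, MulAut.one_apply] at h1
    exact mul_eq_right.1 h1.symm
  have huS : u ∈ S := div_mem ((hyS v).2 hv) hv
  have hu1 : u = 1 := by
    rcases (Nat.dvd_prime hb).1 (orderOf_dvd_of_pow_eq_one hb1) with e | e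
    · exact orderOf_eq_one_iff.1 e
    · exact absurd (e ▸ S.orderOf_dvd_natCard huS) hbS
  rw [hyv, hu1, one_mul]

/-- Vandermonde: distinct powers of an operator of prime order. -/
theorem vander {b : ℕ} (hb : b.Prime) {S : Subgroup W} (hbS : ¬ b ∣ Nat.card S) {x : MulAut W} (hx : x ^ b = 1)
    (hxS : x ∈ pres S) : ∀ (n : ℕ) (X : ℕ → MulAut W) (h : ℕ → W), (∀ j, X j ∈ zpowers x) →
      (∀ i < n, ∀ j < n, i ≠ j → X i ≠ X j) → (∀ j, h j ∈ S) →
      (∀ i < n, ∏ j ∈ range n, (X j ^ i) (h j) = 1) → 0 < n → x (h 0) = h 0 := by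
  intro n
  induction n with
  | zero => intro _ _ _ _ _ _ h0; omega
  | succ n ih =>
    intro X h hX hne hS hprod _
    rcases Nat.eq_zero_or_pos n with rfl | hn
    · have h1 := hprod 0 (by omega)
      rw [prod_range_one, pow_zero, MulAut.one_apply] at h1
      rw [h1, map_one]
    have hXS : ∀ j, X j ∈ pres S := fun j => zpowers_le.2 hxS (hX j)
    have hcomm : ∀ j l, Commute (X j) (X l) := fun j l => by
      obtain ⟨a, ha⟩ := mem_zpowers_iff.1 (hX j)
      obtain ⟨c, hc⟩ := mem_zpowers_iff.1 (hX l)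
      rw [← ha, ← hc]; exact Commute.zpow_zpow_self x a c
    have h2 := ih X (fun j => X j (h j) / X n (h j)) hX (fun i hi j hj => hne i (by omega) j (by omega))
      (fun j => div_mem ((hXS j _).2 (hS j)) ((hXS n _).2 (hS j))) (fun i hi => by
        have e1 := hprod (i + 1) (by omega)
        have e2 := congrArg (X n) (hprod i (by omega))
        rw [map_one, map_prod] at e2
        have e3 : ∏ j ∈ range (n + 1), (X j ^ i) (X j (h j) / X n (h j)) = 1 := by
          have e4 : ∀ j, (X j ^ i) (X j (h j) / X n (h j)) = (X j ^ (i + 1)) (h j) / X n ((X j ^ i) (h j)) := fun j => by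
            rw [map_div, pow_succ]
            congr 1
            exact DFunLike.congr_fun ((hcomm j n).pow_left i).eq (h j)
          simp only [e4, prod_div_distrib]
          rw [e1, e2, div_one]
        rwa [prod_range_succ, div_self', map_one, mul_one] at e3) hn
    set y := (X n)⁻¹ * X 0
    have hy1 : y ≠ 1 := fun e => hne n (by omega) 0 (by omega) (by omega) (inv_mul_eq_one.1 e)
    have hyx : y ∈ zpowers x := mul_mem (inv_mem (hX n)) (hX 0)
    have hyb : y ^ b = 1 := by
      obtain ⟨a, ha⟩ := mem_zpowers_iff.1 hyx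
      rw [← ha, ← zpow_natCast, ← zpow_mul, mul_comm, zpow_mul, zpow_natCast, hx, one_zpow]
    obtain ⟨a, ha⟩ := mem_zpowers_iff.1 hyx
    have hfix : y (y (h 0) / h 0) = y (h 0) / h 0 := by
      obtain ⟨c, hc⟩ := mem_zpowers_iff.1 (inv_mem (hX n) : (X n)⁻¹ ∈ zpowers x)
      have e : y (h 0) / h 0 = (X n)⁻¹ (X 0 (h 0) / X n (h 0)) := by
        rw [map_div, MulAut.inv_apply_self]; rfl
      rw [e, ← hc, zpow_fix h2 c, ← ha, zpow_fix h2 a]
    have hv := div_fixed hb hbS hyb (hS 0) (zpowers_le.2 hxS hyx) hfix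
    haveI := Fact.mk hb
    have hxy : x ∈ zpowers y :=
      mem_zpowers_of_prime_card (G := ↥(zpowers x)) (p := b) (g := (⟨y, hyx⟩ : ↥(zpowers x)))
        (g' := ⟨x, mem_zpowers x⟩) (by
          rw [Nat.card_zpowers, orderOf_eq_prime hx fun e => hy1 (by simpa [e] using hyx)])
        (fun e => hy1 (congrArg Subtype.val e)) |> fun hm => by
          obtain ⟨d, hd⟩ := mem_zpowers_iff.1 hm
          exact ⟨d, by simpa using congrArg Subtype.val hd⟩
    obtain ⟨d, hd⟩ := mem_zpowers_iff.1 hxy
    rw [← hd]; exact zpow_fix hv d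

/-- The relations of a Frobenius group with cyclic complement, on automorphisms. -/
structure FrobAut (b n k : ℕ) (x g : MulAut W) : Prop where
  prime : b.Prime
  pos : 0 < n
  hx : x ^ b = 1
  hg : g ^ n = 1
  conj : g * x * g⁻¹ = x ^ k
  dist : ∀ i < n, ∀ j < n, i ≠ j → x ^ (k ^ i) ≠ x ^ (k ^ j)

theorem FrobAut.conj_pow {b n k : ℕ} {x g : MulAut W} (h : FrobAut b n k x g) :
    ∀ j i : ℕ, g ^ j * x ^ i = (x ^ (k ^ j)) ^ i * g ^ j := by
  intro j
  induction j with
  | zero => intro i; simp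
  | succ j ih =>
    intro i
    have h1 : g * x ^ i = (x ^ k) ^ i * g := by
      rw [← h.conj, _root_.conj_pow, inv_mul_cancel_right]
    rw [pow_succ g j, mul_assoc, h1, ← pow_mul, ← mul_assoc, ih (k * i), mul_assoc]
    congr 1
    rw [← pow_mul, ← pow_mul, pow_succ, mul_assoc]

/-- Vanishing of all norms forces a trivial action. -/
theorem FrobAut.norm_zero {b n k : ℕ} {x g : MulAut W} (h : FrobAut b n k x g) {S : Subgroup W}
    (hbS : ¬ b ∣ Nat.card S) (hxS : x ∈ pres S) (hgS : g ∈ pres S) {v : W} (hv : v ∈ S)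
    (hN : ∀ i < n, ∏ j ∈ range n, (g ^ j) ((x ^ i) v) = 1) : x v = v := by
  have h1 := vander h.prime hbS h.hx hxS n (fun j => x ^ (k ^ j)) (fun j => (g ^ j) v)
    (fun j => npow_mem_zpowers x _) h.dist (fun j => ((pow_mem hgS j) v).2 hv) (fun i hi => ?_) h.pos
  · rwa [pow_zero, MulAut.one_apply] at h1
  · refine Eq.trans (prod_congr rfl fun j _ => ?_) (hN i hi)
    show ((x ^ k ^ j) ^ i * g ^ j) v = (g ^ j * x ^ i) v
    rw [h.conj_pow]

theorem norm_fixed {n : ℕ} {g : MulAut W} (hg : g ^ n = 1) (w : W) :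
    g (∏ j ∈ range n, (g ^ j) w) = ∏ j ∈ range n, (g ^ j) w := by
  have h1 : g (∏ j ∈ range n, (g ^ j) w) * w = (∏ j ∈ range n, (g ^ j) w) * (g ^ n) w := by
    rw [← prod_range_succ (fun j => (g ^ j) w), prod_range_succ', map_prod, pow_zero, MulAut.one_apply]
    exact congrArg (· * w) (prod_congr rfl fun j _ => by rw [pow_succ', MulAut.mul_apply])
  rw [hg, MulAut.one_apply] at h1
  exact mul_right_cancel h1

/-- With a fixed-point-free kernel the complement has many fixed points. -/
theorem FrobAut.card_le {b n k : ℕ} {x g : MulAut W} (h : FrobAut b n k x g) {S : Subgroup W}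
    (hbS : ¬ b ∣ Nat.card S) (hxS : x ∈ pres S) (hgS : g ∈ pres S) (hfpf : S ⊓ fixd x = ⊥) :
    Nat.card S ≤ Nat.card ↥(S ⊓ fixd g) ^ n := by
  let f : ↥S → Fin n → ↥(S ⊓ fixd g) := fun v i =>
    ⟨∏ j ∈ range n, (g ^ j) ((x ^ (i : ℕ)) v), Subgroup.prod_mem _ fun j _ =>
      ((pow_mem hgS j) _).2 (((pow_mem hxS _) _).2 v.2), norm_fixed h.hg _⟩
  have hf : Function.Injective f := by
    intro v w e
    have h1 : (v : W) / w ∈ S := div_mem v.2 w.2
    have h2 := h.norm_zero hbS hxS hgS h1 fun i hi => by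
      have := congrArg Subtype.val (congrFun e ⟨i, hi⟩)
      simp only [f] at this
      simp only [map_div, prod_div_distrib, this, div_self']
    have h3 : (v : W) / w = 1 := (Subgroup.eq_bot_iff_forall _).1 hfpf _ ⟨h1, h2⟩
    exact Subtype.ext (div_eq_one.1 h3)
  have := Nat.card_le_card_of_injective f hf
  rwa [Nat.card_fun, Nat.card_fin] at this

/-- Inversion. -/
def invAut (W : Type u) [CommGroup W] : MulAut W := MulEquiv.inv W

theorem invAut_apply (v : W) : invAut W v = v⁻¹ := rfl

theorem invAut_comm (a : MulAut W) : Commute (invAut W) a :=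
  MulEquiv.ext fun v => (map_inv a v).symm

theorem invAut_sq : invAut W * invAut W = 1 := MulEquiv.ext fun v => inv_inv v

theorem invAut_mem_pres (S : Subgroup W) : invAut W ∈ pres S := fun v => by rw [invAut_apply]; exact inv_mem_iff

theorem mem_fixd_inv {a : MulAut W} {v : W} : v ∈ fixd (invAut W * a) ↔ a v = v⁻¹ := by
  rw [mem_fixd, MulAut.mul_apply, invAut_apply, inv_eq_iff_eq_inv]

theorem FrobAut.twist {b n k : ℕ} {x g : MulAut W} (h : FrobAut b n k x g) (hn : Even n) :
    FrobAut b n k x (invAut W * g) where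
  prime := h.prime
  pos := h.pos
  hx := h.hx
  dist := h.dist
  hg := by
    obtain ⟨c, rfl⟩ := hn
    rw [(invAut_comm g).mul_pow, h.hg, mul_one, ← two_mul, pow_mul, pow_two, invAut_sq, one_pow]
  conj := by
    rw [mul_inv_rev, show invAut W * g * x * (g⁻¹ * (invAut W)⁻¹) = invAut W * (g * x * g⁻¹) * (invAut W)⁻¹ by group,
      h.conj, (invAut_comm (x ^ k)).eq, mul_inv_cancel_right]

/-- An involution splits a group of odd order into fixed and inverted elements. -/
theorem card_split {S : Subgroup W} (hodd : Odd (Nat.card S)) {s : MulAut W} (hsS : s ∈ pres S)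
    (h2 : ∀ v ∈ S, s (s v) = v) :
    Nat.card ↥(S ⊓ fixd s) * Nat.card ↥(S ⊓ fixd (invAut W * s)) = Nat.card S := by
  set A := S ⊓ fixd s
  set B := S ⊓ fixd (invAut W * s)
  rw [← Nat.card_prod]
  let f : ↥A × ↥B → ↥S := fun p => ⟨(p.1 : W) * p.2, mul_mem p.1.2.1 p.2.2.1⟩
  have hsq : ∀ v ∈ S, v ^ 2 = 1 → v = 1 := fun v hv e => by
    rcases (Nat.dvd_prime Nat.prime_two).1 (orderOf_dvd_of_pow_eq_one e) with e' | e'
    · exact orderOf_eq_one_iff.1 e'
    · exact absurd (e' ▸ S.orderOf_dvd_natCard hv) hodd.not_two_dvd_nat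
  refine Nat.card_eq_of_bijective f ⟨fun p q e => ?_, fun v => ?_⟩
  · have e1 : (p.1 : W) * p.2 = q.1 * q.2 := congrArg Subtype.val e
    have e2 := congrArg s e1
    rw [map_mul, map_mul, mem_fixd.1 p.1.2.2, mem_fixd.1 q.1.2.2, mem_fixd_inv.1 p.2.2.2, mem_fixd_inv.1 q.2.2.2,
      ← div_eq_mul_inv, ← div_eq_mul_inv] at e2
    have e3 : ((p.1 : W) / q.1) ^ 2 = 1 := by
      have := congrArg₂ (· * ·) e1 e2
      simp only [mul_mul_div_cancel] at this
      rw [div_pow, pow_two, pow_two, this, div_self']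
    have e4 := div_eq_one.1 (hsq _ (div_mem p.1.2.1 q.1.2.1) e3)
    rw [e4, mul_right_inj] at e1
    exact Prod.ext (Subtype.ext e4) (Subtype.ext e1)
  · obtain ⟨c, hc⟩ := hodd
    have hroot : ∀ w ∈ S, (w ^ (c + 1)) ^ 2 = w := fun w hw => by
      rw [← pow_mul, show (c + 1) * 2 = Nat.card S + 1 by omega, pow_succ,
        orderOf_dvd_iff_pow_eq_one.1 (S.orderOf_dvd_natCard hw), one_mul]
    have hsv : s v ∈ S := (hsS _).2 v.2
    have ha : ((v : W) * s v) ^ (c + 1) ∈ A := ⟨pow_mem (mul_mem v.2 hsv) _, by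
      show s _ = _
      rw [map_pow, map_mul, h2 _ v.2, mul_comm]⟩
    have hb : ((v : W) / s v) ^ (c + 1) ∈ B := ⟨pow_mem (div_mem v.2 hsv) _, mem_fixd_inv.2 (by
      rw [map_pow, map_div, h2 _ v.2, ← inv_pow, inv_div])⟩
    refine ⟨(⟨_, ha⟩, ⟨_, hb⟩), Subtype.ext ?_⟩
    show ((v : W) * s v) ^ (c + 1) * ((v : W) / s v) ^ (c + 1) = v
    rw [← mul_pow, mul_mul_div_cancel, ← pow_two, ← pow_mul, mul_comm 2, pow_mul, hroot _ v.2]

/-- Both eigenspaces of an inverting involution are halves. -/
theorem FrobAut.half {b k : ℕ} {x s : MulAut W} (h : FrobAut b 2 k x s) {S : Subgroup W} (hodd : Odd (Nat.card S))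
    (hbS : ¬ b ∣ Nat.card S) (hxS : x ∈ pres S) (hsS : s ∈ pres S) (hfpf : S ⊓ fixd x = ⊥) :
    Nat.card ↥(S ⊓ fixd s) ^ 2 = Nat.card S := by
  have h2 : ∀ v ∈ S, s (s v) = v := fun v _ => by rw [← MulAut.mul_apply, ← pow_two, h.hg]; rfl
  have e := card_split hodd hsS h2
  have e1 := h.card_le hbS hxS hsS hfpf
  have e2 := (h.twist even_two).card_le hbS hxS (mul_mem (invAut_mem_pres S) hsS) hfpf
  refine le_antisymm ?_ e1
  have hpos : 0 < Nat.card S := Nat.card_pos
  refine Nat.le_of_mul_le_mul_right (c := Nat.card S) ?_ hpos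
  calc Nat.card ↥(S ⊓ fixd s) ^ 2 * Nat.card S
      ≤ Nat.card ↥(S ⊓ fixd s) ^ 2 * Nat.card ↥(S ⊓ fixd (invAut W * s)) ^ 2 := Nat.mul_le_mul_left _ e2
    _ = Nat.card S * Nat.card S := by rw [← mul_pow, e, pow_two]

/-- A fixed-point-free kernel makes an operator of order four have a quarter of fixed points. -/
theorem FrobAut.quarter {b k : ℕ} {x g : MulAut W} (h : FrobAut b 4 k x g) {S : Subgroup W}
    (hodd : Odd (Nat.card S)) (hbS : ¬ b ∣ Nat.card S) (hxS : x ∈ pres S) (hgS : g ∈ pres S)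
    (hfpf : S ⊓ fixd x = ⊥) :
    Nat.card ↥(S ⊓ fixd (g * g)) ^ 2 = Nat.card S ∧ Nat.card ↥(S ⊓ fixd g) ^ 4 = Nat.card S := by
  have hs : FrobAut b 2 (k * k) x (g * g) :=
    { prime := h.prime, pos := two_pos, hx := h.hx
      hg := by rw [pow_two, ← h.hg]; simp [pow_succ, mul_assoc]
      conj := by
        rw [← pow_two, ← pow_one x, h.conj_pow, pow_one, pow_one, mul_inv_cancel_right, pow_two]
      dist := fun i hi j hj hij e => by
        refine h.dist (2 * i) (by omega) (2 * j) (by omega) (by omega) ?_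
        rw [pow_mul, pow_mul, pow_two]; exact e }
  have hS2 := mul_mem hgS hgS
  have e1 := hs.half hodd hbS hxS hS2 hfpf
  refine ⟨e1, ?_⟩
  have hle : ∀ {g' : MulAut W}, g' * g' = g * g → fixd g' ≤ fixd (g * g) := fun e v hv => by
    rw [mem_fixd, ← e, MulAut.mul_apply, mem_fixd.1 hv, mem_fixd.1 hv]
  have hpres : g ∈ pres (S ⊓ fixd (g * g)) := fun v => by
    constructor
    · rintro ⟨a, c⟩
      refine ⟨(hgS v).1 a, g.injective ?_⟩
      rw [← MulAut.mul_apply, ← mul_assoc]; exact c
    · rintro ⟨a, c⟩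
      exact ⟨(hgS v).2 a, by
        show (g * g) (g v) = g v
        rw [← MulAut.mul_apply, mul_assoc, MulAut.mul_apply]; exact congrArg g c⟩
  have e2 := card_split (hodd.of_dvd_nat (card_dvd_of_le inf_le_left)) hpres (fun v hv => hv.2)
  have hi : invAut W * g * (invAut W * g) = g * g := by
    rw [mul_assoc (invAut W), ← mul_assoc g, ← (invAut_comm g).eq, mul_assoc (invAut W) g g, ← mul_assoc, invAut_sq,
      one_mul]
  rw [inf_assoc, inf_assoc, inf_eq_right.2 (hle rfl), inf_eq_right.2 (hle hi)] at e2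
  have e3 := h.card_le hbS hxS hgS hfpf
  have e4 := (h.twist ⟨2, rfl⟩).card_le hbS hxS (mul_mem (invAut_mem_pres S) hgS) hfpf
  refine le_antisymm (Nat.le_of_mul_le_mul_right (c := Nat.card S) ?_ Nat.card_pos) e3
  calc Nat.card ↥(S ⊓ fixd g) ^ 4 * Nat.card S
      ≤ Nat.card ↥(S ⊓ fixd g) ^ 4 * Nat.card ↥(S ⊓ fixd (invAut W * g)) ^ 4 := Nat.mul_le_mul_left _ e4
    _ = Nat.card S * Nat.card S := by
        rw [← mul_pow, e2, show Nat.card ↥(S ⊓ fixd (g * g)) ^ 4 = (Nat.card ↥(S ⊓ fixd (g * g)) ^ 2) ^ 2 from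
          pow_mul _ 2 2, e1, pow_two]

/-- The points fixed by the image of a subgroup. -/
def fixAll {E : Type v} [Group E] (φ : E →* MulAut W) (D : Subgroup E) : Subgroup W := ⨅ e : ↥D, fixd (φ e)

theorem mem_fixAll {E : Type v} [Group E] {φ : E →* MulAut W} {D : Subgroup E} {v : W} :
    v ∈ fixAll φ D ↔ ∀ e ∈ D, φ e v = v := by
  simp [fixAll, mem_fixd]

/-- Double counting of fixed points of an elementary two-group on a group of odd order. -/
theorem double_count {E : Type v} [CommGroup E] [Finite E] (φ : E →* MulAut W) (h2 : ∀ e : E, e * e = 1)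
    (S : Subgroup W) (hodd : Odd (Nat.card S)) (hS : ∀ e, φ e ∈ pres S) (T : Finset E) :
    (∏ᶠ e ∈ (closure (T : Set E) : Set E), Nat.card ↥(S ⊓ fixd (φ e))) ^ 2 =
      (Nat.card S * Nat.card ↥(S ⊓ fixAll φ (closure (T : Set E)))) ^ Nat.card ↥(closure (T : Set E)) := by
  classical
  induction T using Finset.induction_on generalizing S with
  | empty =>
    have hfa : fixAll φ (⊥ : Subgroup E) = ⊤ := eq_top_iff.2 fun v _ => mem_fixAll.2 fun e he => by
      rw [mem_bot.1 he, map_one]; rfl
    have hf1 : S ⊓ fixd (1 : MulAut W) = S := inf_eq_left.2 fun v _ => rfl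
    rw [Finset.coe_empty, Subgroup.closure_empty, coe_bot, finprod_mem_singleton, map_one, hfa, inf_top_eq, hf1,
      card_bot, pow_one, pow_two]
  | @insert a T ha ih =>
    set D := closure (T : Set E)
    rw [Finset.coe_insert]
    by_cases haD : a ∈ D
    · have : closure (insert a (T : Set E)) = D :=
        le_antisymm ((closure_le _).2 (Set.insert_subset haD subset_closure)) (closure_mono (Set.subset_insert _ _))
      rw [this]; exact ih S hodd hS
    set D' := closure (insert a (T : Set E))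
    have hmem : ∀ e, e ∈ D' ↔ e ∈ D ∨ a * e ∈ D := by
      intro e
      constructor
      · intro he
        induction he using closure_induction with
        | mem y hy =>
          rcases hy with rfl | hy
          · right; rw [h2]; exact one_mem _
          · exact .inl (subset_closure hy)
        | one => exact .inl (one_mem _)
        | mul y z _ _ iy iz =>
          rcases iy with iy | iy <;> rcases iz with iz | iz
          · exact .inl (mul_mem iy iz)
          · exact .inr (by rw [mul_left_comm]; exact mul_mem iy iz)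
          · exact .inr (by rw [← mul_assoc]; exact mul_mem iy iz)
          · refine .inl ?_
            have := mul_mem iy iz
            rwa [mul_mul_mul_comm, h2, one_mul] at this
        | inv y _ iy => rwa [inv_eq_of_mul_eq_one_left (h2 y)]
      · rintro (he | he)
        · exact closure_mono (Set.subset_insert _ _) he
        · have := mul_mem (subset_closure (Set.mem_insert a _) : a ∈ D') (closure_mono (Set.subset_insert _ _) he)
          rwa [← mul_assoc, h2, one_mul] at this
    have hset : (D' : Set E) = (D : Set E) ∪ (fun e => a * e) '' (D : Set E) := by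
      ext e
      rw [SetLike.mem_coe, hmem]
      refine or_congr Iff.rfl ⟨fun he => ⟨a * e, he, by show a * (a * e) = e; rw [← mul_assoc, h2, one_mul]⟩, ?_⟩
      rintro ⟨c, hc, rfl⟩
      rw [← mul_assoc, h2, one_mul]; exact hc
    have hdisj : Disjoint (D : Set E) ((fun e => a * e) '' (D : Set E)) := by
      rw [Set.disjoint_left]
      rintro _ he ⟨c, hc, rfl⟩
      exact haD (by have := mul_mem he (inv_mem hc); rwa [mul_inv_cancel_right] at this)
    have hcard : Nat.card ↥D' = 2 * Nat.card ↥D := by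
      rw [← SetLike.coe_sort_coe, ← SetLike.coe_sort_coe, Nat.card_coe_set_eq, Nat.card_coe_set_eq, hset,
        Set.ncard_union_eq hdisj (Set.toFinite _) (Set.toFinite _),
        Set.ncard_image_of_injective _ (mul_right_injective a), two_mul]
    set Sp := S ⊓ fixd (φ a)
    set Sm := S ⊓ fixd (invAut W * φ a)
    have hcomm : ∀ e, Commute (φ a) (φ e) := fun e => (Commute.all a e).map φ
    have hsq : ∀ e v, φ e (φ e v) = v := fun e v => by rw [← MulAut.mul_apply, ← map_mul, h2, map_one]; rfl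
    have hpres : ∀ (c : MulAut W) (S₁ : Subgroup W) (e : E), (∀ f, φ f ∈ pres S₁) → Commute c (φ e) →
        φ e ∈ pres (S₁ ⊓ fixd c) := fun c S₁ e h1 hc v => by
      refine and_congr (h1 e v) ?_
      show c (φ e v) = φ e v ↔ c v = v
      rw [← MulAut.mul_apply, hc.eq, MulAut.mul_apply]
      exact (φ e).injective.eq_iff
    have hSp : ∀ e, φ e ∈ pres Sp := fun e => hpres _ S e hS (hcomm e)
    have hSm : ∀ e, φ e ∈ pres Sm := fun e => hpres _ S e hS ((invAut_comm _).mul_left (hcomm e))
    have hodd' : ∀ {S₁ : Subgroup W}, S₁ ≤ S → Odd (Nat.card S₁) := fun h => hodd.of_dvd_nat (card_dvd_of_le h)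
    have hkey : ∀ e, Nat.card ↥(S ⊓ fixd (φ e)) * Nat.card ↥(S ⊓ fixd (φ (a * e))) =
        Nat.card ↥(Sp ⊓ fixd (φ e)) ^ 2 * Nat.card Sm := by
      intro e
      have e1 : ∀ f, φ a ∈ pres (S ⊓ fixd (φ f)) := fun f => hpres _ S a hS (hcomm f).symm
      have k1 := card_split (hodd' inf_le_left) (e1 e) (fun v _ => hsq a v)
      have k2 := card_split (hodd' inf_le_left) (e1 (a * e)) (fun v _ => hsq a v)
      have k3 := card_split (hodd' inf_le_left) (hSm e) (fun v _ => hsq e v)
      rw [← k1, ← k2, ← k3, inf_right_comm S, inf_right_comm S (fixd (φ e)) (fixd (invAut W * φ a)),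
        inf_right_comm S (fixd (φ (a * e))) (fixd (φ a)), inf_right_comm S (fixd (φ (a * e)))]
      have i1 : Sp ⊓ fixd (φ (a * e)) = Sp ⊓ fixd (φ e) := by
        refine SetLike.ext fun v => and_congr_right fun hv => ?_
        show φ (a * e) v = v ↔ φ e v = v
        rw [mul_comm a e, map_mul, MulAut.mul_apply, show φ a v = v from hv.2]
      have i2 : Sm ⊓ fixd (φ (a * e)) = Sm ⊓ fixd (invAut W * φ e) := by
        refine SetLike.ext fun v => and_congr_right fun hv => ?_
        show φ (a * e) v = v ↔ (invAut W * φ e) v = v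
        rw [mul_comm a e, map_mul, MulAut.mul_apply, mem_fixd_inv.1 hv.2, map_inv, MulAut.mul_apply, invAut_apply]
      rw [i1, i2]
      ring
    have hfa : S ⊓ fixAll φ D' = Sp ⊓ fixAll φ D := by
      refine SetLike.ext fun v => ?_
      show v ∈ S ∧ v ∈ fixAll φ D' ↔ (v ∈ S ∧ φ a v = v) ∧ v ∈ fixAll φ D
      simp only [mem_fixAll]
      constructor
      · rintro ⟨hv, h⟩
        exact ⟨⟨hv, h a (subset_closure (Set.mem_insert _ _))⟩, fun e he => h e ((hmem e).2 (.inl he))⟩
      · rintro ⟨⟨hv, hva⟩, h⟩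
        refine ⟨hv, fun e he => ?_⟩
        rcases (hmem e).1 he with he' | he'
        · exact h e he'
        · have := h _ he'
          rw [map_mul, MulAut.mul_apply] at this
          exact (φ a).injective (this.trans hva.symm)
    have hc2 : (Set.toFinite (D : Set E)).toFinset.card = Nat.card ↥D := by
      rw [← Set.ncard_eq_toFinset_card _ (Set.toFinite _), ← Nat.card_coe_set_eq]; rfl
    have ih' := ih Sp (hodd' inf_le_left) hSp
    rw [finprod_mem_eq_finite_toFinset_prod _ (Set.toFinite _)] at ih'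
    rw [hfa, hset, finprod_mem_union hdisj (Set.toFinite _) (Set.toFinite _),
      finprod_mem_image ((mul_right_injective a).injOn), ← finprod_mem_mul_distrib (Set.toFinite _),
      finprod_mem_eq_finite_toFinset_prod _ (Set.toFinite _), prod_congr rfl fun e _ => hkey e,
      prod_mul_distrib, prod_const, prod_pow, mul_pow, ih', hcard, hc2,
      ← card_split hodd (hS a) (fun v _ => hsq a v)]
    ring

/-- A finite supremum is no larger than the product. -/
theorem card_iSup_le {ι : Type*} [Fintype ι] (X : ι → Subgroup W) :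
    Nat.card ↥(⨆ i, X i) ≤ ∏ i, Nat.card ↥(X i) := by
  classical
  let f : (∀ i, ↥(X i)) →* W :=
    { toFun := fun g => ∏ i, (g i : W)
      map_one' := by simp
      map_mul' := fun g g' => by simp [Finset.prod_mul_distrib] }
  have h : ⨆ i, X i ≤ f.range := iSup_le fun i v hv => ⟨Pi.mulSingle i ⟨v, hv⟩, by
    show ∏ j, ((Pi.mulSingle i (⟨v, hv⟩ : ↥(X i)) : ∀ i, ↥(X i)) j : W) = v
    rw [Finset.prod_eq_single i]
    · rw [Pi.mulSingle_eq_same]
    · intro j _ hj; rw [Pi.mulSingle_eq_of_ne hj]; rfl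
    · simp⟩
  refine (Nat.le_of_dvd Nat.card_pos (card_dvd_of_le h)).trans ?_
  refine (Nat.le_of_dvd Nat.card_pos (Subgroup.card_range_dvd f)).trans ?_
  rw [Nat.card_pi]

end Cfsg.Agent.Recog.SzSquare
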