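import Cfsg.Agent.Lib.Recog.SzSquare.TwoPrimes
import Cfsg.Agent.Lib.Recog.SzSquare.Faithful

/-!
# Four primes, pairwise joined, without a triangle: the group is not solvable
-/

set_option autoImplicit false
set_option linter.style.haveILetI false

open Subgroup

namespace Cfsg.Agent.Recog.SzSquare

universe u

variable {G : Type u} [Group G] [Finite G]

/-- The four primes, pairwise joined and without a triangle. -/
structure FourPrimes (G : Type u) [Group G] (p : Fin 4 → ℕ) : Prop where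
  prime : ∀ i, (p i).Prime
  inj : Function.Injective p
  two : p 0 = 2
  pairs : ∀ i j, i ≠ j → ∃ g : G, p i * p j ∣ orderOf g
  tri : ∀ i j k, i ≠ j → i ≠ k → j ≠ k → T3 G (p i) (p j) (p k)

theorem eq_one_of_orderOf_primes {x : G} {P Q : ℕ → Prop} (hP : ∀ t : ℕ, t.Prime → t ∣ orderOf x → P t)
    (hQ : ∀ t : ℕ, t.Prime → t ∣ orderOf x → Q t) (hPQ : ∀ t, P t → ¬ Q t) : x = 1 := by
  refine orderOf_eq_one_iff.1 (Nat.eq_one_iff_not_exists_prime_dvd.2 fun t ht hd => ?_)
  exact hPQ t (hP t ht hd) (hQ t ht hd)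

theorem normal_OP_top (q : ℕ) : (OP q (⊤ : Subgroup G)).Normal :=
  ⟨fun _ hx g => conj_mem_OP (mem_top g) hx⟩

theorem RankTwo.conj_into {a : ℕ} (ha : a.Prime) {π : Finset ℕ} (haπ : a ∈ π) {H : Subgroup G}
    (hc : ∀ K : Subgroup G, (∀ q : ℕ, q.Prime → q ∣ Nat.card K → q ∈ π) → ∃ g : G, ∀ x ∈ K, g * x * g⁻¹ ∈ H)
    (h : RankTwo a (⊤ : Subgroup G)) : RankTwo a H := by
  obtain ⟨A, -, hA2, hAc, hA3⟩ := h
  obtain ⟨g, hg⟩ := hc A fun t ht hd => by
    rw [hA2] at hd
    rwa [(Nat.prime_dvd_prime_iff_eq ht ha).1 (ht.dvd_of_dvd_pow hd)]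
  refine ⟨A.map (MulAut.conj g).toMonoidHom, ?_, ?_, ?_, ?_⟩
  · rintro _ ⟨b, hb, rfl⟩
    exact hg b hb
  · rw [card_map_of_injective (MulAut.conj g).injective, hA2]
  · refine ⟨⟨?_⟩⟩
    rintro ⟨_, b, hb, rfl⟩ ⟨_, c, hc, rfl⟩
    exact Subtype.ext (show _ * _ = _ * _ by
      rw [← map_mul, ← map_mul]; exact congrArg _ (congrArg Subtype.val (hAc.is_comm.comm ⟨b, hb⟩ ⟨c, hc⟩)))
  · rintro _ ⟨b, hb, rfl⟩
    rw [← map_pow, hA3 b hb, map_one]

theorem pair_into {a b : ℕ} (ha : a.Prime) (hb : b.Prime) {π : Finset ℕ} (haπ : a ∈ π) (hbπ : b ∈ π)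
    {H : Subgroup G}
    (hc : ∀ K : Subgroup G, (∀ q : ℕ, q.Prime → q ∣ Nat.card K → q ∈ π) → ∃ g : G, ∀ x ∈ K, g * x * g⁻¹ ∈ H)
    (h : ∃ g : G, a * b ∣ orderOf g) : ∃ g ∈ H, a * b ∣ orderOf g := by
  obtain ⟨g0, hg0⟩ := h
  set g1 := g0 ^ (orderOf g0 / (a * b))
  have hg1 : orderOf g1 = a * b := orderOf_pow_orderOf_div (orderOf_pos g0).ne' hg0
  obtain ⟨c, hc'⟩ := hc (zpowers g1) fun t ht hd => by
    rw [Nat.card_zpowers, hg1] at hd
    rcases (Nat.Prime.dvd_mul ht).1 hd with e | e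
    · rwa [(Nat.prime_dvd_prime_iff_eq ht ha).1 e]
    · rwa [(Nat.prime_dvd_prime_iff_eq ht hb).1 e]
  exact ⟨_, hc' _ (mem_zpowers _), by rw [orderOf_conj, hg1]⟩

variable {p : Fin 4 → ℕ}

theorem FourPrimes.rankTwo [Group.IsSolvable G] (h : FourPrimes G p) (i : Fin 4) :
    RankTwo (p i) (⊤ : Subgroup G) := by
  obtain ⟨j, k, l, hij, hik, hil, hjk, hjl, hkl⟩ :=
    (show ∀ i : Fin 4, ∃ j k l : Fin 4, i ≠ j ∧ i ≠ k ∧ i ≠ l ∧ j ≠ k ∧ j ≠ l ∧ k ≠ l by decide) i
  exact exists_rankTwo (h.prime i) (h.prime j) (h.prime k) (h.prime l) (h.inj.ne hjk) (h.inj.ne hjl)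
    (h.inj.ne hkl) (h.inj.ne hij) (h.inj.ne hik) (h.inj.ne hil) (h.pairs i j hij) (h.pairs i k hik) (h.pairs i l hil)
    (h.tri i j k hij hik hjk) (h.tri i j l hij hil hjl) (h.tri i k l hik hil hkl)

/-- The case where no other primes divide the order. -/
theorem FourPrimes.false_aux [Group.IsSolvable G] (h : FourPrimes G p)
    (hall : ∀ t : ℕ, t.Prime → t ∣ Nat.card G → ∃ i, t = p i) : False := by
  set O : Fin 4 → Subgroup G := fun i => OP (p i) (⊤ : Subgroup G)
  haveI hprime : ∀ i, Fact (p i).Prime := fun i => ⟨h.prime i⟩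
  haveI hnorm : ∀ i, (O i).Normal := fun i => normal_OP_top (p i)
  have hpg : ∀ i, IsPGroup (p i) ↥(O i) := fun i => OP_isPGroup _ _
  have hcomm : ∀ i j, i ≠ j → ∀ x ∈ O i, ∀ y ∈ O j, x * y = y * x :=
    fun i j hij => OP_comm (h.inj.ne hij) ⊤
  have hno3 : ∀ i j k, i ≠ j → i ≠ k → j ≠ k → O i ≠ ⊥ → O j ≠ ⊥ → O k = ⊥ := by
    intro i j k hij hik hjk hi hj
    by_contra hk
    obtain ⟨x, hx, ex⟩ := exists_order_mem (hpg i) hi
    obtain ⟨y, hy, ey⟩ := exists_order_mem (hpg j) hj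
    obtain ⟨z, hz, ez⟩ := exists_order_mem (hpg k) hk
    exact (h.tri i j k hij hik hjk).false (h.prime i) (h.prime j) (h.prime k) (h.inj.ne hij) (h.inj.ne hik)
      (h.inj.ne hjk) ex ey ez (hcomm i j hij x hx y hy) (hcomm i k hik x hx z hz) (hcomm j k hjk y hy z hz)
  haveI : Group.IsSolvable ↥(⊤ : Subgroup G) := Grp.isSolvable_of_le le_top inferInstance
  -- the centraliser of the nontrivial cores
  have hcent : ∀ W : Subgroup G, (∀ i, O i ≠ ⊥ → O i ≤ W) → ∀ x : G,
      (∀ i, O i ≠ ⊥ → x ∈ centralizer (O i : Set G)) → x ∈ W := by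
    intro W hW x hx
    refine cent_cores_le ⊤ W (fun t ht => ?_) (mem_top x) (fun t ht y hy => ?_)
    · haveI := Fact.mk ht
      by_cases h3 : OP t (⊤ : Subgroup G) = ⊥
      · rw [h3]; exact bot_le
      obtain ⟨i, rfl⟩ := hall t ht (by simpa using OP_dvd_card h3)
      exact hW i h3
    · haveI := Fact.mk ht
      by_cases h3 : OP t (⊤ : Subgroup G) = ⊥
      · rw [h3, mem_bot] at hy; rw [hy, mul_one, one_mul]
      obtain ⟨i, rfl⟩ := hall t ht (by simpa using OP_dvd_card h3)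
      exact (mem_centralizer_iff.1 (hx i h3) y hy).symm
  have hT : (⊤ : Subgroup G) ≠ ⊥ := fun e => by
    obtain ⟨g, hg⟩ := h.pairs 0 1 (by decide)
    rw [(eq_bot_iff_forall _).1 e g (mem_top g), orderOf_one, Nat.dvd_one] at hg
    exact (h.prime 0).ne_one (Nat.eq_one_of_mul_eq_one_right hg)
  obtain ⟨t, ht, htne⟩ := exists_OP_ne_bot hT
  haveI := Fact.mk ht
  obtain ⟨i, rfl⟩ := hall t ht (by simpa using OP_dvd_card htne)
  change O i ≠ ⊥ at htne
  by_cases hone : ∀ j, j ≠ i → O j = ⊥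
  · -- one core: the other three primes act faithfully
    obtain ⟨j, k, l, hij, hik, hil, hjk, hjl, hkl, hcov⟩ :=
      (show ∀ i : Fin 4, ∃ j k l : Fin 4, i ≠ j ∧ i ≠ k ∧ i ≠ l ∧ j ≠ k ∧ j ≠ l ∧ k ≠ l ∧
        ∀ m, m = i ∨ m = j ∨ m = k ∨ m = l by decide) i
    obtain ⟨T, hTp, hTc⟩ := exists_hallSub (G := G) {p j, p k, p l}
    haveI : Group.IsSolvable ↥T := Grp.isSolvable_of_le le_top ‹Group.IsSolvable ↥(⊤ : Subgroup G)›
    have hF : Faith G (p i) (p j) (p k) (p l) (O i) T :=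
      { hp := h.prime i, hr := h.prime j, hs := h.prime k, hk := h.prime l
        pr := h.inj.ne hij, ps := h.inj.ne hik, pk := h.inj.ne hil
        rs := h.inj.ne hjk, rk := h.inj.ne hjl, sk := h.inj.ne hkl
        Vp := hpg i
        nT := by rw [normalizer_eq_top]; exact le_top
        faith := (eq_bot_iff_forall _).2 fun x hx => by
          have hxV : x ∈ O i := hcent (O i) (fun m hm => by
            by_cases e : m = i
            · rw [e]
            · exact absurd (hone m e) hm) x (fun m hm => by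
            by_cases e : m = i
            · rw [e]; exact hx.2
            · exact absurd (hone m e) hm)
          refine eq_one_of_orderOf_primes (P := fun t => t = p i)
            (Q := fun t => t = p j ∨ t = p k ∨ t = p l)
            (fun t ht hd => eq_of_dvd_prime_pow_card (hpg i) (h.prime i) ht (hd.trans ((O i).orderOf_dvd_natCard hxV)))
            (fun t ht hd => by simpa using hTp t ht (hd.trans (T.orderOf_dvd_natCard hx.1))) ?_
          rintro t rfl (e | e | e)
          exacts [hij (h.inj e), hik (h.inj e), hil (h.inj e)]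
        rankR := (h.rankTwo j).conj_into (h.prime j) (by simp) hTc
        rankS := (h.rankTwo k).conj_into (h.prime k) (by simp) hTc
        rankK := (h.rankTwo l).conj_into (h.prime l) (by simp) hTc
        primes := fun t ht hd => by simpa using hTp t ht hd
        prs := pair_into (h.prime j) (h.prime k) (by simp) (by simp) hTc (h.pairs j k hjk)
        prk := pair_into (h.prime j) (h.prime l) (by simp) (by simp) hTc (h.pairs j l hjl)
        psk := pair_into (h.prime k) (h.prime l) (by simp) (by simp) hTc (h.pairs k l hkl)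
        tprs := h.tri i j k hij hik hjk
        tprk := h.tri i j l hij hil hjl
        tpsk := h.tri i k l hik hil hkl
        trsk := h.tri j k l hjk hjl hkl }
    exact hF.false htne
  push Not at hone
  obtain ⟨j, hji, hjne⟩ := hone
  obtain ⟨k, l, hik, hil, hjk, hjl, hkl, hcov⟩ :=
    (show ∀ i j : Fin 4, i ≠ j → ∃ k l : Fin 4, i ≠ k ∧ i ≠ l ∧ j ≠ k ∧ j ≠ l ∧ k ≠ l ∧
      ∀ m, m = i ∨ m = j ∨ m = k ∨ m = l by decide) i j hji.symm
  have hbot : ∀ m, m ≠ i → m ≠ j → O m = ⊥ := fun m a b => hno3 i j m hji.symm a.symm b.symm htne hjne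
  have hCW : centralizer (O i : Set G) ⊓ centralizer (O j : Set G) ≤ O i ⊔ O j := fun x hx =>
    hcent _ (fun m hm => by
      by_cases e : m = i
      · rw [e]; exact le_sup_left
      by_cases e' : m = j
      · rw [e']; exact le_sup_right
      exact absurd (hbot m e e') hm) x (fun m hm => by
      by_cases e : m = i
      · rw [e]; exact hx.1
      by_cases e' : m = j
      · rw [e']; exact hx.2
      exact absurd (hbot m e e') hm)
  -- `2` in one of the two cores
  have htwo : ∀ i j, i ≠ j → i = 0 → O i ≠ ⊥ → O j ≠ ⊥ →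
      centralizer (O i : Set G) ⊓ centralizer (O j : Set G) ≤ O i ⊔ O j → False := by
    intro i j hij hi0 hi hj hCW
    obtain ⟨k, l, hik, hil, hjk, hjl, hkl⟩ :=
      (show ∀ i j : Fin 4, i ≠ j → ∃ k l : Fin 4, i ≠ k ∧ i ≠ l ∧ j ≠ k ∧ j ≠ l ∧ k ≠ l by decide) i j hij
    obtain ⟨T, hTp, hTc⟩ := exists_hallSub (G := G) {p k, p l}
    haveI : Group.IsSolvable ↥T := Grp.isSolvable_of_le le_top ‹Group.IsSolvable ↥(⊤ : Subgroup G)›
    have hM : TwoMod G (p i) (p j) (p k) (p l) (O i) (O j) T :=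
      { hp := h.prime i, hq := h.prime j, hr := h.prime k, hs := h.prime l
        pq := h.inj.ne hij, pr := h.inj.ne hik, ps := h.inj.ne hil
        qr := h.inj.ne hjk, qs := h.inj.ne hjl, rs := h.inj.ne hkl
        r2 := fun e => hik (hi0.trans (h.inj (e.trans h.two.symm)).symm)
        s2 := fun e => hil (hi0.trans (h.inj (e.trans h.two.symm)).symm)
        p1 := hpg i, p2 := hpg j, n1 := hnorm i, n2 := hnorm j
        comm := hcomm i j hij, ne1 := hi, ne2 := hj
        faith := (eq_bot_iff_forall _).2 fun x hx => by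
          have hxW := hCW hx.2
          haveI := hnorm j
          rw [mem_sup_of_normal_right] at hxW
          obtain ⟨a, ha, b, hb, hab⟩ := hxW
          refine eq_one_of_orderOf_primes (P := fun t => t = p i ∨ t = p j) (Q := fun t => t = p k ∨ t = p l)
            (fun t ht hd => ?_) (fun t ht hd => by simpa using hTp t ht (hd.trans (T.orderOf_dvd_natCard hx.1))) ?_
          · rw [← hab] at hd
            rcases (Nat.Prime.dvd_mul ht).1 (hd.trans ((show Commute a b from hcomm i j hij a ha b hb).orderOf_mul_dvd_mul_orderOf)) with e | e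
            · exact .inl (eq_of_dvd_prime_pow_card (hpg i) (h.prime i) ht (e.trans ((O i).orderOf_dvd_natCard ha)))
            · exact .inr (eq_of_dvd_prime_pow_card (hpg j) (h.prime j) ht (e.trans ((O j).orderOf_dvd_natCard hb)))
          · rintro t (rfl | rfl) (e | e)
            exacts [hik (h.inj e), hil (h.inj e), hjk (h.inj e), hjl (h.inj e)]
        rankR := (h.rankTwo k).conj_into (h.prime k) (by simp) hTc
        rankS := (h.rankTwo l).conj_into (h.prime l) (by simp) hTc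
        primes := fun t ht hd => by simpa using hTp t ht hd
        tpqr := h.tri i j k hij hik hjk
        tpqs := h.tri i j l hij hil hjl
        tprs := h.tri i k l hik hil hkl
        tqrs := h.tri j k l hjk hjl hkl }
    exact hM.false
  by_cases hi0 : i = 0
  · exact htwo i j hji.symm hi0 htne hjne hCW
  by_cases hj0 : j = 0
  · exact htwo j i hji hj0 hjne htne (by rwa [inf_comm, sup_comm])
  obtain ⟨m, hmi, hmj, hm0⟩ :=
    (show ∀ i j : Fin 4, i ≠ 0 → j ≠ 0 → ∃ m : Fin 4, m ≠ i ∧ m ≠ j ∧ m ≠ 0 by decide) i j hi0 hj0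
  have h2 : ∀ x, x ≠ (0 : Fin 4) → p x ≠ 2 := fun x hx e => hx (h.inj (e.trans h.two.symm))
  refine two_odd (h2 i hi0) (h2 j hj0) (h.prime m) (h.inj.ne hji.symm) (h.inj.ne hmi.symm) (h.inj.ne hmj.symm)
    (h2 m hm0) (hpg i) (hpg j) htne hjne (hcomm i j hji.symm) hCW (h.two ▸ h.rankTwo 0) ?_ ?_ ?_
    (h.pairs i m hmi.symm) (h.pairs j m hmj.symm)
  · exact h.two ▸ h.tri 0 i j (Ne.symm hi0) (Ne.symm hj0) hji.symm
  · exact h.two ▸ h.tri 0 i m (Ne.symm hi0) hm0.symm hmi.symm
  · exact h.two ▸ h.tri 0 j m (Ne.symm hj0) hm0.symm hmj.symm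

/-- Four primes including `2`, pairwise joined, with no triangle: not in a solvable group. -/
theorem FourPrimes.false [Group.IsSolvable G] (h : FourPrimes G p) : False := by
  classical
  obtain ⟨M, hMp, hMc⟩ := exists_hallSub (G := G) (Finset.univ.image p)
  haveI : Group.IsSolvable ↥M := Grp.isSolvable_of_le le_top
    (Grp.isSolvable_of_le (le_refl (⊤ : Subgroup G)) inferInstance)
  refine FourPrimes.false_aux (G := ↥M) (p := p) ⟨h.prime, h.inj, h.two, fun i j hij => ?_, fun i j k a b c =>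
    (h.tri i j k a b c).of_injective M.subtype M.subtype_injective⟩ fun t ht hd => ?_
  · obtain ⟨g, hg, hgo⟩ := pair_into (h.prime i) (h.prime j) (by simp) (by simp) hMc (h.pairs i j hij)
    exact ⟨⟨g, hg⟩, by rwa [Subgroup.orderOf_mk]⟩
  · obtain ⟨i, -, hi⟩ := Finset.mem_image.1 (hMp t ht hd)
    exact ⟨i, hi.symm⟩

end Cfsg.Agent.Recog.SzSquare
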