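import Cfsg.Agent.Lib.Recog.SzSquare.Spectrum
import Cfsg.Agent.Lib.Lie.Sz.Maximal
import Cfsg.Agent.Lib.Lie.Sz.Out
import Cfsg.Agent.Lib.Lie.Sz.LieEquiv
import Cfsg.Agent.Lib.Invol.ThreeFree.Main

/-!
# Element orders of Suzuki groups over subfields
-/

set_option autoImplicit false
set_option linter.style.haveILetI false

open Subgroup

namespace Cfsg.Agent.Recog.SzSquare

universe u v

section Sz

variable {F : Type*} [Field F] [Fintype F] {k : ℕ} (hS : Suz.SzField F k)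
include hS

theorem sz_orders (g : ↥(Cfsg.Sz F k)) : ∃ i, orderOf g ∣ cl k i := by
  by_cases hg : g = 1
  · exact ⟨0, by rw [hg, orderOf_one]; exact one_dvd _⟩
  rcases Suz.cent_cases hS hg with ⟨c, hc⟩ | ⟨-, hC, -⟩
  · exact ⟨0, by rw [← Suz.orderOf_conj' hS g c]; exact Suz.orderOf_of_mem_unip hS hc⟩
  · have h := Subgroup.orderOf_dvd_natCard _ (Suz.self_mem_cs hS g)
    rcases hC with e | e | e
    · exact ⟨1, h.trans (dvd_of_eq e)⟩
    · exact ⟨3, h.trans (dvd_of_eq e)⟩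
    · exact ⟨2, h.trans (dvd_of_eq e)⟩

theorem sz_exists (i : Fin 4) : ∃ g : ↥(Cfsg.Sz F k), orderOf g = cl k i := by
  haveI : Fact (Nat.Prime 2) := ⟨Nat.prime_two⟩
  obtain ⟨x, y, ⟨hx, hxc, -⟩, ⟨hy, hyc, -⟩, -⟩ := Suz.exists_tori hS
  fin_cases i
  · refine ⟨Suz.uS hS 1 0, orderOf_eq_prime_pow (p := 2) (n := 1) ?_ ?_⟩
    · rw [pow_one, Suz.uS_sq]
      exact Suz.uS_ne_one hS (by simp [Suz.th_one])
    · exact Suz.pow_four_unip hS (Suz.uS_mem hS 1 0)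
  · haveI := Suz.isCyclic_torus hS
    obtain ⟨g, hg⟩ := IsCyclic.exists_ofOrder_eq_natCard (α := ↥(Suz.torus hS))
    exact ⟨g, by rw [Subgroup.orderOf_coe, hg, Suz.card_torus hS]; rfl⟩
  · haveI := Suz.isCyclic_centralizer hS hy
    obtain ⟨g, hg⟩ := IsCyclic.exists_ofOrder_eq_natCard (α := ↥(centralizer ({y} : Set ↥(Cfsg.Sz F k))))
    exact ⟨g, by rw [Subgroup.orderOf_coe, hg, hyc]; rfl⟩
  · haveI := Suz.isCyclic_centralizer hS hx
    obtain ⟨g, hg⟩ := IsCyclic.exists_ofOrder_eq_natCard (α := ↥(centralizer ({x} : Set ↥(Cfsg.Sz F k))))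
    exact ⟨g, by rw [Subgroup.orderOf_coe, hg, hxc]; rfl⟩

theorem sz_not_comm : ¬ IsMulCommutative ↥(Cfsg.Sz F k) := fun h =>
  Suz.not_solvable hS (Group.isSolvable_of_comm fun a b => h.is_comm.comm a b)

theorem sz_out (φ : MulAut ↥(Cfsg.Sz F k)) : φ ^ (2 * k + 1) ∈ (MulAut.conj (G := ↥(Cfsg.Sz F k))).range := by
  have h : ((QuotientGroup.mk φ : Cfsg.Out ↥(Cfsg.Sz F k))) ^ (2 * k + 1) = 1 := by
    rw [← Suz.card_Out hS]; exact pow_card_eq_one'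
  exact (QuotientGroup.eq_one_iff _).1 h

end Sz

/-- A Suzuki group over a subfield of the field of order `2 ^ (2 * m + 1)`. -/
def SzLike (L : Type u) [Group L] (m : ℕ) : Prop :=
  ∃ (F : Type) (_ : Field F) (_ : Fintype F) (k : ℕ), Suz.SzField F k ∧ 2 * k + 1 ∣ 2 * m + 1 ∧
    Nonempty (L ≃* ↥(Cfsg.Sz F k))

variable {L : Type u} [Group L] {m : ℕ}

theorem SzLike.congr {M : Type v} [Group M] (h : SzLike L m) (e : M ≃* L) : SzLike M m := by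
  obtain ⟨F, i1, i2, k, hS, hd, ⟨e'⟩⟩ := h
  exact ⟨F, i1, i2, k, hS, hd, ⟨e.trans e'⟩⟩

theorem SzLike.orders (h : SzLike L m) (g : L) : ∃ i, orderOf g ∣ cl m i := by
  obtain ⟨F, i1, i2, k, hS, hd, ⟨e⟩⟩ := h
  obtain ⟨σ, -, -, -, hσ⟩ := exists_cl_map hd
  obtain ⟨i, hi⟩ := sz_orders hS (e g)
  exact ⟨σ i, by rw [← MulEquiv.orderOf_eq e]; exact hi.trans (hσ i)⟩

theorem SzLike.meets (h : SzLike L m) (i : Fin 4) : ∃ (t : ℕ) (g : L), t.Prime ∧ t ∣ cl m i ∧ orderOf g = t := by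
  obtain ⟨F, i1, i2, k, hS, hd, ⟨e⟩⟩ := h
  obtain ⟨σ, hσb, -, -, hσ⟩ := exists_cl_map hd
  obtain ⟨j, rfl⟩ := hσb.surjective i
  obtain ⟨g, hg⟩ := sz_exists hS j
  obtain ⟨t, ht, htd⟩ := Nat.exists_prime_and_dvd (one_lt_cl hS.one_le j).ne'
  obtain ⟨n, hn⟩ := exists_pow_orderOf (g := g) (hg ▸ (zero_lt_one.trans (one_lt_cl hS.one_le j))) (hg ▸ htd)
  exact ⟨t, e.symm (g ^ n), ht, htd.trans (hσ j), by rw [MulEquiv.orderOf_eq, hn]⟩

theorem SzLike.exists_four (h : SzLike L m) : ∃ g : L, orderOf g = 4 := by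
  obtain ⟨F, i1, i2, k, hS, hd, ⟨e⟩⟩ := h
  obtain ⟨g, hg⟩ := sz_exists hS 0
  exact ⟨e.symm g, by rw [MulEquiv.orderOf_eq, hg, cl_zero]⟩

theorem SzLike.simple (h : SzLike L m) : IsSimpleGroup L := by
  obtain ⟨F, i1, i2, k, hS, hd, ⟨e⟩⟩ := h
  haveI := Suz.isSimple hS
  exact e.isSimpleGroup

theorem SzLike.not_comm (h : SzLike L m) : ¬ IsMulCommutative L := by
  obtain ⟨F, i1, i2, k, hS, hd, ⟨e⟩⟩ := h
  exact fun hc => sz_not_comm hS ⟨⟨fun a b => e.symm.injective (by rw [map_mul, map_mul]; exact hc.is_comm.comm _ _)⟩⟩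

theorem SzLike.not_solvable (h : SzLike L m) : ¬ Group.IsSolvable L := by
  obtain ⟨F, i1, i2, k, hS, hd, ⟨e⟩⟩ := h
  intro hs
  haveI := hs
  exact Suz.not_solvable hS (Group.isSolvable_of_surjective (f := e.toMonoidHom) e.surjective)

/-- Automorphisms of a Suzuki group over a subfield have an inner `(2 * m + 1)`-th power. -/
theorem SzLike.out (h : SzLike L m) (φ : MulAut L) : φ ^ (2 * m + 1) ∈ (MulAut.conj (G := L)).range := by
  obtain ⟨F, i1, i2, k, hS, hd, ⟨e⟩⟩ := h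
  obtain ⟨c, hc⟩ := hd
  obtain ⟨g, hg⟩ := sz_out hS (MulAut.congr e φ)
  rw [hc, pow_mul]
  refine pow_mem ?_ c
  refine ⟨e.symm g, ?_⟩
  apply (MulAut.congr e).injective
  rw [map_pow, ← hg]
  ext x
  simp [MulAut.congr, mul_assoc]

/-- A non-abelian simple group with bounded element orders is a Suzuki group over a subfield. -/
theorem szLike_of_simple [Finite L] [IsSimpleGroup L] (hna : ¬ IsMulCommutative L) (hB : Bound L m) : SzLike L m := by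
  obtain ⟨F, i1, i2, k, hk, hF, ⟨e⟩⟩ := Invol.ThreeFree.isoSuzuki hna hB.not_three
  letI := i1
  letI := i2
  have hS : Suz.SzField F k := ⟨hk, hF⟩
  set e' : L ≃* ↥(Cfsg.Sz F k) := e.trans (Suz.szEquiv hS).symm
  refine ⟨F, i1, i2, k, hS, ?_, ⟨e'⟩⟩
  obtain ⟨g, hg⟩ := sz_exists hS 1
  obtain ⟨i, j, hij, hd⟩ := hB.ord (e'.symm g)
  rw [MulEquiv.orderOf_eq, hg, cl_one] at hd
  exact deg_dvd ⟨k, rfl⟩ hij hd

end Cfsg.Agent.Recog.SzSquare
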