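import Cfsg.Agent.Lib.Recog.SzSquare.Module
import Cfsg.Agent.Lib.Recog.SzSquare.SzFacts

/-!
# Modules of Suzuki groups in odd or coprime characteristic

In a module of odd order an element of prime order `b ∣ q ^ 2 + 1`, `b` prime to the module, has fixed points.
-/

set_option autoImplicit false
set_option linter.style.haveILetI false

open Subgroup
open scoped commutatorElement

namespace Cfsg.Agent.Recog.SzSquare

universe u v

section General

variable {W : Type u} [CommGroup W] [Finite W] {H : Type v} [Group H]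

theorem card_inf_fixd_conj {ρ : H →* MulAut W} {S : Subgroup W} (hS : ∀ h, ρ h ∈ pres S) (h g : H) :
    Nat.card ↥(S ⊓ fixd (ρ (h * g * h⁻¹))) = Nat.card ↥(S ⊓ fixd (ρ g)) := by
  have e : S ⊓ fixd (ρ (h * g * h⁻¹)) = (S ⊓ fixd (ρ g)).map (ρ h).toMonoidHom := by
    refine SetLike.ext fun v => ⟨fun hv => mem_map.2 ⟨(ρ h⁻¹) v, mem_inf.2 ⟨(hS _ v).2 hv.1, ?_⟩, ?_⟩, ?_⟩
    · have h2 : ρ (h * g * h⁻¹) v = v := hv.2
      show ρ g (ρ h⁻¹ v) = ρ h⁻¹ v
      conv_rhs => rw [← h2]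
      rw [← MulAut.mul_apply, ← MulAut.mul_apply, ← map_mul, ← map_mul]
      congr 2; group
    · show ρ h (ρ h⁻¹ v) = v
      rw [map_inv, MulAut.apply_inv_self]
    · rintro ⟨w, ⟨hw, hwg⟩, rfl⟩
      refine ⟨(hS h w).2 hw, ?_⟩
      show ρ (h * g * h⁻¹) (ρ h w) = ρ h w
      rw [← MulAut.mul_apply, ← map_mul, show h * g * h⁻¹ * h = h * g by group, map_mul, MulAut.mul_apply,
        show ρ g w = w from hwg]
  rw [e, card_map_of_injective (ρ h).injective]

theorem fixd_inv (a : MulAut W) : fixd a⁻¹ = fixd a := by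
  refine SetLike.ext fun v => ⟨fun h => ?_, fun h => zpow_fix h (-1) |> fun e => by rwa [zpow_neg_one] at e⟩
  have := zpow_fix (a := a⁻¹) h (-1)
  rwa [zpow_neg_one, inv_inv] at this

/-- A fixed-point-free involution inverts, hence its commutators act trivially. -/
theorem fpf_inv_comm (ρ : H →* MulAut W) (hodd : Odd (Nat.card W)) {t : H} (ht : t * t = 1)
    (hf : fixd (ρ t) = ⊥) (h : H) : ρ ⁅t, h⁆ = 1 := by
  have hinv : ρ t = invAut W := by
    have hs2 : ∀ v ∈ (⊤ : Subgroup W), ρ t (ρ t v) = v := fun v _ => by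
      rw [← MulAut.mul_apply, ← map_mul, ht, map_one]; rfl
    have e := card_split (S := ⊤) (by rwa [Subgroup.card_top]) (mem_pres_top _) hs2
    rw [top_inf_eq, top_inf_eq, hf, card_bot, one_mul] at e
    exact MulEquiv.ext fun v => by
      rw [invAut_apply, ← mem_fixd_inv]
      rw [Subgroup.eq_top_of_card_eq _ (e.trans Subgroup.card_top)]
      trivial
  rw [commutatorElement_def, map_mul, map_mul, map_mul, map_inv, map_inv, hinv, (invAut_comm (ρ h)).eq,
    mul_inv_cancel_right, mul_inv_cancel]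

theorem double_count_top {E : Type v} [CommGroup E] [Fintype E] (φ : E →* MulAut W) (h2 : ∀ e : E, e * e = 1)
    (S : Subgroup W) (hodd : Odd (Nat.card S)) (hS : ∀ e, φ e ∈ pres S) :
    (∏ e : E, Nat.card ↥(S ⊓ fixd (φ e))) ^ 2 = (Nat.card S * Nat.card ↥(S ⊓ fixAll φ ⊤)) ^ Fintype.card E := by
  have h := double_count φ h2 S hodd hS Finset.univ
  rw [Finset.coe_univ, Subgroup.closure_univ, coe_top, finprod_mem_univ, finprod_eq_prod_of_fintype,
    card_top, Nat.card_eq_fintype_card (α := E)] at h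
  exact h

end General

section Sz

variable {F : Type*} [Field F] [Fintype F] {k : ℕ} (hS : Suz.SzField F k)

set_option quotPrecheck false in
local notation "Gp" => ↥(Cfsg.Sz F k)

include hS

/-- An element of order four acting fixed-point-freely on a group of prime order. -/
theorem exists_frob {b : ℕ} (hb : b.Prime) (hbd : b ∣ (2 ^ (2 * k + 1)) ^ 2 + 1) :
    ∃ (x g : Gp) (j : ℕ), orderOf x = b ∧ orderOf g = 4 ∧ g * x * g⁻¹ = x ^ j ∧
      ∀ i < 4, ∀ l < 4, i ≠ l → x ^ (j ^ i) ≠ x ^ (j ^ l) := by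
  haveI := Fact.mk hb
  haveI : Fact (Nat.Prime 2) := ⟨Nat.prime_two⟩
  have hcard : b ∣ Nat.card Gp := by
    rw [Suz.card_Sz hS]; exact (hbd.mul_left _).mul_right _
  obtain ⟨x, hx⟩ := exists_prime_orderOf_dvd_card' b hcard
  have hfpf : Suz.FPF k x := Suz.FPF_of_orderOf_dvd hS (hx ▸ hbd) fun e => hb.ne_one (by rw [← hx, e, orderOf_one])
  set C := centralizer ({x} : Set Gp)
  have hT := Suz.isTor_of_FPF hS hfpf
  haveI := hT.cyc
  have hCd : Nat.card C ∣ (2 ^ (2 * k + 1)) ^ 2 + 1 := by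
    rcases Suz.FPF.card_dvd hS hfpf with h | h
    · exact (dvd_mul_of_dvd_left h _).trans (dvd_of_eq (Suz.ab_props hS).1)
    · exact (dvd_mul_of_dvd_right h _).trans (dvd_of_eq (Suz.ab_props hS).1)
  have hne : Nat.card C ≠ 2 ^ (2 * k + 1) - 1 := fun e => by
    have h1 := (Suz.dvd_coprime (m := k) hCd).2
    rw [e, Nat.coprime_self] at h1
    have := one_lt_cl hS.one_le 1
    rw [cl_one] at this
    omega
  have hN : Nat.card (normalizer (C : Set Gp)) = 4 * Nat.card C := by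
    rw [hT.card_normalizer hS, Suz.torIdx, if_neg hne]
  obtain ⟨P, hP⟩ := Sylow.exists_subgroup_card_pow_prime (G := ↥(normalizer (C : Set Gp))) 2 (n := 2)
    ⟨Nat.card C, hN⟩
  have hodd := hT.odd hS
  have hxC : x ∈ C := Suz.self_mem_cs hS x
  have hn : ∀ g ∈ normalizer (C : Set Gp), ∃ j : ℕ, g * x * g⁻¹ = x ^ j := by
    intro g hg
    have hm : g * x * g⁻¹ ∈ C := (mem_normalizer_iff.1 hg x).1 hxC
    have hz : g * x * g⁻¹ ∈ zpowers x := by
      have h1 : zpowers (⟨g * x * g⁻¹, hm⟩ : ↥C) = zpowers (⟨x, hxC⟩ : ↥C) := Cfsg.Agent.S3977.cyclic_subgroup_eq (by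
        rw [Nat.card_zpowers, Nat.card_zpowers, ← orderOf_injective C.subtype C.subtype_injective ⟨g * x * g⁻¹, hm⟩,
          ← orderOf_injective C.subtype C.subtype_injective ⟨x, hxC⟩]
        exact orderOf_conj g x)
      obtain ⟨i, hi⟩ := mem_zpowers_iff.1 (h1 ▸ mem_zpowers (⟨g * x * g⁻¹, hm⟩ : ↥C))
      exact ⟨i, by simpa using congrArg Subtype.val hi⟩
    obtain ⟨j, hj⟩ := (mem_powers_iff_mem_zpowers (G := Gp)).2 hz
    exact ⟨j, hj.symm⟩
  have hcentr : ∀ g : Gp, g ^ 4 = 1 → g * x = x * g → g = 1 := fun g h4 hc => by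
    have h1 : orderOf g ∣ 2 ^ 2 := orderOf_dvd_of_pow_eq_one h4
    have h2 : orderOf g ∣ Nat.card C := C.orderOf_dvd_natCard (mem_centralizer_singleton_iff.2 hc)
    exact orderOf_eq_one_iff.1
      (Nat.eq_one_of_dvd_coprimes (Nat.Coprime.pow_left 2 (Nat.coprime_two_left.2 hodd)) h1 h2)
  have hP4 : ∀ p : ↥P, ((p : ↥(normalizer (C : Set Gp))) : Gp) ^ 4 = 1 := fun p => by
    have h := pow_card_eq_one' (x := p)
    rw [hP] at h
    exact_mod_cast congrArg (fun z : ↥P => ((z : ↥(normalizer (C : Set Gp))) : Gp)) h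
  obtain ⟨g, hg, hg4⟩ : ∃ g ∈ normalizer (C : Set Gp), orderOf g = 4 := by
    by_contra hno
    push Not at hno
    have h2 : ∀ p : ↥P, ((p : ↥(normalizer (C : Set Gp))) : Gp) ^ 2 = 1 := fun p => by
      rcases (Nat.dvd_prime_pow Nat.prime_two).1
        (show orderOf ((p : ↥(normalizer (C : Set Gp))) : Gp) ∣ 2 ^ 2 from orderOf_dvd_of_pow_eq_one (hP4 p))
        with ⟨i, hi, e⟩
      interval_cases i
      · rw [orderOf_eq_one_iff.1 e, one_pow]
      · exact orderOf_dvd_iff_pow_eq_one.1 (dvd_of_eq e)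
      · exact absurd e (hno _ (p : ↥(normalizer (C : Set Gp))).2)
    have hinv : ∀ p : ↥P, p ≠ 1 → ((p : ↥(normalizer (C : Set Gp))) : Gp) * x *
        ((p : ↥(normalizer (C : Set Gp))) : Gp)⁻¹ = x⁻¹ := by
      intro p hp
      set u : Gp := ((p : ↥(normalizer (C : Set Gp))) : Gp) with hu
      have hu2 : u * u = 1 := by rw [← pow_two]; exact h2 p
      have hu1 : u⁻¹ = u := inv_eq_of_mul_eq_one_left hu2
      obtain ⟨j, hj⟩ := hn u (p : ↥(normalizer (C : Set Gp))).2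
      by_contra hne'
      have hy : x * (x ^ j) ≠ 1 := fun e => hne' (hj.trans (eq_inv_of_mul_eq_one_right e))
      have hj2 : (x ^ j) ^ j = x := by
        rw [← hj, _root_.conj_pow, ← hj, hu1, ← mul_assoc, ← mul_assoc, hu2, one_mul, mul_assoc, hu2, mul_one]
      have hfix : u * (x * x ^ j) * u⁻¹ = x * x ^ j := by
        rw [show u * (x * x ^ j) * u⁻¹ = u * x * u⁻¹ * (u * x ^ j * u⁻¹) by group, ← _root_.conj_pow, hj, hj2,
          ((Commute.refl x).pow_left j).eq]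
      have hz : x ∈ zpowers (x * x ^ j) := by
        rw [show zpowers (x * x ^ j) = zpowers x from eq_of_le_of_card_ge
          (zpowers_le.2 (mul_mem (mem_zpowers x) (npow_mem_zpowers x j))) (by
            rw [Nat.card_zpowers, Nat.card_zpowers, hx, orderOf_eq_prime (p := b) (by
              rw [← pow_succ', ← pow_mul, mul_comm, pow_mul, ← hx, pow_orderOf_eq_one, one_pow]) hy])]
        exact mem_zpowers x
      obtain ⟨i, hi⟩ := mem_zpowers_iff.1 hz
      have hux : u * x * u⁻¹ = x := by rw [← hi, ← conj_zpow, hfix]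
      exact hp (Subtype.ext (Subtype.ext (hcentr u (hP4 p) (mul_inv_eq_iff_eq_mul.1 hux))))
    haveI := Fintype.ofFinite ↥P
    obtain ⟨p1, p2, p3, h12, h13, h23⟩ := Fintype.two_lt_card_iff.1
      (show 2 < Fintype.card ↥P by rw [← Nat.card_eq_fintype_card, hP]; norm_num)
    obtain ⟨p, q, hp, hq, hpq⟩ : ∃ p q : ↥P, p ≠ 1 ∧ q ≠ 1 ∧ p ≠ q := by
      by_cases e1 : p1 = 1
      · exact ⟨p2, p3, fun e => h12 (e1.trans e.symm), fun e => h13 (e1.trans e.symm), h23⟩
      · by_cases e2 : p2 = 1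
        · exact ⟨p1, p3, e1, fun e => h23 (e2.trans e.symm), h13⟩
        · exact ⟨p1, p2, e1, e2, h12⟩
    refine hpq (Subtype.ext (Subtype.ext ?_))
    have e1 := hinv p hp
    have e2 := hinv q hq
    set u : Gp := ((p : ↥(normalizer (C : Set Gp))) : Gp) with hu
    set w : Gp := ((q : ↥(normalizer (C : Set Gp))) : Gp) with hw
    have hc : u⁻¹ * w * x = x * (u⁻¹ * w) := by
      rw [mul_assoc, mul_inv_eq_iff_eq_mul.1 e2, ← mul_assoc, ← mul_assoc]
      congr 1
      rw [inv_mul_eq_iff_eq_mul, ← mul_assoc, mul_inv_eq_iff_eq_mul.1 e1, mul_assoc]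
      simp
    have := hcentr (u⁻¹ * w) (by
      have hm : (((p⁻¹ * q : ↥P) : ↥(normalizer (C : Set Gp))) : Gp) = u⁻¹ * w := rfl
      rw [← hm]; exact hP4 _) hc
    exact inv_mul_eq_one.1 this
  obtain ⟨j, hj⟩ := hn g hg
  refine ⟨x, g, j, hx, hg4, hj, ?_⟩
  have hpow : ∀ i : ℕ, g ^ i * x * (g ^ i)⁻¹ = x ^ (j ^ i) := by
    intro i
    induction i with
    | zero => simp
    | succ i ih =>
      rw [pow_succ' g, show g * g ^ i * x * (g * g ^ i)⁻¹ = g * (g ^ i * x * (g ^ i)⁻¹) * g⁻¹ by group, ih,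
        ← _root_.conj_pow, hj, ← pow_mul, ← pow_succ']
  have key : ∀ i l : ℕ, i < l → l < 4 → x ^ (j ^ i) ≠ x ^ (j ^ l) := by
    intro i l hil hl e
    obtain ⟨d, rfl⟩ : ∃ d, l = i + d := ⟨l - i, by omega⟩
    rw [← hpow, ← hpow, show g ^ (i + d) * x * (g ^ (i + d))⁻¹ = g ^ i * (g ^ d * x * (g ^ d)⁻¹) * (g ^ i)⁻¹ by
      rw [pow_add]; group, mul_left_inj, mul_right_inj] at e
    have hg4' : g ^ 4 = 1 := orderOf_dvd_iff_pow_eq_one.1 (dvd_of_eq hg4)
    have h1 := hcentr (g ^ d) (by rw [← pow_mul, mul_comm, pow_mul, hg4', one_pow])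
      (mul_inv_eq_iff_eq_mul.1 e.symm)
    exact absurd (Nat.le_of_dvd (by omega) (hg4 ▸ orderOf_dvd_of_pow_eq_one h1)) (by omega)
  intro i hi l hl hil
  rcases Nat.lt_or_gt_of_ne hil with h | h
  · exact key i l h hl
  · exact (key l i h hi).symm

/-- Up to inversion, one class of elements of order four in the Sylow two-subgroup. -/
theorem exists_conj_four {a b a' b' : F} (ha : a ≠ 0) (ha' : a' ≠ 0) :
    ∃ h : Gp, h * Suz.uS hS a b * h⁻¹ = Suz.uS hS a' b' ∨ h * Suz.uS hS a b * h⁻¹ = (Suz.uS hS a' b')⁻¹ := by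
  classical
  obtain ⟨z, hz⟩ := Suz.exists_par hS (Units.mk0 (a' / a) (div_ne_zero ha' ha))
  have hza : Suz.par k (z : F) * a = a' := by rw [hz, Units.val_mk0, div_mul_cancel₀ _ ha]
  set b'' := Suz.th k (z : F) * b
  have h1 : Suz.hTor hS z * Suz.uS hS a b * (Suz.hTor hS z)⁻¹ = Suz.uS hS a' b'' := by
    rw [Suz.hTor_conj, hza]
  have h2 : ∀ c : F, Suz.uS hS c 0 * Suz.uS hS a' b'' * (Suz.uS hS c 0)⁻¹ =
      Suz.uS hS a' (b'' + (Suz.th k a' * c + Suz.th k c * a')) := fun c => by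
    have e' : Suz.uS hS c 0 * Suz.uS hS a' b'' * (Suz.uS hS c 0)⁻¹ =
        Suz.uS hS 0 (Suz.th k c * a' + Suz.th k a' * c) * Suz.uS hS a' b'' := by
      rw [← Suz.comm_uS hS c a' (0 : F) b'']; group
    rw [e', Suz.uS_mul]
    congr 1
    · rw [zero_add]
    · rw [Suz.th_zero, zero_mul, add_zero]; ring
  let f : F →+ F := AddMonoidHom.mk' (fun c => Suz.th k a' * c + Suz.th k c * a') fun c d => by
    rw [Suz.th_add hS]; ring
  have hind : f.range.index = 2 := by
    have hker : Nat.card f.ker ≤ 2 := by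
      refine (Nat.card_le_card_of_injective (fun c : f.ker => decide ((c : F) = 0)) ?_).trans (by simp)
      intro c d e
      have hcases : ∀ c : f.ker, (c : F) = 0 ∨ (c : F) = a' := fun c => by
        by_cases hc0 : (c : F) = 0
        · exact .inl hc0
        have hc : Suz.th k a' * c + Suz.th k (c : F) * a' = 0 := c.2
        have ht : Suz.th k ((c : F) / a') = (c : F) / a' := by
          rw [Suz.th_div]
          have := Suz.th_ne_zero (m := k) ha'
          field_simp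
          linear_combination hc - (c : F) * Suz.th k a' * Suz.two hS
        rcases Suz.th_fixed hS ht with e | e
        · exact absurd ((div_eq_zero_iff.1 e).resolve_right ha') hc0
        · exact .inr ((div_eq_one_iff_eq ha').1 e)
      refine Subtype.ext ?_
      rcases hcases c with hc | hc <;> rcases hcases d with hd | hd <;>
        simp only [hc, hd, ha', decide_true, decide_false, Bool.true_eq_false, Bool.false_eq_true] at e ⊢
    have hne : f.range ≠ ⊤ := fun e => by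
      obtain ⟨c, hc⟩ := (e ▸ AddSubgroup.mem_top (Suz.th k a' * a') : Suz.th k a' * a' ∈ f.range)
      refine Suz.not_real hS (b := b'') ha' (isConj_iff.2 ⟨Suz.uS hS c 0, ?_⟩)
      rw [h2, Suz.uS_inv, ← hc]
      rfl
    have h3 : Nat.card f.range * Nat.card f.ker = Nat.card F := by
      rw [← AddSubgroup.index_ker, mul_comm, AddSubgroup.card_mul_index]
    have h4 := f.range.card_mul_index
    have h5 : 1 < f.range.index := by
      refine lt_of_le_of_ne (Nat.one_le_iff_ne_zero.2 AddSubgroup.index_ne_zero_of_finite) fun e => ?_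
      exact hne (AddSubgroup.index_eq_one.1 e.symm)
    have h6 : f.range.index = Nat.card f.ker :=
      Nat.eq_of_mul_eq_mul_left Nat.card_pos (h4.trans h3.symm)
    omega
  have h7 : b' - b'' ∈ f.range ∨ b' - b'' + Suz.th k a' * a' ∈ f.range := by
    by_cases h8 : b' - b'' ∈ f.range
    · exact .inl h8
    refine .inr ((AddSubgroup.add_mem_iff_of_index_two hind).2 (iff_of_false h8 fun e => ?_))
    obtain ⟨c, hc⟩ := e
    refine Suz.not_real hS (b := b'') ha' (isConj_iff.2 ⟨Suz.uS hS c 0, ?_⟩)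
    rw [h2, Suz.uS_inv, ← hc]
    rfl
  have hcomp : ∀ c, Suz.uS hS c 0 * Suz.hTor hS z * Suz.uS hS a b * (Suz.uS hS c 0 * Suz.hTor hS z)⁻¹ =
      Suz.uS hS a' (b'' + f c) := fun c => by
    rw [show f c = Suz.th k a' * c + Suz.th k c * a' from rfl, ← h2, ← h1]; group
  rcases h7 with ⟨c, hc⟩ | ⟨c, hc⟩
  · exact ⟨_, .inl (by rw [hcomp c, hc, add_sub_cancel])⟩
  · exact ⟨_, .inr (by rw [hcomp c, hc, Suz.uS_inv, ← add_assoc, add_sub_cancel])⟩

theorem card_fixd_eq {W : Type u} [CommGroup W] [Finite W] (ρ : Gp →* MulAut W) {b : ℕ} (hb : b.Prime)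
    (hbd : b ∣ (2 ^ (2 * k + 1)) ^ 2 + 1) {S : Subgroup W} (hSi : ∀ h, ρ h ∈ pres S) (hodd : Odd (Nat.card S))
    (hbS : ¬ b ∣ Nat.card S) (hfpf : ∀ x : Gp, orderOf x = b → S ⊓ fixd (ρ x) = ⊥) (hS1 : S ≠ ⊥) :
    (∀ a c : F, a ≠ 0 → Nat.card ↥(S ⊓ fixd (ρ (Suz.uS hS a c))) ^ 4 = Nat.card S) ∧
    ∀ c : F, c ≠ 0 → Nat.card ↥(S ⊓ fixd (ρ (Suz.uS hS 0 c))) ^ 2 = Nat.card S := by
  haveI : Fact (Nat.Prime 2) := ⟨Nat.prime_two⟩
  obtain ⟨x, g, j, hx, hg, hconj, hdist⟩ := exists_frob hS hb hbd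
  haveI := Fact.mk hb
  have hinj : ∀ y ∈ zpowers x, ρ y = 1 → y = 1 := fun y hy e => by
    by_contra hy1
    have hx' : x ∈ zpowers y := by
      rw [show zpowers y = zpowers x from eq_of_le_of_card_ge (zpowers_le.2 hy) (by
        rw [Nat.card_zpowers, Nat.card_zpowers, hx, orderOf_eq_prime (p := b) (by
          obtain ⟨i, rfl⟩ := mem_zpowers_iff.1 hy
          rw [← zpow_natCast, ← zpow_mul, mul_comm, zpow_mul, zpow_natCast, ← hx, pow_orderOf_eq_one, one_zpow]) hy1])]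
      exact mem_zpowers x
    obtain ⟨i, hi⟩ := mem_zpowers_iff.1 hx'
    refine hS1 ((Subgroup.eq_bot_iff_forall _).2 fun v hv => (Subgroup.eq_bot_iff_forall _).1 (hfpf x hx) v ⟨hv, ?_⟩)
    show ρ x v = v
    rw [← hi, map_zpow, e, one_zpow]
    rfl
  have hF : FrobAut b 4 j (ρ x) (ρ g) :=
    { prime := hb, pos := by norm_num
      hx := by rw [← map_pow, ← hx, pow_orderOf_eq_one, map_one]
      hg := by rw [← map_pow, orderOf_dvd_iff_pow_eq_one.1 (dvd_of_eq hg), map_one]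
      conj := by rw [← map_inv, ← map_mul, ← map_mul, hconj, map_pow]
      dist := fun i hi l hl hil e => by
        rw [← map_pow, ← map_pow] at e
        refine hdist i hi l hl hil (mul_inv_eq_one.1 (hinj _ (mul_mem (npow_mem_zpowers x _)
          (inv_mem (npow_mem_zpowers x _))) ?_))
        rw [map_mul, map_inv, e, mul_inv_cancel] }
  obtain ⟨q2, q4⟩ := hF.quarter hodd hbS (hSi x) (hSi g) (hfpf x hx)
  obtain ⟨P, hP⟩ := (IsPGroup.of_card (p := 2) (n := 2) (G := ↥(zpowers g))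
    (by rw [Nat.card_zpowers, hg]; rfl)).exists_le_sylow
  obtain ⟨h, hh⟩ := Suz.exists_conj_unip hS P
  have hgu : h⁻¹ * g * h ∈ Suz.unip hS := by
    have hm := hP (mem_zpowers g)
    rw [hh] at hm
    obtain ⟨u, hu, e⟩ := hm
    rw [← e]
    show h⁻¹ * (h * u * h⁻¹) * h ∈ _
    rwa [show h⁻¹ * (h * u * h⁻¹) * h = u by group]
  obtain ⟨a0, c0, he⟩ := (Suz.mem_unip hS).1 hgu
  have hord : orderOf (Suz.uS hS a0 c0) = 4 := by
    rw [← he, show h⁻¹ * g * h = h⁻¹ * g * h⁻¹⁻¹ by rw [inv_inv], orderOf_conj, hg]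
  have ha0 : a0 ≠ 0 := fun e => by
    have h2 : Suz.uS hS a0 c0 ^ 2 = 1 := by rw [Suz.uS_sq, e, Suz.th_zero, mul_zero, Suz.uS_zero]
    have := Nat.le_of_dvd two_pos (orderOf_dvd_of_pow_eq_one h2)
    omega
  have h4 : ∀ a c : F, a ≠ 0 → Nat.card ↥(S ⊓ fixd (ρ (Suz.uS hS a c))) ^ 4 = Nat.card S := by
    intro a c ha
    have e0 : Nat.card ↥(S ⊓ fixd (ρ (Suz.uS hS a0 c0))) = Nat.card ↥(S ⊓ fixd (ρ g)) := by
      rw [← he, show h⁻¹ * g * h = h⁻¹ * g * h⁻¹⁻¹ by rw [inv_inv], card_inf_fixd_conj hSi]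
    obtain ⟨h', e | e⟩ := exists_conj_four hS (b := c0) (b' := c) ha0 ha
    · rw [← e, card_inf_fixd_conj hSi, e0, q4]
    · rw [← inv_inv (Suz.uS hS a c), ← e, map_inv, fixd_inv, card_inf_fixd_conj hSi, e0, q4]
  refine ⟨h4, fun c hc => ?_⟩
  obtain ⟨a, hac⟩ := Suz.exists_th_mul_self hS c
  have ha : a ≠ 0 := fun e => hc (by rw [← hac, e, mul_zero])
  obtain ⟨h', e | e⟩ := exists_conj_four hS (b := c0) (b' := 0) ha0 ha
  · have e2 : h' * (h⁻¹ * g * h) ^ 2 * h'⁻¹ = Suz.uS hS 0 c := by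
      rw [← _root_.conj_pow, he, e, Suz.uS_sq, hac]
    rw [← e2, card_inf_fixd_conj hSi, show (h⁻¹ * g * h) ^ 2 = h⁻¹ * (g * g) * h⁻¹⁻¹ by rw [pow_two]; group,
      card_inf_fixd_conj hSi, map_mul, q2]
  · have e2 : h' * (h⁻¹ * g * h) ^ 2 * h'⁻¹ = (Suz.uS hS 0 c)⁻¹ := by
      rw [← _root_.conj_pow, he, e, inv_pow, Suz.uS_sq, hac]
    rw [← inv_inv (Suz.uS hS 0 c), ← e2, map_inv, fixd_inv, card_inf_fixd_conj hSi,
      show (h⁻¹ * g * h) ^ 2 = h⁻¹ * (g * g) * h⁻¹⁻¹ by rw [pow_two]; group, card_inf_fixd_conj hSi, map_mul, q2]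

/-- The Sylow two-subgroup acts freely. -/
theorem card_eq_pow {W : Type u} [CommGroup W] [Finite W] (ρ : Gp →* MulAut W) {b : ℕ} (hb : b.Prime)
    (hbd : b ∣ (2 ^ (2 * k + 1)) ^ 2 + 1) {S : Subgroup W} (hSi : ∀ h, ρ h ∈ pres S) (hodd : Odd (Nat.card S))
    (hbS : ¬ b ∣ Nat.card S) (hfpf : ∀ x : Gp, orderOf x = b → S ⊓ fixd (ρ x) = ⊥) :
    Nat.card S = Nat.card ↥(S ⊓ fixAll ρ (Suz.unip hS)) ^ ((2 ^ (2 * k + 1)) ^ 2) := by
  classical
  by_cases hS1 : S = ⊥
  · subst hS1; simp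
  obtain ⟨h4, h2⟩ := card_fixd_eq hS ρ hb hbd hSi hodd hbS hfpf hS1
  set q := 2 ^ (2 * k + 1) with hq
  have hq0 : 0 < q := Nat.two_pow_pos _
  have hqF : Fintype.card (Multiplicative F) = q := by rw [Fintype.card_multiplicative, hS.card]
  let φ : Multiplicative F →* MulAut W :=
    { toFun := fun c => ρ (Suz.uS hS 0 (Multiplicative.toAdd c))
      map_one' := by rw [toAdd_one, Suz.uS_zero, map_one]
      map_mul' := fun c d => by rw [← map_mul, Suz.uS_mul, toAdd_mul, Suz.th_zero, zero_mul, add_zero, add_zero] }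
  have hφ2 : ∀ c : Multiplicative F, c * c = 1 := fun c => by
    apply Multiplicative.toAdd.injective
    rw [toAdd_mul, toAdd_one]
    linear_combination (Multiplicative.toAdd c) * Suz.two hS
  have hodd' : ∀ {S₁ : Subgroup W}, S₁ ≤ S → Odd (Nat.card S₁) := fun h => hodd.of_dvd_nat (card_dvd_of_le h)
  -- the centre
  set XZ := S ⊓ fixAll φ ⊤
  have hXZ : ∀ v ∈ XZ, ∀ c : F, ρ (Suz.uS hS 0 c) v = v := fun v hv c =>
    mem_fixAll.1 hv.2 (Multiplicative.ofAdd c) trivial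
  have step1 : Nat.card S = Nat.card XZ ^ q := by
    have h := double_count_top φ hφ2 S hodd (fun c => hSi _)
    have h2' : ∀ c ∈ (Finset.univ : Finset (Multiplicative F)).erase 1,
        Nat.card ↥(S ⊓ fixd (φ c)) ^ 2 = Nat.card S := fun c hc => h2 _ fun e =>
      (Finset.mem_erase.1 hc).1 (Multiplicative.toAdd.injective (by rw [e, toAdd_one]))
    rw [hqF, ← Finset.mul_prod_erase _ _ (Finset.mem_univ (1 : Multiplicative F)), map_one,
      show S ⊓ fixd (1 : MulAut W) = S from inf_eq_left.2 fun v _ => rfl, mul_pow, ← Finset.prod_pow,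
      Finset.prod_congr rfl h2',
      Finset.prod_const, Finset.card_erase_of_mem (Finset.mem_univ _), Finset.card_univ, hqF, mul_pow] at h
    have h' : Nat.card S ^ q * Nat.card S = Nat.card S ^ q * Nat.card XZ ^ q := by
      rw [← h, ← pow_succ, ← pow_add]; congr 1; omega
    exact Nat.eq_of_mul_eq_mul_left (pow_pos Nat.card_pos _) h'
  -- cosets of the centre on the fixed points of the centre
  have step2 : ∀ a : F, a ≠ 0 → Nat.card ↥(XZ ⊓ fixd (ρ (Suz.uS hS a 0))) ^ 2 = Nat.card XZ := by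
    intro a ha
    set g := Suz.uS hS a 0
    set Q := Nat.card ↥(S ⊓ fixd (ρ g))
    have hQ : Q ^ 4 = Nat.card S := h4 a 0 ha
    have hQpos : 0 < Q := Nat.card_pos
    have hzg : ∀ c, Suz.uS hS 0 c * g = g * Suz.uS hS 0 c := fun c => by
      show Suz.uS hS 0 c * Suz.uS hS a 0 = Suz.uS hS a 0 * Suz.uS hS 0 c
      simp [Suz.uS_mul, Suz.th_zero]
    have hgg : g * g = Suz.uS hS 0 (Suz.th k a * a) := by rw [← pow_two]; exact Suz.uS_sq hS a 0
    have hzz : ∀ c, Suz.uS hS 0 c * Suz.uS hS 0 c = 1 := fun c => by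
      rw [← pow_two, Suz.uS_sq, Suz.th_zero, zero_mul, Suz.uS_zero]
    have hpres : ∀ (y : Gp) (c : MulAut W), Commute c (ρ y) → ρ y ∈ pres (S ⊓ fixd c) := fun y c hc v => by
      refine and_congr (hSi y v) ?_
      show c (ρ y v) = ρ y v ↔ c v = v
      rw [← MulAut.mul_apply, hc.eq, MulAut.mul_apply]
      exact (ρ y).injective.eq_iff
    set Sp := S ⊓ fixd (ρ g)
    set Sm := S ⊓ fixd (invAut W * ρ g)
    have hSm : Nat.card Sm = Q := by
      set S2 := S ⊓ fixd (ρ (g * g))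
      have hSp2 : Sp ≤ S2 := fun v hv => ⟨hv.1, by
        show ρ (g * g) v = v
        rw [map_mul, MulAut.mul_apply, show ρ g v = v from hv.2, show ρ g v = v from hv.2]⟩
      have hSm2 : Sm ≤ S2 := fun v hv => ⟨hv.1, by
        show ρ (g * g) v = v
        rw [map_mul, MulAut.mul_apply, mem_fixd_inv.1 hv.2, map_inv, mem_fixd_inv.1 hv.2, inv_inv]⟩
      have e := card_split (hodd' inf_le_left)
        (hpres g (ρ (g * g)) (((Commute.refl g).mul_left (Commute.refl g)).map ρ))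
        (fun v hv => by rw [← MulAut.mul_apply, ← map_mul]; exact hv.2)
      have e0 : S ⊓ fixd (ρ (g * g)) ⊓ fixd (ρ g) = Sp :=
        le_antisymm (fun v hv => ⟨hv.1.1, hv.2⟩) (fun v hv => ⟨⟨hv.1, (hSp2 hv).2⟩, hv.2⟩)
      have e1 : S ⊓ fixd (ρ (g * g)) ⊓ fixd (invAut W * ρ g) = Sm :=
        le_antisymm (fun v hv => ⟨hv.1.1, hv.2⟩) (fun v hv => ⟨⟨hv.1, (hSm2 hv).2⟩, hv.2⟩)
      rw [e0, e1] at e
      have e2 : Nat.card S2 ^ 2 = Q ^ 4 := by
        rw [hQ]
        show Nat.card ↥(S ⊓ fixd (ρ (g * g))) ^ 2 = _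
        rw [hgg]
        exact h2 _ (mul_ne_zero (Suz.th_ne_zero ha) ha)
      rw [show Q ^ 4 = (Q ^ 2) ^ 2 from pow_mul Q 2 2] at e2
      have e3 := Nat.pow_left_injective two_ne_zero e2
      rw [e3, pow_two] at e
      exact Nat.eq_of_mul_eq_mul_left hQpos e
    have hz : ∀ c : Multiplicative F, Nat.card ↥(Sp ⊓ fixd (φ c)) = Nat.card ↥(Sm ⊓ fixd (φ c)) := by
      intro c
      set z := Suz.uS hS 0 (Multiplicative.toAdd c)
      have hT : S ⊓ fixd (ρ (g * z)) ≤ S ∧ ∀ v ∈ S ⊓ fixd (ρ (g * z)), ρ g (ρ g v) = v := ⟨inf_le_left, fun v hv => by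
        have h1 : ρ (g * z) (ρ (g * z) v) = v := by
          rw [show ρ (g * z) v = v from hv.2, show ρ (g * z) v = v from hv.2]
        rw [← MulAut.mul_apply, ← map_mul, mul_assoc, ← mul_assoc z, hzg, mul_assoc g z z, hzz, mul_one] at h1
        rw [← MulAut.mul_apply, ← map_mul]; exact h1⟩
      have e1 := card_split (hodd' hT.1)
        (hpres g (ρ (g * z)) (((Commute.refl g).mul_left (hzg _)).map ρ)) hT.2
      have e2 := card_split (hodd' (inf_le_left : Sm ≤ S))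
        (hpres z (invAut W * ρ g) ((invAut_comm (ρ z)).mul_left ((show Commute g z from (hzg _).symm).map ρ)))
        (fun v _ => by rw [← MulAut.mul_apply, ← map_mul, hzz, map_one]; rfl)
      rw [inf_right_comm S, inf_right_comm S (fixd (ρ (g * z)))] at e1
      have i1 : Sp ⊓ fixd (ρ (g * z)) = Sp ⊓ fixd (φ c) := by
        refine SetLike.ext fun v => and_congr_right fun hv => ?_
        show ρ (g * z) v = v ↔ ρ z v = v
        rw [← hzg, map_mul, MulAut.mul_apply, show ρ g v = v from hv.2]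
      have i2 : Sm ⊓ fixd (ρ (g * z)) = Sm ⊓ fixd (invAut W * φ c) := by
        refine SetLike.ext fun v => and_congr_right fun hv => ?_
        show ρ (g * z) v = v ↔ (invAut W * ρ z) v = v
        rw [← hzg, map_mul, MulAut.mul_apply, mem_fixd_inv.1 hv.2, map_inv, MulAut.mul_apply, invAut_apply]
      rw [i1, i2] at e1
      have hgz : Nat.card ↥(S ⊓ fixd (ρ (g * z))) = Q := by
        refine Nat.pow_left_injective (show 4 ≠ 0 by norm_num) (Eq.trans ?_ hQ.symm)
        show Nat.card ↥(S ⊓ fixd (ρ (Suz.uS hS a 0 * Suz.uS hS 0 _))) ^ 4 = _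
        rw [Suz.uS_mul, add_zero]
        exact h4 a _ ha
      rw [hgz] at e1
      rw [hSm] at e2
      change Nat.card ↥(Sm ⊓ fixd (φ c)) * Nat.card ↥(Sm ⊓ fixd (invAut W * φ c)) = Q at e2
      exact Nat.eq_of_mul_eq_mul_right (Nat.card_pos (α := ↥(Sm ⊓ fixd (invAut W * φ c)))) (e1.trans e2.symm)
    have dp := double_count_top φ hφ2 Sp (hodd' inf_le_left) (fun c => hpres _ _ ((show Commute g _ from (hzg _).symm).map ρ))
    have dm := double_count_top φ hφ2 Sm (hodd' inf_le_left)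
      (fun c => hpres _ _ ((invAut_comm _).mul_left ((show Commute g _ from (hzg _).symm).map ρ)))
    simp only [hz] at dp
    rw [dm] at dp
    have e := Nat.pow_left_injective (by rw [hqF]; omega) dp
    rw [hSm] at e
    have e' : Nat.card ↥(Sm ⊓ fixAll φ ⊤) = Nat.card ↥(Sp ⊓ fixAll φ ⊤) := Nat.eq_of_mul_eq_mul_left hQpos e
    have hgX : ρ g ∈ pres XZ := fun v => by
      refine and_congr (hSi g v) ?_
      show _ ∈ fixAll φ ⊤ ↔ _ ∈ fixAll φ ⊤
      rw [mem_fixAll, mem_fixAll]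
      refine forall₂_congr fun c _ => ?_
      show ρ (Suz.uS hS 0 _) (ρ g v) = ρ g v ↔ ρ (Suz.uS hS 0 _) v = v
      rw [← MulAut.mul_apply, ← map_mul, hzg, map_mul, MulAut.mul_apply]
      exact (ρ g).injective.eq_iff
    have e3 := card_split (hodd' (inf_le_left : XZ ≤ S)) hgX fun v hv => by
      rw [← MulAut.mul_apply, ← map_mul, hgg]; exact hXZ v hv _
    have hsp : XZ ⊓ fixd (ρ g) = Sp ⊓ fixAll φ ⊤ := inf_right_comm _ _ _
    have hsm : XZ ⊓ fixd (invAut W * ρ g) = Sm ⊓ fixAll φ ⊤ := inf_right_comm _ _ _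
    rw [hsp, hsm, e'] at e3
    rw [hsp, pow_two, e3]
  -- the quotient by the centre
  have hpresX : ∀ a : F, ρ (Suz.uS hS a 0) ∈ pres XZ := fun a v => by
    refine and_congr (hSi _ v) ?_
    show _ ∈ fixAll φ ⊤ ↔ _ ∈ fixAll φ ⊤
    rw [mem_fixAll, mem_fixAll]
    refine forall₂_congr fun c _ => ?_
    show ρ (Suz.uS hS 0 _) (ρ (Suz.uS hS a 0) v) = ρ (Suz.uS hS a 0) v ↔ ρ (Suz.uS hS 0 _) v = v
    rw [← MulAut.mul_apply, ← map_mul, show Suz.uS hS 0 (Multiplicative.toAdd c) * Suz.uS hS a 0 =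
      Suz.uS hS a 0 * Suz.uS hS 0 (Multiplicative.toAdd c) by
      simp [Suz.uS_mul, Suz.th_zero],
      map_mul, MulAut.mul_apply]
    exact (ρ _).injective.eq_iff
  let ψ : Multiplicative F →* MulAut ↥XZ := MonoidHom.mk'
    (fun a =>
      { toFun := fun v => ⟨ρ (Suz.uS hS (Multiplicative.toAdd a) 0) v, (hpresX _ _).2 v.2⟩
        invFun := fun v => ⟨(ρ (Suz.uS hS (Multiplicative.toAdd a) 0)).symm v, (hpresX _ _).1 (by
          rw [MulEquiv.apply_symm_apply]; exact v.2)⟩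
        left_inv := fun v => Subtype.ext (MulEquiv.symm_apply_apply _ _)
        right_inv := fun v => Subtype.ext (MulEquiv.apply_symm_apply _ _)
        map_mul' := fun v w => Subtype.ext (map_mul _ _ _) })
    fun a c => MulEquiv.ext fun v => Subtype.ext (by
      show ρ (Suz.uS hS (Multiplicative.toAdd (a * c)) 0) v =
        ρ (Suz.uS hS (Multiplicative.toAdd a) 0) (ρ (Suz.uS hS (Multiplicative.toAdd c) 0) v)
      rw [← MulAut.mul_apply, ← map_mul, Suz.uS_mul, zero_add, zero_add, toAdd_mul]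
      rw [show Suz.uS hS (Multiplicative.toAdd a + Multiplicative.toAdd c)
          (Suz.th k (Multiplicative.toAdd a) * Multiplicative.toAdd c) =
        Suz.uS hS (Multiplicative.toAdd a + Multiplicative.toAdd c) 0 *
          Suz.uS hS 0 (Suz.th k (Multiplicative.toAdd a) * Multiplicative.toAdd c) by
        rw [Suz.uS_mul, add_zero, mul_zero, add_zero, zero_add], map_mul, MulAut.mul_apply, hXZ v v.2])
  have hfix : ∀ a : Multiplicative F, Nat.card ↥(fixd (ψ a)) =
      Nat.card ↥(XZ ⊓ fixd (ρ (Suz.uS hS (Multiplicative.toAdd a) 0))) := fun a => by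
    rw [← card_map_of_injective XZ.subtype_injective]
    suffices h : (fixd (ψ a)).map XZ.subtype = XZ ⊓ fixd (ρ (Suz.uS hS (Multiplicative.toAdd a) 0)) by rw [h]
    refine SetLike.ext fun v => ⟨?_, fun hv => mem_map.2 ⟨⟨v, hv.1⟩, Subtype.ext hv.2, rfl⟩⟩
    rintro ⟨w, hw, rfl⟩
    exact ⟨w.2, congrArg Subtype.val hw⟩
  have hXU : Nat.card ↥(fixAll ψ ⊤) = Nat.card ↥(S ⊓ fixAll ρ (Suz.unip hS)) := by
    rw [← card_map_of_injective XZ.subtype_injective]
    suffices h : (fixAll ψ ⊤).map XZ.subtype = S ⊓ fixAll ρ (Suz.unip hS) by rw [h]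
    refine SetLike.ext fun v => ⟨?_, fun hv => mem_map.2 ?_⟩
    · rintro ⟨w, hw, rfl⟩
      refine ⟨w.2.1, mem_fixAll.2 fun u hu => ?_⟩
      obtain ⟨a, c, rfl⟩ := (Suz.mem_unip hS).1 hu
      rw [show Suz.uS hS a c = Suz.uS hS a 0 * Suz.uS hS 0 c by
        rw [Suz.uS_mul, add_zero, mul_zero, add_zero, zero_add], map_mul, MulAut.mul_apply,
        show XZ.subtype w = (w : W) from rfl, hXZ _ w.2]
      exact congrArg Subtype.val (mem_fixAll.1 hw (Multiplicative.ofAdd a) trivial)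
    · refine ⟨⟨v, hv.1, mem_fixAll.2 fun c _ => mem_fixAll.1 hv.2 _ (Suz.uS_mem hS _ _)⟩,
        mem_fixAll.2 fun a _ => Subtype.ext (mem_fixAll.1 hv.2 _ (Suz.uS_mem hS _ _)), rfl⟩
  have step3 : Nat.card XZ = Nat.card ↥(S ⊓ fixAll ρ (Suz.unip hS)) ^ q := by
    have h := double_count_top ψ hφ2 ⊤ (by rw [Subgroup.card_top]; exact hodd' inf_le_left)
      (fun a => mem_pres_top _)
    simp only [top_inf_eq, Subgroup.card_top, hfix] at h
    rw [hXU, hqF, ← Finset.mul_prod_erase _ _ (Finset.mem_univ (1 : Multiplicative F)), toAdd_one, Suz.uS_zero,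
      map_one, show XZ ⊓ fixd (1 : MulAut W) = XZ from inf_eq_left.2 fun v _ => rfl, mul_pow, ← Finset.prod_pow,
      Finset.prod_congr rfl (g := fun _ => Nat.card XZ) fun a ha => step2 _ fun e =>
        (Finset.mem_erase.1 ha).1 (Multiplicative.toAdd.injective (by rw [e, toAdd_one])),
      Finset.prod_const, Finset.card_erase_of_mem (Finset.mem_univ _), Finset.card_univ, hqF, mul_pow] at h
    have h' : Nat.card XZ ^ q * Nat.card XZ =
        Nat.card XZ ^ q * Nat.card ↥(S ⊓ fixAll ρ (Suz.unip hS)) ^ q := by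
      rw [← h, ← pow_succ, ← pow_add]; congr 1; omega
    exact Nat.eq_of_mul_eq_mul_left (pow_pos Nat.card_pos _) h'
  rw [step1, step3, ← pow_mul, pow_two]

/-- An element of order `b` has fixed points. -/
theorem sz_exists_fixed {W : Type u} [CommGroup W] [Finite W] [Nontrivial W] (ρ : Gp →* MulAut W) {b : ℕ}
    (hb : b.Prime) (hbd : b ∣ (2 ^ (2 * k + 1)) ^ 2 + 1) (hodd : Odd (Nat.card W)) (hbW : ¬ b ∣ Nat.card W) :
    ∃ (x : Gp) (v : W), orderOf x = b ∧ v ≠ 1 ∧ ρ x v = v := by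
  classical
  by_contra hcon
  push Not at hcon
  have hfpf : ∀ x : Gp, orderOf x = b → fixd (ρ x) = ⊥ := fun x hx =>
    (Subgroup.eq_bot_iff_forall _).2 fun v hv => by
      by_contra hv1
      exact hcon x v hx hv1 hv
  have hbS : ∀ S : Subgroup W, ¬ b ∣ Nat.card S := fun S h => hbW (h.trans (card_subgroup_dvd_card S))
  have hoddS : ∀ S : Subgroup W, Odd (Nat.card S) := fun S => hodd.of_dvd_nat (card_subgroup_dvd_card S)
  have hfS : ∀ S : Subgroup W, ∀ x : Gp, orderOf x = b → S ⊓ fixd (ρ x) = ⊥ := fun S x hx => by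
    rw [hfpf x hx, inf_bot_eq]
  set q := 2 ^ (2 * k + 1) with hq
  set X := fixAll ρ (Suz.unip hS)
  have hX : X ≠ ⊥ := fun e => by
    have h := card_eq_pow hS ρ hb hbd (S := ⊤) (fun _ => mem_pres_top _) (hoddS _) (hbS _) (hfS _)
    rw [top_inf_eq, Subgroup.card_top] at h
    rw [show fixAll ρ (Suz.unip hS) = ⊥ from e, card_bot, one_pow] at h
    exact (Finite.one_lt_card (α := W)).ne' h
  have hB : ∀ g ∈ Suz.borel k F, ∀ v ∈ X, ρ g v ∈ X := fun g hg v hv => mem_fixAll.2 fun u hu => by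
    have hm : g⁻¹ * u * g ∈ Suz.unip hS := by
      have := (mem_normalizer_iff.1 (inv_mem (Suz.borel_le_normalizer hS hg)) u).1 hu
      rwa [inv_inv] at this
    rw [← MulAut.mul_apply, ← map_mul, show u * g = g * (g⁻¹ * u * g) by group, map_mul, MulAut.mul_apply,
      mem_fixAll.1 hv _ hm]
  let Y : Gp ⧸ Suz.borel k F → Subgroup W := fun p => X.map (ρ p.out).toMonoidHom
  have hY : ∀ (g : Gp) (p : Gp ⧸ Suz.borel k F), ∀ v ∈ Y p, ρ g v ∈ Y (g • p) := by
    rintro g p _ ⟨v, hv, rfl⟩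
    have hm : (g • p).out⁻¹ * (g * p.out) ∈ Suz.borel k F := by
      rw [← QuotientGroup.eq, QuotientGroup.out_eq']
      conv_lhs => rw [← QuotientGroup.out_eq' p]
      rfl
    refine ⟨_, hB _ hm v hv, ?_⟩
    show ρ (g • p).out (ρ ((g • p).out⁻¹ * (g * p.out)) v) = ρ g (ρ p.out v)
    rw [← MulAut.mul_apply, ← MulAut.mul_apply, ← map_mul, ← map_mul, mul_inv_cancel_left]
  set S := ⨆ p, Y p
  have hSi : ∀ g, ρ g ∈ pres S := by
    have h1 : ∀ g, ∀ v ∈ S, ρ g v ∈ S := fun g v hv => by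
      have : S ≤ S.comap (ρ g).toMonoidHom := iSup_le fun p w hw => le_iSup Y (g • p) (hY g p w hw)
      exact this hv
    intro g v
    refine ⟨fun h => ?_, h1 g v⟩
    have := h1 g⁻¹ _ h
    rwa [map_inv, MulAut.inv_apply_self] at this
  set p0 : Gp ⧸ Suz.borel k F := QuotientGroup.mk 1
  have hXS : X ≤ S := fun v hv => by
    have h1 : p0.out⁻¹ ∈ Suz.borel k F := by
      have h := QuotientGroup.eq.1 (show (QuotientGroup.mk p0.out : Gp ⧸ Suz.borel k F) = QuotientGroup.mk 1 from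
        QuotientGroup.out_eq' p0)
      rwa [mul_one] at h
    refine le_iSup Y p0 ⟨_, hB _ h1 v hv, ?_⟩
    show ρ p0.out (ρ p0.out⁻¹ v) = v
    rw [map_inv, MulAut.apply_inv_self]
  have hcardS := card_eq_pow hS ρ hb hbd hSi (hoddS S) (hbS S) (hfS S)
  rw [inf_eq_right.2 hXS] at hcardS
  -- two orbits of an element of order `b`
  obtain ⟨x, -, -, hx, -, -, -⟩ := exists_frob hS hb hbd
  have hxfix : ∀ n : ℕ, ¬ b ∣ n → ∀ p : Gp ⧸ Suz.borel k F, x ^ n • p ≠ p := by
    intro n hn p e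
    have hxn : x ^ n ≠ 1 := fun e1 => hn (hx ▸ orderOf_dvd_of_pow_eq_one e1)
    have hF : Suz.FPF k (x ^ n) := Suz.FPF_of_orderOf_dvd hS
      ((orderOf_pow_dvd n).trans (hx ▸ hbd)) hxn
    have hm : p.out⁻¹ * x ^ n * p.out ∈ Suz.borel k F := by
      rw [mul_assoc, ← QuotientGroup.eq, QuotientGroup.out_eq']
      conv_lhs => rw [← e, ← QuotientGroup.out_eq' p]
      rfl
    have hc := Suz.FPF.conj hS hF p.out⁻¹
    rw [inv_inv] at hc
    exact hc none hm
  haveI : Fintype (Gp ⧸ Suz.borel k F) := Fintype.ofFinite _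
  have hΩ : Fintype.card (Gp ⧸ Suz.borel k F) = q ^ 2 + 1 := by
    rw [← Nat.card_eq_fintype_card, ← Subgroup.index_eq_card, Suz.index_borel hS]
  obtain ⟨p1, hp1⟩ : ∃ p1, ∀ n : ℕ, x ^ n • p0 ≠ p1 := by
    by_contra hno
    push Not at hno
    have hsurj : Function.Surjective fun i : Fin b => x ^ (i : ℕ) • p0 := fun p => by
      obtain ⟨n, hn⟩ := hno p
      exact ⟨⟨n % b, Nat.mod_lt _ hb.pos⟩, by
        show x ^ (n % b) • p0 = p
        rw [← hx, pow_mod_orderOf, hn]⟩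
    have hle := Fintype.card_le_of_surjective _ hsurj
    rw [hΩ, Fintype.card_fin, ← cl_prod] at hle
    have h2 := one_lt_cl hS.one_le 2
    have h3 := one_lt_cl hS.one_le 3
    have hmul : cl k 2 < cl k 2 * cl k 3 := lt_mul_of_one_lt_right (by omega) h3
    have hmul' : cl k 3 < cl k 2 * cl k 3 := lt_mul_of_one_lt_left (by omega) h2
    rw [← cl_prod] at hbd
    rcases (Nat.Prime.dvd_mul hb).1 hbd with e | e
    · exact absurd (hle.trans (Nat.le_of_dvd (by omega) e)) (not_le.2 hmul)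
    · exact absurd (hle.trans (Nat.le_of_dvd (by omega) e)) (not_le.2 hmul')
  have hp01 : p0 ≠ p1 := fun e => hp1 0 (by rw [pow_zero, one_smul, e])
  let T := {p : Gp ⧸ Suz.borel k F // p ≠ p0 ∧ p ≠ p1}
  have hle : S ≤ ⨆ p : T, Y p := by
    have hdrop : ∀ p, (p = p0 ∨ p = p1) → ∀ v ∈ Y p, v ∈ ⨆ p : T, Y p := by
      intro p hp v hv
      obtain ⟨c, hc⟩ : ∃ c, b = c + 1 := ⟨b - 1, by have := hb.one_lt; omega⟩
      have hN : ∏ j ∈ Finset.range b, (ρ x ^ j) v = 1 :=
        (Subgroup.eq_bot_iff_forall _).1 (hfpf x hx) _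
          (norm_fixed (by rw [← map_pow, ← hx, pow_orderOf_eq_one, map_one]) v)
      rw [hc, Finset.prod_range_succ', pow_zero, MulAut.one_apply] at hN
      rw [eq_inv_of_mul_eq_one_right hN]
      refine inv_mem (Subgroup.prod_mem _ fun j hj => ?_)
      have hn : ¬ b ∣ j + 1 := fun h => by
        have := Nat.le_of_dvd (by omega) h
        rw [Finset.mem_range] at hj
        omega
      have hT : x ^ (j + 1) • p ≠ p0 ∧ x ^ (j + 1) • p ≠ p1 := by
        rcases hp with rfl | rfl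
        · exact ⟨hxfix _ hn _, hp1 _⟩
        · refine ⟨fun e => ?_, hxfix _ hn _⟩
          refine hp1 (b - (j + 1)) ?_
          rw [← e, ← mul_smul, ← pow_add, Nat.sub_add_cancel (by rw [Finset.mem_range] at hj; omega), ← hx,
            pow_orderOf_eq_one, one_smul]
      have := hY (x ^ (j + 1)) p v hv
      rw [map_pow] at this
      exact le_iSup (fun p : T => Y p) ⟨_, hT⟩ this
    refine iSup_le fun p => ?_
    by_cases hp : p = p0 ∨ p = p1
    · exact fun v hv => hdrop p hp v hv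
    · push Not at hp
      exact le_iSup (fun p : T => Y p) ⟨p, hp⟩
  have hbound : Nat.card S ≤ Nat.card X ^ (q ^ 2 - 1) := by
    refine (Nat.le_of_dvd Nat.card_pos (card_dvd_of_le hle)).trans ((card_iSup_le _).trans_eq ?_)
    rw [Finset.prod_congr rfl fun (p : T) _ => show Nat.card ↥(Y p) = Nat.card X from
      card_map_of_injective (ρ (p : Gp ⧸ Suz.borel k F).out).injective, Finset.prod_const, Finset.card_univ]
    congr 1
    have h1 : Fintype.card T = (Finset.univ \ {p0, p1} : Finset (Gp ⧸ Suz.borel k F)).card :=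
      Fintype.card_of_subtype _ fun p => by simp
    rw [h1, Finset.card_univ_diff, hΩ, Finset.card_pair hp01]
    omega
  have hX1 : 1 < Nat.card X := Subgroup.one_lt_card_iff_ne_bot _ |>.2 hX
  have hq2 : 0 < q ^ 2 := pow_pos (Nat.two_pow_pos _) _
  rw [hcardS] at hbound
  exact absurd hbound (not_le.2 (Nat.pow_lt_pow_right hX1 (Nat.sub_lt hq2 one_pos)))

/-- In coprime characteristic vanishing of the norms of the elements of order four forces a trivial action. -/
theorem sz_norm_trivial {W : Type u} [CommGroup W] [Finite W] (ρ : Gp →* MulAut W) {b : ℕ}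
    (hb : b.Prime) (hbd : b ∣ (2 ^ (2 * k + 1)) ^ 2 + 1) (hbW : ¬ b ∣ Nat.card W)
    (hN : ∀ g : Gp, orderOf g = 4 → ∀ v : W, ∏ j ∈ Finset.range 4, (ρ g ^ j) v = 1) : ρ = 1 := by
  obtain ⟨x, g, j, hx, hg, hconj, hdist⟩ := exists_frob hS hb hbd
  haveI := Suz.isSimple hS
  have hx1 : x ≠ 1 := fun e => hb.ne_one (by rw [← hx, e, orderOf_one])
  suffices h : ρ.ker ≠ ⊥ by
    have hk := (Subgroup.Normal.eq_bot_or_eq_top (inferInstance : ρ.ker.Normal)).resolve_left h
    exact MonoidHom.ext fun y => show y ∈ ρ.ker by rw [hk]; trivial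
  intro hker
  have hinj : Function.Injective ρ := (MonoidHom.ker_eq_bot_iff ρ).1 hker
  have hF : FrobAut b 4 j (ρ x) (ρ g) :=
    { prime := hb, pos := by norm_num
      hx := by rw [← map_pow, ← hx, pow_orderOf_eq_one, map_one]
      hg := by rw [← map_pow, orderOf_dvd_iff_pow_eq_one.1 (dvd_of_eq hg), map_one]
      conj := by rw [← map_inv, ← map_mul, ← map_mul, hconj, map_pow]
      dist := fun i hi l hl hil e => hdist i hi l hl hil (hinj (by rw [map_pow, map_pow, e])) }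
  refine hx1 (hinj ?_)
  rw [map_one]
  refine MulEquiv.ext fun v => hF.norm_zero (S := ⊤) (by rwa [Subgroup.card_top]) (mem_pres_top _) (mem_pres_top _)
    trivial fun i _ => hN g hg _

end Sz

variable {L : Type v} [Group L] {m : ℕ}

/-- A prime of the `B` or `C` class in a Suzuki group over a subfield. -/
theorem SzLike.exists_fixed (h : SzLike L m) {i : Fin 4} (hi : i = 2 ∨ i = 3) {W : Type u} [CommGroup W] [Finite W]
    [Nontrivial W] (ρ : L →* MulAut W) (hodd : Odd (Nat.card W)) (hW : (cl m i).Coprime (Nat.card W)) :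
    ∃ (t : ℕ) (x : L) (v : W), t.Prime ∧ t ∣ cl m i ∧ orderOf x = t ∧ v ≠ 1 ∧ ρ x v = v := by
  obtain ⟨F, i1, i2, k, hS, hd, ⟨e⟩⟩ := h
  obtain ⟨σ, hσb, hσ0, hσ1, hσ⟩ := exists_cl_map hd
  obtain ⟨j, rfl⟩ := hσb.surjective i
  have hj : j = 2 ∨ j = 3 := by
    have : j ≠ 0 ∧ j ≠ 1 := by
      refine ⟨fun e' => ?_, fun e' => ?_⟩
      · rw [e', hσ0] at hi; revert hi; decide
      · rw [e', hσ1] at hi; revert hi; decide
    exact (show ∀ j : Fin 4, j ≠ 0 ∧ j ≠ 1 → j = 2 ∨ j = 3 by decide) j this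
  obtain ⟨t, ht, htd⟩ := Nat.exists_prime_and_dvd (one_lt_cl hS.one_le j).ne'
  have hbd : t ∣ (2 ^ (2 * k + 1)) ^ 2 + 1 := by
    rw [← cl_prod]
    rcases hj with rfl | rfl
    · exact htd.mul_right _
    · exact htd.mul_left _
  have htW : ¬ t ∣ Nat.card W := fun hh => ht.ne_one (Nat.eq_one_of_dvd_coprimes hW (htd.trans (hσ j)) hh)
  obtain ⟨x, v, hx, hv, hfix⟩ := sz_exists_fixed hS (ρ.comp e.symm.toMonoidHom) ht hbd hodd htW
  exact ⟨t, e.symm x, v, ht, htd.trans (hσ j), by rw [MulEquiv.orderOf_eq, hx], hv, hfix⟩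

/-- The version for a group of even order. -/
theorem SzLike.norm_trivial (h : SzLike L m) {W : Type u} [CommGroup W] [Finite W]
    (ρ : L →* MulAut W) (h2 : IsPGroup 2 W)
    (hN : ∀ g : L, orderOf g = 4 → ∀ v : W, ∏ j ∈ Finset.range 4, (ρ g ^ j) v = 1) : ρ = 1 := by
  obtain ⟨F, i1, i2, k, hS, hd, ⟨e⟩⟩ := h
  obtain ⟨t, ht, htd⟩ := Nat.exists_prime_and_dvd (one_lt_cl hS.one_le 2).ne'
  have ht2 : t ≠ 2 := fun e' => (cl_odd hS.one_le (by decide : (2 : Fin 4) ≠ 0)).not_two_dvd_nat (e' ▸ htd)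
  have htW : ¬ t ∣ Nat.card W := fun hh => by
    obtain ⟨n, hn⟩ := h2.exists_card_eq
    exact ht2 ((Nat.prime_dvd_prime_iff_eq ht Nat.prime_two).1 (ht.dvd_of_dvd_pow (hn ▸ hh)))
  have h1 := sz_norm_trivial hS (ρ.comp e.symm.toMonoidHom) ht
    (by rw [← cl_prod]; exact htd.mul_right _) htW fun g hg => hN (e.symm g) (by rw [MulEquiv.orderOf_eq, hg])
  exact MonoidHom.ext fun y => by simpa using DFunLike.congr_fun h1 (e y)

/-- An involution has fixed points in a nontrivial module of odd order. -/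
theorem SzLike.inv_fixed (h : SzLike L m) {W : Type u} [CommGroup W] [Finite W] [Nontrivial W]
    (ρ : L →* MulAut W) (hodd : Odd (Nat.card W)) {s : L} (hs : orderOf s = 2) : ∃ v : W, v ≠ 1 ∧ ρ s v = v := by
  haveI := h.simple
  by_contra hcon
  push Not at hcon
  have hf : fixd (ρ s) = ⊥ := (Subgroup.eq_bot_iff_forall _).2 fun v hv => by
    by_contra hv1; exact hcon v hv1 hv
  have hss : s * s = 1 := by rw [← pow_two, ← hs, pow_orderOf_eq_one]
  have hs1 : s ≠ 1 := fun e => by rw [e, orderOf_one] at hs; omega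
  have hcomm := fpf_inv_comm ρ hodd hss hf
  have hρs : ρ s ≠ 1 := fun e => by
    rw [e] at hf
    exact top_ne_bot ((top_le_iff.1 fun v _ => (rfl : (1 : MulAut W) v = v)).symm.trans hf)
  rcases Subgroup.Normal.eq_bot_or_eq_top (inferInstance : ρ.ker.Normal) with hk | hk
  · have hcen : s ∈ center L := mem_center_iff.2 fun y => by
      have h1 : ⁅s, y⁆ = 1 := (Subgroup.eq_bot_iff_forall _).1 hk _ (hcomm y)
      exact (commutatorElement_eq_one_iff_mul_comm.1 h1).symm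
    rcases Subgroup.Normal.eq_bot_or_eq_top (inferInstance : (center L).Normal) with hc | hc
    · exact hs1 ((Subgroup.eq_bot_iff_forall _).1 hc s hcen)
    · exact h.not_comm ⟨⟨fun a b => (mem_center_iff.1 (hc ▸ mem_top b) a)⟩⟩
  · exact hρs (show s ∈ ρ.ker by rw [hk]; trivial)

end Cfsg.Agent.Recog.SzSquare
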