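import Cfsg.Agent.Lib.Recog.SzSquare.Factors
import Cfsg.Agent.Lib.Recog.SzSquare.SzModule
import Cfsg.Agent.Lib.Grp.Solvable

/-!
# Two non-abelian factors leave no solvable radical
-/

set_option autoImplicit false
set_option linter.style.haveILetI false

open Subgroup
open scoped commutatorElement

namespace Cfsg.Agent.Recog.SzSquare

universe u v

variable {G : Type u} [Group G] {Q : Type v} [Group Q]

theorem mul_pow_norm {K : Subgroup G} [K.Normal] (g : G) (v : ↥K) : ∀ n : ℕ,
    ((v : G) * g) ^ n = ((List.range n).map fun j => ((MulAut.conjNormal (g ^ j) v : ↥K) : G)).prod * g ^ n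
  | 0 => by simp
  | n + 1 => by
    rw [pow_succ, mul_pow_norm g v n, List.range_succ, List.map_append, List.prod_append, List.map_singleton,
      List.prod_singleton, MulAut.conjNormal_apply, pow_succ g n]
    group

/-- Two Suzuki groups above an abelian normal subgroup of prime power order. -/
theorem module_false [Finite G] {m : ℕ} (hB : Bound G m) (π : G →* Q) (hπ : Function.Surjective π) {r : ℕ}
    (hr : r.Prime) (hK : IsPGroup r ↥π.ker) (hK1 : π.ker ≠ ⊥) (hKc : IsMulCommutative ↥π.ker)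
    {L1 L2 : Subgroup Q} (h1 : SzLike ↥L1 m) (h2 : SzLike ↥L2 m) (hc : Commuting L1 L2) : False := by
  classical
  haveI := Fact.mk hr
  haveI : Finite Q := Finite.of_surjective π hπ
  set K := π.ker
  letI : CommGroup ↥K := { (inferInstance : Group ↥K) with mul_comm := hKc.is_comm.comm }
  haveI : Nontrivial ↥K := (Subgroup.nontrivial_iff_ne_bot K).2 hK1
  obtain ⟨n, hn⟩ := IsPGroup.iff_card.1 hK
  have hrK : r ∣ Nat.card ↥K := by
    refine hn ▸ dvd_pow_self r fun e => ?_
    rw [e, pow_zero] at hn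
    exact hK1 (Subgroup.card_eq_one.1 hn)
  obtain ⟨c, hrc⟩ := hB.cls_card hr (hrK.trans (card_subgroup_dvd_card K))
  have hker : π.ker ≤ (MulAut.conjNormal (H := K) : G →* MulAut ↥K).ker := fun a ha => MulEquiv.ext fun v => by
    refine Subtype.ext ?_
    rw [MulAut.conjNormal_apply, MulAut.one_apply, mul_inv_eq_iff_eq_mul]
    exact (congrArg Subtype.val (hKc.is_comm.comm v ⟨a, ha⟩)).symm
  let ρ : Q →* MulAut ↥K := π.liftOfSurjective hπ ⟨MulAut.conjNormal, hker⟩
  have hρ : ∀ g, ρ (π g) = MulAut.conjNormal g := fun g =>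
    MonoidHom.liftOfRightInverse_comp_apply _ _ (Function.rightInverse_surjInv hπ) _ g
  -- two commuting elements of two further classes cannot fix a point
  have tri : ∀ {x y : Q} {s t : ℕ} {i j : Fin 4}, s.Prime → t.Prime → s ∣ cl m i → t ∣ cl m j → i ≠ j → c ≠ i →
      c ≠ j → orderOf x = s → orderOf y = t → x * y = y * x → ∀ v : ↥K, v ≠ 1 → ρ x v = v → ρ y v = v → False := by
    intro x y s t i j hs ht hsi htj hij hci hcj hx hy hxy v hv hxv hyv
    obtain ⟨g, hg⟩ := hπ (x * y)
    have hgv : (g : G) * (v : G) = (v : G) * g := by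
      have e : MulAut.conjNormal g v = v := by
        rw [← hρ, hg, map_mul, MulAut.mul_apply, hyv, hxv]
      exact mul_inv_eq_iff_eq_mul.1 ((MulAut.conjNormal_apply g v).symm.trans (congrArg Subtype.val e))
    have hst : s ≠ t := fun e => hij (cl_eq_of_dvd hB.one_le hs hsi (e ▸ htj))
    have hd : s * t ∣ orderOf g := (hg ▸ mul_dvd_orderOf hs ht hst hx hy hxy).trans (orderOf_map_dvd π g)
    obtain ⟨a, ha⟩ := exists_pow_orderOf (orderOf_pos g) (dvd_trans (dvd_mul_right s t) hd)
    obtain ⟨b, hb⟩ := exists_pow_orderOf (orderOf_pos g) (dvd_trans (dvd_mul_left t s) hd)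
    have hvr : r ∣ orderOf (v : G) := by
      obtain ⟨e, he⟩ := IsPGroup.iff_orderOf.1 hK v
      rw [Subgroup.orderOf_coe, he]
      refine dvd_pow_self r fun e0 => hv ?_
      rw [e0, pow_zero] at he
      exact orderOf_eq_one_iff.1 he
    obtain ⟨l, hl⟩ := exists_pow_orderOf (orderOf_pos (v : G)) hvr
    have hvg : Commute (v : G) g := hgv.symm
    exact (hB.t3 hr hs ht hci hcj hij hrc hsi htj).false hr hs ht
      (fun e => hci (cl_eq_of_dvd hB.one_le hr hrc (e ▸ hsi))) (fun e => hcj (cl_eq_of_dvd hB.one_le hr hrc (e ▸ htj)))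
      hst hl ha hb (hvg.pow_pow l a).eq (hvg.pow_pow l b).eq ((Commute.refl g).pow_pow a b).eq
  by_cases hr2 : r = 2
  · subst hr2
    have hc0 : c = 0 := cl_eq_of_dvd hB.one_le hr hrc (show 2 ∣ cl m 0 from ⟨2, rfl⟩)
    have hnorm : ∀ {L : Subgroup Q}, SzLike ↥L m → ∀ y : ↥L, ρ y = 1 := by
      intro L hL
      have h := hL.norm_trivial (ρ.comp L.subtype) hK fun x hx v => ?_
      · exact fun y => DFunLike.congr_fun h y
      obtain ⟨g, hg⟩ := hπ (x : Q)
      have hgo : 4 ∣ orderOf g := by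
        rw [← hx, ← Subgroup.orderOf_coe, ← hg]
        exact orderOf_map_dvd π g
      have key : ∀ w : ↥K, ((w : G) * g) ^ 4 = 1 := by
        intro w
        have hπw : π ((w : G) * g) = (x : Q) := by rw [map_mul, hg, MonoidHom.mem_ker.1 w.2, one_mul]
        have h4 : 4 ∣ orderOf ((w : G) * g) := by
          rw [← hx, ← Subgroup.orderOf_coe, ← hπw]; exact orderOf_map_dvd π _
        have hmem : ((w : G) * g) ^ 4 ∈ K := by
          rw [MonoidHom.mem_ker, map_pow, hπw, ← hx, ← Subgroup.orderOf_coe, pow_orderOf_eq_one]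
        obtain ⟨e, he⟩ := IsPGroup.iff_orderOf.1 hK ⟨_, hmem⟩
        rw [Subgroup.orderOf_mk, orderOf_pow' _ (by norm_num), Nat.gcd_eq_right h4] at he
        rcases e with _ | e
        · exact orderOf_dvd_iff_pow_eq_one.1 (dvd_of_eq (by
            rw [pow_zero] at he; rw [← Nat.div_mul_cancel h4, he, one_mul]))
        · refine absurd ?_ (hB.not_eight ((w : G) * g))
          rw [← Nat.div_mul_cancel h4, he, pow_succ', mul_right_comm]
          exact dvd_mul_right 8 _
      have e1 : g ^ 4 = 1 := by simpa using key 1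
      have e2 := mul_pow_norm g v 4
      rw [key v, e1, mul_one] at e2
      have hpr : ∀ j : ℕ, MulAut.conjNormal (g ^ j) v = ((ρ.comp L.subtype) x ^ j) v := fun j => by
        rw [MonoidHom.comp_apply, coe_subtype, ← hg, hρ, ← map_pow]
      rw [Finset.prod_range_succ, Finset.prod_range_succ, Finset.prod_range_succ, Finset.prod_range_one]
      refine Subtype.ext ?_
      simp only [List.range_succ, List.range_zero, List.map_append, List.map_nil, List.map_singleton,
        List.prod_append, List.prod_nil, List.prod_singleton, one_mul, hpr] at e2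
      simpa using e2.symm
    obtain ⟨s, x, hs, hsd, hx⟩ := h1.meets 1
    obtain ⟨t, y, ht, htd, hy⟩ := h2.meets 2
    obtain ⟨v, hv⟩ := exists_ne (1 : ↥K)
    exact tri hs ht hsd htd (by decide) (hc0 ▸ (by decide : (0 : Fin 4) ≠ 1)) (hc0 ▸ (by decide : (0 : Fin 4) ≠ 2))
      ((Subgroup.orderOf_coe x).trans hx) ((Subgroup.orderOf_coe y).trans hy) (hc _ x.2 _ y.2) v hv
      (by rw [hnorm h1 x]; rfl) (by rw [hnorm h2 y]; rfl)
  · have hc0 : c ≠ 0 := fun e => hr2 ((Nat.prime_dvd_prime_iff_eq hr Nat.prime_two).1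
      (hr.dvd_of_dvd_pow (show r ∣ 2 ^ 2 from (e ▸ hrc : r ∣ cl m 0))))
    obtain ⟨i, hi, hci⟩ : ∃ i : Fin 4, (i = 2 ∨ i = 3) ∧ c ≠ i :=
      (show ∀ c : Fin 4, ∃ i : Fin 4, (i = 2 ∨ i = 3) ∧ c ≠ i by decide) c
    have hi0 : i ≠ 0 := by rcases hi with rfl | rfl <;> decide
    have hodd : Odd (Nat.card ↥K) := by
      rw [hn]; exact (hr.odd_of_ne_two hr2).pow
    have hcop : (cl m i).Coprime (Nat.card ↥K) := by
      rw [hn]
      exact (hr.coprime_iff_not_dvd.2 fun e => hci (cl_eq_of_dvd hB.one_le hr hrc e)).symm.pow_right n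
    obtain ⟨t, x, v, ht, htd, hx, hv, hxv⟩ := h1.exists_fixed hi (ρ.comp L1.subtype) hodd hcop
    set S := fixd (ρ x)
    have hSinv : ∀ y : ↥L2, ρ y ∈ pres S := fun y w => by
      show ρ x (ρ y w) = ρ y w ↔ ρ x w = w
      rw [← MulAut.mul_apply, ← map_mul, hc _ x.2 _ y.2, map_mul, MulAut.mul_apply]
      exact (ρ y).injective.eq_iff
    let ρ2 : ↥L2 →* MulAut ↥S := MonoidHom.mk'
      (fun y =>
        { toFun := fun w => ⟨ρ y w, (hSinv y _).2 w.2⟩
          invFun := fun w => ⟨(ρ y).symm w, (hSinv y _).1 (by rw [MulEquiv.apply_symm_apply]; exact w.2)⟩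
          left_inv := fun w => Subtype.ext (MulEquiv.symm_apply_apply _ _)
          right_inv := fun w => Subtype.ext (MulEquiv.apply_symm_apply _ _)
          map_mul' := fun w w' => Subtype.ext (map_mul _ _ _) })
      fun y y' => MulEquiv.ext fun w => Subtype.ext (by
        show ρ ((y * y' : ↥L2) : Q) w = ρ y (ρ y' w)
        rw [Subgroup.coe_mul, map_mul, MulAut.mul_apply])
    haveI : Nontrivial ↥S := (Subgroup.nontrivial_iff_ne_bot S).2 fun e =>
      hv ((Subgroup.eq_bot_iff_forall _).1 e v hxv)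
    obtain ⟨s, y, hs, hsd, hy⟩ := h2.meets 0
    have hs2 : s = 2 := (Nat.prime_dvd_prime_iff_eq hs Nat.prime_two).1 (hs.dvd_of_dvd_pow (show s ∣ 2 ^ 2 from hsd))
    obtain ⟨w, hw, hyw⟩ := h2.inv_fixed ρ2 (hodd.of_dvd_nat (card_subgroup_dvd_card S)) (hy.trans hs2)
    exact tri ht hs htd hsd hi0 hci hc0 ((Subgroup.orderOf_coe x).trans hx) ((Subgroup.orderOf_coe y).trans hy)
      (hc _ x.2 _ y.2) (w : ↥K) (fun e => hw (Subtype.ext e)) w.2 (congrArg Subtype.val hyw)

/-- The solvable radical is trivial when there are two factors. -/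
theorem TwoFactors.ker_eq_bot {G : Type u} [Group G] [Finite G] {m : ℕ} (hB : Bound G m) {K : Subgroup G} [K.Normal]
    (hs : Group.IsSolvable ↥K) {L1 L2 : Subgroup (G ⧸ K)} (h : TwoFactors (G ⧸ K) m L1 L2) : K = ⊥ := by
  by_contra hK
  obtain ⟨K0, -, hK0⟩ := (Set.toFinite {N : Subgroup G | N.Normal ∧ N < K}).exists_le_maximal
    (a := ⊥) ⟨inferInstance, bot_lt_iff_ne_bot.2 hK⟩
  haveI := hK0.1.1
  set K1 := K.map (QuotientGroup.mk' K0)
  haveI : K1.Normal := Normal.map inferInstance _ (QuotientGroup.mk'_surjective K0)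
  have hK1 : K1 ≠ ⊥ := fun e => by
    rw [Subgroup.map_eq_bot_iff, QuotientGroup.ker_mk'] at e
    exact hK0.1.2.not_ge e
  haveI := hs
  have hs1 : Group.IsSolvable ↥K1 := Group.isSolvable_of_surjective
    (MonoidHom.subgroupMap_surjective (QuotientGroup.mk' K0) K)
  obtain ⟨hab, p, hp, hpow⟩ := Grp.minimal_normal_solvable hs1 hK1 fun M hM hMK => by
    set M' := M.comap (QuotientGroup.mk' K0)
    haveI : M'.Normal := hM.comap _
    have hle : M' ≤ K := by
      refine (comap_mono hMK).trans ?_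
      rw [comap_map_eq, QuotientGroup.ker_mk', sup_eq_left.2 hK0.1.2.le]
    rcases hle.eq_or_lt with e | e
    · right
      show M = K.map _
      rw [← e, map_comap_eq_self_of_surjective (QuotientGroup.mk'_surjective K0)]
    · left
      have hle' : K0 ≤ M' := fun x hx => by
        show (QuotientGroup.mk' K0) x ∈ M
        rw [show (QuotientGroup.mk' K0) x = 1 from (QuotientGroup.eq_one_iff x).2 hx]
        exact one_mem M
      have heq : M' ≤ K0 := hK0.2 ⟨inferInstance, e⟩ hle'
      rw [← map_comap_eq_self_of_surjective (QuotientGroup.mk'_surjective K0) M, Subgroup.map_eq_bot_iff,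
        QuotientGroup.ker_mk']
      exact heq
  let π : G ⧸ K0 →* G ⧸ K := QuotientGroup.map K0 K (MonoidHom.id G) hK0.1.2.le
  have hπ : Function.Surjective π := fun x => by
    obtain ⟨g, rfl⟩ := QuotientGroup.mk_surjective x
    exact ⟨g, rfl⟩
  have hker : π.ker = K1 := by
    ext x
    obtain ⟨g, rfl⟩ := QuotientGroup.mk_surjective x
    rw [MonoidHom.mem_ker]
    show ((g : G) : G ⧸ K) = 1 ↔ _
    rw [QuotientGroup.eq_one_iff]
    refine ⟨fun hg => ⟨g, hg, rfl⟩, ?_⟩
    rintro ⟨k, hk, e⟩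
    have := hK0.1.2.le (QuotientGroup.eq.1 e)
    simpa using mul_mem hk this
  have hp' : IsPGroup p ↥π.ker := fun x => ⟨1, Subtype.ext (by
    rw [pow_one, SubgroupClass.coe_pow]; exact hpow x (hker ▸ x.2))⟩
  exact module_false (hB.quotient K0) π hπ hp hp' (hker ▸ hK1)
    (hker.symm ▸ hab) h.sz1 h.sz2 h.comm

end Cfsg.Agent.Recog.SzSquare
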