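import Cfsg.Agent.Lib.Lie.Sz.Partition

/-!
# The four classes of element orders of `Sz(2 ^ (2 * m + 1))`
-/

set_option autoImplicit false

namespace Cfsg.Agent.Recog.SzSquare

/-- `4` and the three torus orders of the Suzuki group. -/
def cl (m : ℕ) : Fin 4 → ℕ :=
  ![4, 2 ^ (2 * m + 1) - 1, 2 ^ (2 * m + 1) - 2 ^ (m + 1) + 1, 2 ^ (2 * m + 1) + 2 ^ (m + 1) + 1]

variable {m : ℕ}

theorem cl_zero : cl m 0 = 4 := rfl
theorem cl_one : cl m 1 = 2 ^ (2 * m + 1) - 1 := rfl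
theorem cl_two : cl m 2 = 2 ^ (2 * m + 1) - 2 ^ (m + 1) + 1 := rfl
theorem cl_three : cl m 3 = 2 ^ (2 * m + 1) + 2 ^ (m + 1) + 1 := rfl

theorem two_pow_le (m : ℕ) : 2 ^ (m + 1) ≤ 2 ^ (2 * m + 1) := Nat.pow_le_pow_right (by omega) (by omega)

theorem cl_prod (m : ℕ) : cl m 2 * cl m 3 = (2 ^ (2 * m + 1)) ^ 2 + 1 := by
  rw [cl_two, cl_three]
  have h := two_pow_le m
  have hr2 : (2 ^ (m + 1)) ^ 2 = 2 * 2 ^ (2 * m + 1) := by rw [← pow_mul, ← pow_succ']; ring_nf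
  zify [h] at hr2 ⊢
  linear_combination (-1 : ℤ) * hr2

theorem cl_odd {i : Fin 4} (hm : 1 ≤ m) (hi : i ≠ 0) : Odd (cl m i) := by
  have h2 : ∀ n, Even (2 ^ (n + 1)) := fun n => Nat.even_pow.2 ⟨even_two, by omega⟩
  have h1 : Even (2 ^ (2 * m + 1)) := h2 _
  fin_cases i
  · exact absurd rfl hi
  · exact Nat.Even.sub_odd Nat.one_le_two_pow h1 odd_one
  · exact ((Nat.even_sub (two_pow_le m)).2 ⟨fun _ => h2 m, fun _ => h1⟩).add_one
  · exact (h1.add (h2 m)).add_one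

theorem five_le_cl_two (hm : 1 ≤ m) : 5 ≤ cl m 2 := by
  rw [cl_two]
  have h : 2 * 2 ^ (m + 1) ≤ 2 ^ (2 * m + 1) := by
    rw [← pow_succ']; exact Nat.pow_le_pow_right (by omega) (by omega)
  have : 4 ≤ 2 ^ (m + 1) := le_of_eq_of_le (show 4 = 2 ^ 2 from rfl) (Nat.pow_le_pow_right (by omega) (by omega))
  omega

theorem one_lt_cl (hm : 1 ≤ m) (i : Fin 4) : 1 < cl m i := by
  have h8 : 2 ^ 3 ≤ 2 ^ (2 * m + 1) := Nat.pow_le_pow_right (by omega) (by omega)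
  have h5 := five_le_cl_two hm
  fin_cases i
  · show 1 < 4; omega
  · show 1 < 2 ^ (2 * m + 1) - 1; omega
  · show 1 < cl m 2; omega
  · show 1 < 2 ^ (2 * m + 1) + 2 ^ (m + 1) + 1; have := Nat.one_le_two_pow (n := m + 1); omega

theorem cl_coprime (hm : 1 ≤ m) {i j : Fin 4} (hij : i ≠ j) : (cl m i).Coprime (cl m j) := by
  have h4 : ∀ {l : Fin 4}, l ≠ 0 → (cl m 0).Coprime (cl m l) := fun hl => by
    rw [cl_zero, show (4 : ℕ) = 2 ^ 2 from rfl]
    exact Nat.Coprime.pow_left 2 (Nat.coprime_two_left.2 (cl_odd hm hl))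
  have hA : ∀ {l : Fin 4}, (l = 2 ∨ l = 3) → (cl m 1).Coprime (cl m l) := fun hl => by
    refine (Suz.dvd_coprime (m := m) (n := cl m _) ?_).2.symm
    rw [← cl_prod m]
    rcases hl with rfl | rfl
    · exact dvd_mul_right _ _
    · exact dvd_mul_left _ _
  have hBC : (cl m 2).Coprime (cl m 3) := by
    refine Nat.coprime_of_dvd fun p hp h1 h2 => ?_
    have h3 : p ∣ 2 ^ (m + 2) := by
      have h := Nat.dvd_sub h2 h1
      have h' := two_pow_le m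
      rw [cl_two, cl_three] at h
      rw [show 2 ^ (m + 2) = 2 ^ (m + 1) * 2 from pow_succ 2 (m + 1)]
      generalize 2 ^ (m + 1) = r at *
      generalize 2 ^ (2 * m + 1) = q at *
      rwa [show q + r + 1 - (q - r + 1) = r * 2 by omega] at h
    rw [(Nat.prime_dvd_prime_iff_eq hp Nat.prime_two).1 (hp.dvd_of_dvd_pow h3)] at h1
    exact (Nat.not_even_iff_odd.2 (cl_odd hm (by decide : (2 : Fin 4) ≠ 0))) (even_iff_two_dvd.2 h1)
  fin_cases i <;> fin_cases j <;>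
    first
    | exact absurd rfl hij
    | exact h4 (by decide)
    | exact (h4 (by decide)).symm
    | exact hA (Or.inl rfl)
    | exact hA (Or.inr rfl)
    | exact (hA (Or.inl rfl)).symm
    | exact (hA (Or.inr rfl)).symm
    | exact hBC
    | exact hBC.symm

theorem cl_eq_of_dvd (hm : 1 ≤ m) {t : ℕ} (ht : t.Prime) {i j : Fin 4} (hi : t ∣ cl m i) (hj : t ∣ cl m j) :
    i = j := by
  by_contra h
  exact ht.ne_one (Nat.eq_one_of_dvd_coprimes (cl_coprime hm h) hi hj)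

theorem cl_dvd_four_mul (m : ℕ) (i j : Fin 4) (hij : i ≠ j) : cl m i * cl m j ∣ 4 * (2 ^ (4 * (2 * m + 1)) - 1) := by
  have hfac : 2 ^ (4 * (2 * m + 1)) - 1 = cl m 1 * (2 ^ (2 * m + 1) + 1) * (cl m 2 * cl m 3) := by
    rw [cl_prod, cl_one, mul_comm 4, pow_mul]
    have : 1 ≤ 2 ^ (2 * m + 1) := Nat.one_le_two_pow
    have : 1 ≤ (2 ^ (2 * m + 1)) ^ 4 := Nat.one_le_pow _ _ this
    zify [*]
    ring
  rw [hfac]
  show _ ∣ cl m 0 * _
  have e : ∀ a b : Fin 4, a ≠ b → cl m a * cl m b ∣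
      cl m 0 * (cl m 1 * (2 ^ (2 * m + 1) + 1) * (cl m 2 * cl m 3)) := by
    intro a b hab
    have h : cl m a * cl m b ∣ ∏ i : Fin 4, cl m i := by
      rw [← Finset.prod_pair hab]
      exact Finset.prod_dvd_prod_of_subset _ _ _ (Finset.subset_univ _)
    refine h.trans ⟨2 ^ (2 * m + 1) + 1, ?_⟩
    rw [Fin.prod_univ_four]; ring
  exact e i j hij

/-- The fields of the simple sections are subfields. -/
theorem deg_dvd {d : ℕ} (hd : Odd d) {i j : Fin 4} (hij : i ≠ j) (h : 2 ^ d - 1 ∣ cl m i * cl m j) :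
    d ∣ 2 * m + 1 := by
  have hodd : Odd (2 ^ d - 1) := Nat.Even.sub_odd Nat.one_le_two_pow
    (Nat.even_pow.2 ⟨even_two, fun e => by simp [e] at hd⟩) odd_one
  have h4 : (2 ^ d - 1).Coprime 4 := by
    rw [show (4 : ℕ) = 2 ^ 2 from rfl]
    exact Nat.Coprime.pow_right 2 (Nat.coprime_two_right.2 hodd)
  have h2 := h4.dvd_of_dvd_mul_left (h.trans (cl_dvd_four_mul m i j hij))
  have h3 : 2 ^ Nat.gcd d (4 * (2 * m + 1)) - 1 = 2 ^ d - 1 :=
    (Nat.pow_sub_one_gcd_pow_sub_one 2 d (4 * (2 * m + 1))).symm.trans (Nat.gcd_eq_left h2)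
  have h5 : Nat.gcd d (4 * (2 * m + 1)) = d := Nat.pow_right_injective le_rfl (show 2 ^ _ = 2 ^ _ by
    have := Nat.one_le_two_pow (n := d)
    have := Nat.one_le_two_pow (n := Nat.gcd d (4 * (2 * m + 1)))
    omega)
  have h6 : d.Coprime 4 := by
    rw [show (4 : ℕ) = 2 ^ 2 from rfl]
    exact Nat.Coprime.pow_right 2 (Nat.coprime_two_right.2 hd)
  exact h6.dvd_of_dvd_mul_left (h5 ▸ Nat.gcd_dvd_right d (4 * (2 * m + 1)))

theorem cl_one_dvd {k : ℕ} (hd : 2 * k + 1 ∣ 2 * m + 1) : cl k 1 ∣ cl m 1 :=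
  Nat.pow_sub_one_dvd_pow_sub_one _ hd

/-- The two small torus orders divide the two large ones, in one of the two ways. -/
theorem cl_bc_dvd {k : ℕ} (hd : 2 * k + 1 ∣ 2 * m + 1) :
    (cl k 2 ∣ cl m 2 ∧ cl k 3 ∣ cl m 3) ∨ (cl k 2 ∣ cl m 3 ∧ cl k 3 ∣ cl m 2) := by
  obtain ⟨e, he⟩ := hd
  obtain ⟨j, rfl⟩ : Odd e := (Nat.odd_mul.1 (he ▸ (⟨m, rfl⟩ : Odd (2 * m + 1)))).2
  have hm1 : m + 1 = (2 * k + 1) * j + (k + 1) := by linarith
  set t : ℤ := 2 ^ (2 * k + 1) with ht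
  set r : ℤ := 2 ^ (k + 1) with hrdef
  have hr : r ^ 2 = 2 * t := by rw [ht, hrdef, ← pow_mul, ← pow_succ']; ring_nf
  have hB : ((cl k 2 : ℕ) : ℤ) = t - r + 1 := by
    rw [cl_two, ht, hrdef, Nat.cast_add, Nat.cast_sub (two_pow_le k)]; push_cast; rfl
  have hC : ((cl k 3 : ℕ) : ℤ) = t + r + 1 := by rw [cl_three, ht, hrdef]; push_cast; rfl
  have hq : (2 : ℤ) ^ (2 * m + 1) = t ^ (2 * j + 1) := by rw [ht, ← pow_mul, he]
  have hR : (2 : ℤ) ^ (m + 1) = t ^ j * r := by rw [ht, hrdef, ← pow_mul, ← pow_add, hm1]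
  have hB' : ((cl m 2 : ℕ) : ℤ) = t ^ (2 * j + 1) - t ^ j * r + 1 := by
    rw [← hq, ← hR, cl_two, Nat.cast_add, Nat.cast_sub (two_pow_le m)]; push_cast; rfl
  have hC' : ((cl m 3 : ℕ) : ℤ) = t ^ (2 * j + 1) + t ^ j * r + 1 := by
    rw [← hq, ← hR, cl_three]; push_cast; rfl
  -- `t ^ 4 ≡ 1` modulo both small orders
  have key : ∀ D : ℤ, D ∣ t ^ 2 + 1 → ∀ (c : ℕ) (δ : ℤ), c < 4 →
      (D ∣ (-1) ^ c * t + δ * t ^ c * r + 1) → j % 4 = c → D ∣ t ^ (2 * j + 1) + δ * t ^ j * r + 1 := by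
    intro D hD c δ hc hDc hj
    have h1 : ∀ n : ℕ, D ∣ t ^ (4 * n) - 1 := fun n => by
      refine dvd_trans (hD.trans ⟨t ^ 2 - 1, by ring⟩ : D ∣ t ^ 4 - 1) ?_
      rw [pow_mul]
      exact sub_one_dvd_pow_sub_one _ n
    have h2 : D ∣ t ^ (2 * c) - (-1) ^ c := by
      rw [pow_mul]
      exact (hD.trans (dvd_of_eq (by ring : t ^ 2 + 1 = t ^ 2 - (-1)))).trans (sub_dvd_pow_sub_pow _ _ c)
    obtain ⟨n, hn⟩ : ∃ n, j = 4 * n + c := ⟨j / 4, by omega⟩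
    have h3 : t ^ (2 * j + 1) + δ * t ^ j * r + 1 = t ^ (2 * c) * t * (t ^ (4 * (2 * n)) - 1) +
        t * (t ^ (2 * c) - (-1) ^ c) + δ * t ^ c * r * (t ^ (4 * n) - 1) + ((-1) ^ c * t + δ * t ^ c * r + 1) := by
      rw [hn]; ring
    rw [h3]
    exact dvd_add (dvd_add (dvd_add (dvd_mul_of_dvd_right (h1 _) _) (dvd_mul_of_dvd_right h2 _))
      (dvd_mul_of_dvd_right (h1 _) _)) hDc
  have hDB : (t - r + 1) ∣ t ^ 2 + 1 := ⟨t + r + 1, by linear_combination hr⟩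
  have hDC : (t + r + 1) ∣ t ^ 2 + 1 := ⟨t - r + 1, by linear_combination hr⟩
  have hj4 : j % 4 = 0 ∨ j % 4 = 1 ∨ j % 4 = 2 ∨ j % 4 = 3 := by omega
  simp only [← Int.natCast_dvd_natCast, hB, hC, hB', hC']
  rcases hj4 with hc | hc | hc | hc
  · left
    constructor
    · have := key _ hDB 0 (-1) (by omega) ⟨1, by ring⟩ hc
      exact dvd_trans this (dvd_of_eq (by ring))
    · have := key _ hDC 0 1 (by omega) ⟨1, by ring⟩ hc
      exact dvd_trans this (dvd_of_eq (by ring))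
  · right
    constructor
    · have := key _ hDB 1 1 (by omega) ⟨r + 1, by linear_combination hr⟩ hc
      exact dvd_trans this (dvd_of_eq (by ring))
    · have := key _ hDC 1 (-1) (by omega) ⟨1 - r, by linear_combination hr⟩ hc
      exact dvd_trans this (dvd_of_eq (by ring))
  · right
    constructor
    · have := key _ hDB 2 1 (by omega) ⟨1 + r * (t + r + 1), by linear_combination r * hr⟩ hc
      exact dvd_trans this (dvd_of_eq (by ring))
    · have := key _ hDC 2 (-1) (by omega) ⟨1 - r * (t - r + 1), by linear_combination (-r) * hr⟩ hc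
      exact dvd_trans this (dvd_of_eq (by ring))
  · left
    constructor
    · have := key _ hDB 3 (-1) (by omega) ⟨r + 1 - t * r * (t + r + 1), by linear_combination (1 - t * r) * hr⟩ hc
      exact dvd_trans this (dvd_of_eq (by ring))
    · have := key _ hDC 3 1 (by omega) ⟨1 - r + t * r * (t - r + 1), by linear_combination (1 + t * r) * hr⟩ hc
      exact dvd_trans this (dvd_of_eq (by ring))

/-- A class of `Sz` of a subfield lies in a class of `Sz`, bijectively. -/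
theorem exists_cl_map {k : ℕ} (hd : 2 * k + 1 ∣ 2 * m + 1) :
    ∃ σ : Fin 4 → Fin 4, Function.Bijective σ ∧ σ 0 = 0 ∧ σ 1 = 1 ∧ ∀ i, cl k i ∣ cl m (σ i) := by
  rcases cl_bc_dvd hd with ⟨h2, h3⟩ | ⟨h2, h3⟩
  · refine ⟨id, Function.bijective_id, rfl, rfl, fun i => ?_⟩
    fin_cases i
    exacts [dvd_refl _, cl_one_dvd hd, h2, h3]
  · refine ⟨![0, 1, 3, 2], by decide, rfl, rfl, fun i => ?_⟩
    fin_cases i
    exacts [dvd_refl _, cl_one_dvd hd, h2, h3]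

theorem lt_cl {i : Fin 4} (hm : 1 ≤ m) (hi : i ≠ 0) : 2 * m + 1 < cl m i := by
  have h1 : 2 * m + 1 + 1 < 2 ^ (2 * m + 1) := by
    have h := Nat.lt_two_pow_self (n := 2 * m)
    rw [pow_succ]; omega
  have h2 : 2 * m + 1 < cl m 2 := by
    have h3 : m < 2 ^ m := Nat.lt_two_pow_self
    have h4 : 2 * 2 ≤ 2 * 2 ^ m := Nat.mul_le_mul_left 2 (Nat.le_self_pow (by omega) 2)
    have h5 : 2 ^ (2 * m + 1) = 2 * 2 ^ m * 2 ^ m := by rw [pow_succ, two_mul, pow_add]; ring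
    have h6 : 4 * 2 ^ m ≤ 2 * 2 ^ m * 2 ^ m := Nat.mul_le_mul_right _ h4
    rw [cl_two, pow_succ 2 m, h5]
    generalize 2 * 2 ^ m * 2 ^ m = b at *
    generalize 2 ^ m = a at *
    omega
  fin_cases i
  · exact absurd rfl hi
  · show 2 * m + 1 < 2 ^ (2 * m + 1) - 1; omega
  · exact h2
  · show 2 * m + 1 < 2 ^ (2 * m + 1) + 2 ^ (m + 1) + 1; have := Nat.one_le_two_pow (n := m + 1); omega

/-- Each class keeps a prime after dividing by the degree of the field. -/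
theorem exists_rep (hm : 1 ≤ m) (i : Fin 4) :
    ∃ t : ℕ, t.Prime ∧ t ∣ cl m i / Nat.gcd (cl m i) (2 * m + 1) := by
  refine Nat.exists_prime_and_dvd fun h => ?_
  have hle : cl m i = Nat.gcd (cl m i) (2 * m + 1) := by
    conv_lhs => rw [← Nat.div_mul_cancel (Nat.gcd_dvd_left (cl m i) (2 * m + 1)), h, one_mul]
  have hd : cl m i ∣ 2 * m + 1 := hle ▸ Nat.gcd_dvd_right _ _
  by_cases hi : i = 0
  · subst hi; rw [cl_zero] at hd; omega
  · exact absurd (Nat.le_of_dvd (by omega) hd) (not_le.2 (lt_cl hm hi))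

theorem big_A {k : ℕ} (hk : 1 ≤ k) (hd : 2 * k + 1 ∣ 2 * m + 1) (hlt : k < m) :
    (2 * m + 1) * cl k 1 < cl m 1 := by
  obtain ⟨e, he⟩ := hd
  have he3 : 3 ≤ e := by
    rcases e with _ | _ | _ | e <;> omega
  have h1 : 2 * k + 1 + (2 * k + 1) + (2 * k + 1) ≤ 2 * m + 1 := by
    have : (2 * k + 1) * 3 ≤ (2 * k + 1) * e := Nat.mul_le_mul_left _ he3
    omega
  have h2 : (2 * m + 1) * 2 ^ (2 * k + 1) < 2 ^ (2 * m + 1) := by
    have h3 : (2 * m + 1) * 2 ^ (2 * k + 1) < 2 ^ (2 * m + 1 - (2 * k + 1)) * 2 ^ (2 * k + 1) := by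
      refine Nat.mul_lt_mul_of_pos_right ?_ (by positivity)
      obtain ⟨a, ha⟩ : ∃ a, 2 * m + 1 - (2 * k + 1) = a + 2 := ⟨2 * m + 1 - (2 * k + 1) - 2, by omega⟩
      have h4 := Nat.lt_two_pow_self (n := a + 1)
      rw [ha, pow_succ]
      omega
    rwa [← pow_add, Nat.sub_add_cancel (by omega)] at h3
  rw [cl_one, cl_one, Nat.mul_sub_one]
  omega

theorem pow_bound : ∀ k : ℕ, 2 ≤ k → 6 * k + 4 ≤ 2 ^ (2 * k + 1)
  | 0, h => by omega
  | 1, h => by omega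
  | 2, _ => by norm_num
  | n + 3, _ => by
      have h := pow_bound (n + 2) (by omega)
      rw [show 2 * (n + 3) + 1 = (2 * (n + 2) + 1) + 2 by ring, pow_add]
      omega

theorem no_C {k : ℕ} (hk : 1 ≤ k) (hd : 2 * k + 1 ∣ 2 * m + 1) (hlt : k < m) {x : ℕ}
    (hx : x ∣ (2 ^ (2 * k + 1)) ^ 2 + 1) : ¬ cl m 3 / Nat.gcd (cl m 3) (2 * m + 1) ∣ x := by
  intro h
  have h' : cl m 3 ∣ Nat.gcd (cl m 3) (2 * m + 1) * ((2 ^ (2 * k + 1)) ^ 2 + 1) := by
    conv_lhs => rw [← Nat.mul_div_cancel' (Nat.gcd_dvd_left (cl m 3) (2 * m + 1))]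
    exact mul_dvd_mul_left _ (h.trans hx)
  obtain ⟨e, he⟩ := hd
  have he3 : 3 ≤ e := by rcases e with _ | _ | _ | e <;> omega
  rcases Nat.lt_or_ge m 5 with hm5 | hm5
  · have : m = 4 ∧ k = 1 := by
      have : (2 * k + 1) * 3 ≤ (2 * k + 1) * e := Nat.mul_le_mul_left _ he3
      omega
    obtain ⟨rfl, rfl⟩ := this
    revert h'
    decide
  · have h1 : (2 * k + 1) * 3 ≤ 2 * m + 1 := he ▸ Nat.mul_le_mul_left _ he3
    have h2 : Nat.gcd (cl m 3) (2 * m + 1) ≤ 2 * m + 1 := Nat.le_of_dvd (by omega) (Nat.gcd_dvd_right _ _)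
    have h3 := Nat.le_of_dvd (Nat.mul_pos (Nat.gcd_pos_of_pos_right _ (by omega)) (by positivity)) h'
    have h4 : Nat.gcd (cl m 3) (2 * m + 1) * ((2 ^ (2 * k + 1)) ^ 2 + 1) ≤
        (2 * m + 1) * ((2 ^ (2 * k + 1)) ^ 2 + 1) := Nat.mul_le_mul_right _ h2
    obtain ⟨c, hc⟩ : ∃ c, 2 * m + 1 = 2 * (2 * k + 1) + c := ⟨2 * m + 1 - 2 * (2 * k + 1), by omega⟩
    have hb : 2 * m + 1 + 1 ≤ 2 ^ c := by
      have hcmono : 2 ^ (2 * k + 1) ≤ 2 ^ c := Nat.pow_le_pow_right (by omega) (by omega)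
      rcases Nat.lt_or_ge k 2 with hk2 | hk2
      · obtain rfl : k = 1 := by omega
        rw [show c = (2 * m - 6) + 1 by omega, pow_succ]
        have h5 := Nat.lt_two_pow_self (n := 2 * m - 7)
        rw [show 2 * m - 6 = (2 * m - 7) + 1 by omega, pow_succ]
        omega
      · have := pow_bound k hk2
        rcases Nat.lt_or_ge (2 * m + 1) ((2 * k + 1) * 3 + 1) with h5 | h5
        · omega
        · have h6 : 2 ^ (2 * k + 1) * 2 ^ (c - (2 * k + 1)) = 2 ^ c := by rw [← pow_add]; congr 1; omega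
          have h7 := Nat.lt_two_pow_self (n := c - (2 * k + 1))
          have h8 : (6 * k + 4) * 2 ^ (c - (2 * k + 1)) ≤ 2 ^ c := h6 ▸ Nat.mul_le_mul_right _ this
          have h9 : (6 * k + 4) * (c - (2 * k + 1) + 1) ≤ (6 * k + 4) * 2 ^ (c - (2 * k + 1)) :=
            Nat.mul_le_mul_left _ h7
          have h10 : 3 * (c - (2 * k + 1)) ≤ (6 * k + 3) * (c - (2 * k + 1)) :=
            Nat.mul_le_mul_right _ (by omega)
          rw [show (6 * k + 4) * (c - (2 * k + 1) + 1)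
            = (6 * k + 3) * (c - (2 * k + 1)) + (c - (2 * k + 1)) + (6 * k + 4) by ring] at h9
          omega
    have h5 : (2 * m + 1) * ((2 ^ (2 * k + 1)) ^ 2 + 1) < 2 ^ (2 * m + 1) + (2 * m + 1) + 1 := by
      have h6 : (2 * m + 1) * (2 ^ (2 * k + 1)) ^ 2 ≤ 2 ^ c * (2 ^ (2 * k + 1)) ^ 2 :=
        Nat.mul_le_mul_right _ (by omega)
      rw [← pow_mul, ← pow_add, show c + (2 * k + 1) * 2 = 2 * m + 1 by omega, pow_mul] at h6
      rw [mul_add, mul_one]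
      omega
    have h7 : 2 * m + 1 ≤ 2 ^ (m + 1) := by
      have := Nat.lt_two_pow_self (n := m)
      rw [pow_succ]; omega
    rw [cl_three] at h3 h4
    omega

end Cfsg.Agent.Recog.SzSquare
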