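import Cfsg.Agent.Lib.Grp.HallHigmanAction
import Cfsg.Agent.Lib.Grp.CoprimeAbelian
import Cfsg.Agent.Lib.Grp.Signalizer
import Cfsg.Agent.Lib.Grp.Frattini
import Cfsg.Agent.Lib.Grp.Cores
import Cfsg.Agent.Lib.Grp.FlavellPair
import Cfsg.Agent.S3977

/-!
# Coprime action tools for the spectrum of `Sz(q) × Sz(q)` (S3492, S3533)

No element of order `a * b * c`; elementary abelian subgroups of order `p ^ 2`; fixed-point-free operators.
-/

set_option autoImplicit false
set_option linter.style.haveILetI false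

open Subgroup
open scoped commutatorElement

namespace Cfsg.Agent.Recog.SzSquare

universe u

variable {G : Type u} [Group G]

/-- No element order is divisible by `a * b * c`. -/
def T3 (G : Type u) [Group G] (a b c : ℕ) : Prop := ∀ g : G, ¬ a * b * c ∣ orderOf g

theorem T3.swap12 {a b c : ℕ} (h : T3 G a b c) : T3 G b a c := fun g => by rw [mul_comm b a]; exact h g

theorem T3.swap23 {a b c : ℕ} (h : T3 G a b c) : T3 G a c b := fun g => by
  rw [mul_assoc, mul_comm c b, ← mul_assoc]; exact h g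

theorem T3.swap13 {a b c : ℕ} (h : T3 G a b c) : T3 G c b a := h.swap12.swap23.swap12

/-- Three pairwise commuting elements of three distinct prime orders. -/
theorem T3.false {a b c : ℕ} (h : T3 G a b c) (ha : a.Prime) (hb : b.Prime) (hc : c.Prime) (hab : a ≠ b)
    (hac : a ≠ c) (hbc : b ≠ c) {x y z : G} (hx : orderOf x = a) (hy : orderOf y = b) (hz : orderOf z = c)
    (hxy : x * y = y * x) (hxz : x * z = z * x) (hyz : y * z = z * y) : False := by
  have h1 : orderOf (x * y) = a * b := by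
    rw [Commute.orderOf_mul_eq_mul_orderOf_of_coprime hxy (by rw [hx, hy]; exact (Nat.coprime_primes ha hb).2 hab),
      hx, hy]
  have h2 : orderOf (x * y * z) = a * b * c := by
    rw [Commute.orderOf_mul_eq_mul_orderOf_of_coprime (Commute.mul_left hxz hyz) (by
      rw [h1, hz]
      exact Nat.Coprime.mul_left ((Nat.coprime_primes ha hc).2 hac) ((Nat.coprime_primes hb hc).2 hbc)), h1, hz]
  exact h _ (by rw [h2])

theorem T3.of_injective {H : Type*} [Group H] {a b c : ℕ} (h : T3 G a b c) (f : H →* G)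
    (hf : Function.Injective f) : ∀ g : H, ¬ a * b * c ∣ orderOf g := fun g hg =>
  h (f g) (by rwa [orderOf_injective f hf])

theorem exists_pow_orderOf {p : ℕ} {g : G} (hg : 0 < orderOf g) (h : p ∣ orderOf g) :
    ∃ k : ℕ, orderOf (g ^ k) = p := by
  refine ⟨orderOf g / p, ?_⟩
  obtain ⟨d, hd⟩ := h
  have hp : 0 < p := Nat.pos_of_ne_zero fun e => by rw [hd, e, zero_mul] at hg; exact lt_irrefl 0 hg
  rw [hd, Nat.mul_div_cancel_left _ hp, orderOf_pow_of_dvd (fun e => by rw [hd, e, mul_zero] at hg; omega)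
    (hd ▸ Dvd.intro_left p rfl), hd, Nat.mul_div_cancel _ (Nat.pos_of_ne_zero fun e => by
      rw [hd, e, mul_zero] at hg; omega)]

theorem mem_cent {x y : G} : y ∈ centralizer ({x} : Set G) ↔ y * x = x * y := mem_centralizer_singleton_iff

theorem cent_zpowers {x : G} {S : Set G} (h : x ∈ centralizer S) : zpowers x ≤ centralizer S := zpowers_le.2 h

variable [Finite G]

/-- An element of order `p` in a nontrivial `p`-group. -/
theorem exists_order_mem {p : ℕ} [hp : Fact p.Prime] {V : Subgroup G} (hV : IsPGroup p V) (hne : V ≠ ⊥) :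
    ∃ v ∈ V, orderOf v = p := by
  obtain ⟨v, hv, hvp⟩ := Grp.exists_prime_order_mem hne
  obtain ⟨k, hk⟩ := IsPGroup.iff_orderOf.1 hV ⟨v, hv⟩
  rw [Subgroup.orderOf_mk] at hk
  refine ⟨v, hv, ?_⟩
  rcases k with _ | k
  · rw [hk] at hvp; exact absurd hvp Nat.not_prime_one
  · exact ((Nat.prime_dvd_prime_iff_eq hp.out hvp).1 (by rw [hk]; exact dvd_pow_self p k.succ_ne_zero)).symm

/-- An elementary abelian subgroup of order `p ^ 2` inside `T`. -/
def RankTwo (p : ℕ) (T : Subgroup G) : Prop :=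
  ∃ E : Subgroup G, E ≤ T ∧ Nat.card E = p ^ 2 ∧ IsMulCommutative E ∧ ∀ e ∈ E, e ^ p = 1

theorem RankTwo.mono {p : ℕ} {T T' : Subgroup G} (h : RankTwo p T) (hle : T ≤ T') : RankTwo p T' :=
  let ⟨E, h1, h2⟩ := h
  ⟨E, h1.trans hle, h2⟩

theorem not_isCyclic_of_elem {p : ℕ} (hp : p.Prime) {E : Subgroup G} (h2 : Nat.card E = p ^ 2)
    (h3 : ∀ e ∈ E, e ^ p = 1) : ¬ IsCyclic E := fun h => by
  obtain ⟨g, hg⟩ := IsCyclic.exists_ofOrder_eq_natCard (α := E)
  have h1 := Nat.le_of_dvd hp.pos (orderOf_dvd_of_pow_eq_one (h3 g g.2))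
  rw [Subgroup.orderOf_coe, hg, h2, pow_two] at h1
  exact absurd h1 (not_le.2 (lt_mul_of_one_lt_right hp.pos hp.one_lt))

/-- Some nontrivial element of an elementary abelian group of order `p ^ 2` has fixed points. -/
theorem exists_fixed_rankTwo {p : ℕ} (hp : p.Prime) {E V : Subgroup G} (h2 : Nat.card E = p ^ 2)
    (hc : IsMulCommutative E) (h3 : ∀ e ∈ E, e ^ p = 1) (hV : V ≠ ⊥) (hEV : E ≤ normalizer (V : Set G))
    (hpV : ¬ p ∣ Nat.card V) : ∃ e ∈ E, orderOf e = p ∧ V ⊓ centralizer ({e} : Set G) ≠ ⊥ := by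
  haveI := Fact.mk hp
  have hgen := Grp.generated_by_centralizers E V (not_isCyclic_of_elem hp h2 h3) hEV
    (by rw [h2]; exact ((hp.coprime_iff_not_dvd).2 hpV).pow_left 2)
  by_contra hcon
  push Not at hcon
  refine hV (hgen ▸ le_bot_iff.1 (iSup₂_le fun e he => le_of_eq (hcon e he.1 ?_)))
  exact orderOf_eq_prime (h3 e he.1) he.2

/-- A `p`-group with no elementary abelian subgroup of order `p ^ 2` has one subgroup of order `p`. -/
theorem unique_or_rankTwo {p : ℕ} [hp : Fact p.Prime] {Q : Subgroup G} (hQ : IsPGroup p Q) (hne : Q ≠ ⊥) :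
    RankTwo p Q ∨ ∃ u ∈ Q, orderOf u = p ∧ (∀ x ∈ Q, orderOf x = p → x ∈ zpowers u) ∧ ∀ x ∈ Q, x * u = u * x := by
  refine or_iff_not_imp_left.2 fun hr => ?_
  haveI : Nontrivial ↥Q := (Subgroup.nontrivial_iff_ne_bot _).2 hne
  haveI := hQ.center_nontrivial
  obtain ⟨w, hw, hwp⟩ := exists_order_mem ((hQ.to_subgroup (center ↥Q)).map Q.subtype)
    (fun e => (center ↥Q).nontrivial_iff_ne_bot.1 inferInstance
      ((map_eq_bot_iff_of_injective _ Q.subtype_injective).1 e))
  obtain ⟨⟨z, hzQ⟩, hzc, rfl⟩ := hw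
  change orderOf z = p at hwp
  refine ⟨z, hzQ, hwp, fun x hx hxp => by_contra fun hxz => hr ?_, fun x hx =>
    congrArg Subtype.val (mem_center_iff.1 hzc ⟨x, hx⟩)⟩
  have hcomm : x * z = z * x := congrArg Subtype.val (mem_center_iff.1 hzc ⟨x, hx⟩)
  have hdis : zpowers z ⊓ zpowers x = ⊥ := by
    by_contra h
    obtain ⟨y, hy, hyp⟩ := exists_order_mem (p := p) (V := zpowers z ⊓ zpowers x)
      ((IsPGroup.of_card (n := 1) (by rw [Nat.card_zpowers, hwp, pow_one]) : IsPGroup p (zpowers z)).to_le inf_le_left) h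
    have h1 : zpowers y = zpowers x := eq_of_le_of_card_ge (zpowers_le.2 hy.2)
      (by rw [Nat.card_zpowers, Nat.card_zpowers, hyp, hxp])
    exact hxz (zpowers_le.2 hy.1 (h1 ▸ mem_zpowers x))
  have hle : zpowers z ≤ centralizer (zpowers x : Set G) := zpowers_le.2 (mem_centralizer_iff.2 fun y hy => by
    obtain ⟨i, rfl⟩ := mem_zpowers_iff.1 hy
    exact (Commute.zpow_left hcomm i).eq)
  have h1 : zpowers z ⊔ zpowers x = closure {z, x} := by
    rw [zpowers_eq_closure, zpowers_eq_closure, ← Subgroup.closure_union]; rfl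
  have hc := isMulCommutative_closure (k := ({z, x} : Set G)) (by
    rintro a (rfl | rfl) b (rfl | rfl) <;> first | rfl | exact hcomm | exact hcomm.symm)
  refine ⟨closure {z, x}, h1 ▸ sup_le (zpowers_le.2 hzQ) (zpowers_le.2 hx), ?_, hc, fun e he => ?_⟩
  · rw [← h1]
    have h2 := Grp.card_sup_mul_card_inf (H := zpowers z) (N := zpowers x)
      (hle.trans (centralizer_le_normalizer _))
    rw [hdis, card_bot, mul_one, Nat.card_zpowers, Nat.card_zpowers, hwp, hxp] at h2
    rw [h2, pow_two]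
  · induction he using Subgroup.closure_induction with
    | mem a ha =>
      rcases ha with rfl | rfl
      · rw [← hwp]; exact pow_orderOf_eq_one _
      · rw [← hxp]; exact pow_orderOf_eq_one _
    | one => exact one_pow p
    | mul a b ha hb iha ihb =>
      rw [Commute.mul_pow (congrArg Subtype.val (hc.is_comm.comm ⟨a, ha⟩ ⟨b, hb⟩)), iha, ihb, one_mul]
    | inv a ha iha => rw [inv_pow, iha, inv_one]

/-- An odd `p`-group with one subgroup of order `p` is cyclic. -/
theorem isCyclic_of_not_rankTwo {p : ℕ} [hp : Fact p.Prime] (hp2 : p ≠ 2) {Q : Subgroup G} (hQ : IsPGroup p Q)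
    (h : ¬ RankTwo p Q) : IsCyclic Q := by
  rcases eq_or_ne Q ⊥ with rfl | hne
  · infer_instance
  obtain ⟨m, hm⟩ := IsPGroup.iff_card.1 hQ
  have hm0 : m ≠ 0 := fun e => hne (card_eq_one.1 (by rw [hm, e, pow_zero]))
  rcases (show m = 1 ∨ 1 < m by omega) with rfl | hm1
  · exact isCyclic_of_prime_card (p := p) (by rw [hm, pow_one])
  obtain ⟨u, hu, hup, huniq, -⟩ := (unique_or_rankTwo hQ hne).resolve_left h
  refine S3977.cyclic_of_unique m p 1 hp.out hm le_rfl hm1 (Or.inl hp2) fun H K hH hK => ?_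
  have key : ∀ L : Subgroup ↥Q, Nat.card L = p ^ 1 → L.map Q.subtype = zpowers u := fun L hL => by
    refine eq_of_le_of_card_ge ?_ (by rw [Nat.card_zpowers, hup, card_subtype, hL, pow_one])
    rintro _ ⟨x, hx, rfl⟩
    by_cases h1 : x = 1
    · subst h1; simp
    refine huniq _ x.2 ((Subgroup.orderOf_coe x).trans ?_)
    have h2 := orderOf_dvd_natCard (⟨x, hx⟩ : ↥L)
    rw [hL, pow_one, Subgroup.orderOf_mk] at h2
    exact ((Nat.dvd_prime hp.out).1 h2).resolve_left fun e => h1 (orderOf_eq_one_iff.1 e)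
  exact map_injective Q.subtype_injective ((key H hH).trans (key K hK).symm)

/-- A fixed-point-free operator of prime order on a `p`-group `V` centralises an odd or abelian `q`-group of
operators modulo the centraliser of `V`. -/
theorem fpf_commutator_le {p q r : ℕ} [hp : Fact p.Prime] [hq : Fact q.Prime] [hr : Fact r.Prime]
    (hpq : p ≠ q) (hpr : p ≠ r) (hqr : q ≠ r) {e : G} (he : orderOf e = r) {Q : Subgroup G} (hQ : IsPGroup q Q)
    (hexc : q = 2 → (∃ n : ℕ, r = 2 ^ n + 1) → IsMulCommutative Q) (heQ : e ∈ normalizer (Q : Set G)) :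
    ∀ V : Subgroup G, IsPGroup p V → e ∈ normalizer (V : Set G) → Q ≤ normalizer (V : Set G) →
      V ⊓ centralizer ({e} : Set G) = ⊥ → ⁅Q, zpowers e⁆ ≤ centralizer (V : Set G) := by
  intro V
  induction V using (wellFounded_lt (α := Subgroup G)).induction with
  | _ V ih =>
  intro hV heV hQV hfix
  rcases eq_or_ne V ⊥ with rfl | hVne
  · intro x _
    simp [mem_centralizer_iff]
  set X := zpowers e with hXdef
  have hXr : Nat.card X = r := by rw [Nat.card_zpowers, he]
  have hXQ : X ≤ normalizer (Q : Set G) := zpowers_le.2 heQ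
  have hXV : X ≤ normalizer (V : Set G) := zpowers_le.2 heV
  haveI : Group.IsNilpotent ↥V := hV.isNilpotent
  haveI : Nontrivial ↥V := (Subgroup.nontrivial_iff_ne_bot _).2 hVne
  set W := (frattini ↥V).map V.subtype with hW
  have hWV : W ≤ V := map_subtype_le _
  have hWlt : W < V := lt_of_le_of_ne hWV fun e1 => by
    have htop : frattini ↥V = ⊤ := map_injective V.subtype_injective (by
      rw [← MonoidHom.range_eq_map, range_subtype]; exact e1)
    obtain ⟨M, hM, -⟩ := (eq_top_or_exists_le_coatom (⊥ : Subgroup ↥V)).resolve_left bot_ne_top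
    exact hM.1 (top_le_iff.1 (htop ▸ frattini_le_coatom hM))
  have hnW : normalizer (V : Set G) ≤ normalizer (W : Set G) := by
    rw [hW]; exact Grp.FlavellPair.normalizer_le_map_char V (frattini ↥V)
  have hWfix : W ⊓ centralizer ({e} : Set G) = ⊥ := le_bot_iff.1 (hfix ▸ inf_le_inf_right _ hWV)
  have h1 := ih W hWlt (hV.to_le hWV) (hnW heV) (hQV.trans hnW) hWfix
  set N := normalizer (V : Set G) with hN
  haveI : (W.subgroupOf N).Normal := (normal_subgroupOf_iff_le_normalizer (hWV.trans le_normalizer)).2 hnW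
  set f := QuotientGroup.mk' (W.subgroupOf N) with hf
  have hf1 : ∀ n : ↥N, f n = 1 ↔ (n : G) ∈ W := fun n => QuotientGroup.eq_one_iff n
  set V' := (V.subgroupOf N).map f
  set Q' := (Q.subgroupOf N).map f
  set X' := (X.subgroupOf N).map f
  have hcopX : (Nat.card X).Coprime (Nat.card V) := by
    obtain ⟨k, hk⟩ := IsPGroup.iff_card.1 hV
    rw [hXr, hk]; exact ((Nat.coprime_primes hr.out hp.out).2 hpr.symm).pow_right k
  have hV' : Cfsg.IsElementaryAbelian p V' := by
    refine ⟨⟨⟨?_⟩⟩, ?_⟩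
    · rintro ⟨_, a, ha, rfl⟩ ⟨_, b, hb, rfl⟩
      refine Subtype.ext (show f a * f b = f b * f a from ?_)
      rw [← commutatorElement_eq_one_iff_mul_comm, ← map_commutatorElement, hf1]
      exact ⟨⁅(⟨a, ha⟩ : ↥V), ⟨b, hb⟩⁆, Grp.pGroup_commutator_le_frattini hV
        (commutator_mem_commutator (mem_top _) (mem_top _)), rfl⟩
    · rintro _ ⟨a, ha, rfl⟩
      rw [← map_pow, hf1]
      exact ⟨(⟨a, ha⟩ : ↥V) ^ p, Grp.pGroup_pow_mem_frattini hV _, rfl⟩
  have hXinf : X ⊓ W = ⊥ := Grp.inf_eq_bot_of_coprime (hcopX.coprime_dvd_right (card_dvd_of_le hWV))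
  have hX'c : Nat.card X' = r := by
    show Nat.card ↥((X.subgroupOf N).map f) = r
    rw [← hXr, ← Nat.card_congr (subgroupOfEquivOfLe hXV).toEquiv]
    refine Nat.card_congr (Equiv.ofBijective (fun x : ↥(X.subgroupOf N) =>
      (⟨f x, mem_map_of_mem f x.2⟩ : ↥((X.subgroupOf N).map f))) ⟨fun a b h => ?_, ?_⟩).symm
    · refine Subtype.ext (inv_mul_eq_one.1 (Subtype.ext ((eq_bot_iff_forall _).1 hXinf _ ⟨?_, ?_⟩)))
      · exact mem_subgroupOf.1 ((X.subgroupOf N).mul_mem ((X.subgroupOf N).inv_mem a.2) b.2)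
      · exact (hf1 _).1 (by rw [map_mul, map_inv, show f a = f b from congrArg Subtype.val h, inv_mul_cancel])
    · rintro ⟨_, a, ha, rfl⟩
      exact ⟨⟨a, ha⟩, rfl⟩
  have hnor : ∀ A B : Subgroup G, A ≤ N → A ≤ normalizer (B : Set G) →
      (A.subgroupOf N).map f ≤ normalizer (((B.subgroupOf N).map f : Subgroup _) : Set _) := fun A B hA hAB => by
    refine Grp.invariant_iff.1 ?_
    rintro _ ⟨a, ha, rfl⟩ _ ⟨b, hb, rfl⟩
    exact ⟨a * b * a⁻¹, mem_subgroupOf.2 (Grp.mem_conj_normalizer (hAB (mem_subgroupOf.1 ha)) (mem_subgroupOf.1 hb)),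
      by rw [map_mul, map_mul, map_inv]⟩
  have hfix' : V' ⊓ centralizer (X' : Set _) = ⊥ := by
    refine (eq_bot_iff_forall _).2 ?_
    rintro _ ⟨⟨v, hv, rfl⟩, hvc⟩
    obtain ⟨c, hc, hvc'⟩ := Grp.exists_fixed_rep X V W hXV (Grp.inf_eq_bot_of_coprime hcopX)
      (hcopX.coprime_dvd_right (card_dvd_of_le hWV)) (Or.inl inferInstance) hWV
      ((le_normalizer).trans hnW) (hXV.trans hnW) hv (fun a ha => by
        have h2 := mem_centralizer_iff.1 hvc _ (mem_map_of_mem f (show (⟨a, hXV ha⟩ : ↥N) ∈ X.subgroupOf N from ha))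
        refine (hf1 ⟨a * v * a⁻¹ * (v : G)⁻¹, mul_mem (mul_mem (mul_mem (hXV ha) v.2) (inv_mem (hXV ha))) (inv_mem v.2)⟩).1 ?_
        rw [show (⟨a * v * a⁻¹ * (v : G)⁻¹, _⟩ : ↥N) = ⟨a, hXV ha⟩ * v * ⟨a, hXV ha⟩⁻¹ * v⁻¹ from rfl,
          map_mul, map_mul, map_mul, map_inv, map_inv, h2, mul_inv_cancel_right, mul_inv_cancel])
    have hc1 : c = 1 := (eq_bot_iff_forall _).1 hfix c ⟨hc.1, by
      rw [Grp.centralizer_singleton_eq_zpowers]; exact hc.2⟩
    rw [hc1, mul_one, inv_mem_iff] at hvc'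
    exact (hf1 v).2 hvc'
  have hkey : ⁅Q', X'⁆ ≤ centralizer (V' : Set _) := by
    by_contra hne
    refine Grp.exists_fixed_of_not_centralizing hpq hpr hqr X' Q' V' hX'c ((hQ.comap_subtype (K := N)).map f)
      (hnor X Q hXV hXQ) hV' (hnor X V hXV hXV) (hnor Q V hQV hQV) hne (fun h2 hf2 => ?_) hfix'
    refine ⟨⟨?_⟩⟩
    rintro ⟨_, a, ha, rfl⟩ ⟨_, b, hb, rfl⟩
    refine Subtype.ext (show f a * f b = f b * f a from ?_)
    rw [← map_mul, ← map_mul]
    exact congrArg f (Subtype.ext (congrArg (fun w : ↥Q => (w : G))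
      ((hexc h2 hf2).is_comm.comm (⟨(a : G), ha⟩ : ↥Q) ⟨(b : G), hb⟩)))
  set A := ⁅Q, X⁆ with hA
  have hAQ : A ≤ Q := Grp.commutator_le_left_of_le_normalizer hXQ
  have hcopA : (Nat.card A).Coprime (Nat.card V) := by
    obtain ⟨k, hk⟩ := IsPGroup.iff_card.1 (hQ.to_le hAQ)
    obtain ⟨l, hl⟩ := IsPGroup.iff_card.1 hV
    rw [hk, hl]; exact (((Nat.coprime_primes hq.out hp.out).2 hpq.symm).pow_left k).pow_right l
  refine Grp.le_centralizer_of_series A V W (hAQ.trans hQV) hcopA (Or.inr inferInstance) ?_ ?_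
  · rw [commutator_le]
    intro v hv a ha
    have haN := hQV (hAQ ha)
    have hmem : (⟨a, haN⟩ : ↥N) ∈ (⁅Q.subgroupOf N, X.subgroupOf N⁆ : Subgroup ↥N) := by
      have : A = (⁅Q.subgroupOf N, X.subgroupOf N⁆ : Subgroup ↥N).map N.subtype := by
        rw [map_commutator, map_subgroupOf_eq_of_le hQV, map_subgroupOf_eq_of_le hXV]
      obtain ⟨y, hy, hya⟩ := (this ▸ ha : a ∈ (⁅Q.subgroupOf N, X.subgroupOf N⁆ : Subgroup ↥N).map N.subtype)
      exact (Subtype.ext hya : y = ⟨a, haN⟩) ▸ hy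
    have h2 : f ⟨a, haN⟩ ∈ centralizer (V' : Set _) := hkey (by
      rw [← map_commutator]; exact mem_map_of_mem f hmem)
    have h3 := mem_centralizer_iff.1 h2 _ (mem_map_of_mem f (show (⟨v, le_normalizer hv⟩ : ↥N) ∈ V.subgroupOf N from hv))
    have h4 : f ⁅(⟨v, le_normalizer hv⟩ : ↥N), ⟨a, haN⟩⁆ = 1 := by
      rw [map_commutatorElement, commutatorElement_eq_one_iff_mul_comm]; exact h3
    exact (hf1 _).1 h4
  · rw [commutator_eq_bot_iff_le_centralizer]
    exact le_centralizer_iff.1 h1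

end Cfsg.Agent.Recog.SzSquare
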