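import Cfsg.Agent.Lib.Recog.SzSquare.Coprime
import Cfsg.Agent.Lib.Grp.Baer
import Cfsg.Agent.Lib.Grp.Hall

/-!
# Cores of solvable subgroups, Hall subgroups, automorphisms of cyclic subgroups
-/

set_option autoImplicit false
set_option linter.style.haveILetI false

open Subgroup

namespace Cfsg.Agent.Recog.SzSquare

universe u

variable {G : Type u} [Group G]

/-- The `q`-core of a subgroup. -/
def OP (q : ℕ) (T : Subgroup G) : Subgroup G := (Cfsg.pCore q ↥T).map T.subtype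

theorem OP_le (q : ℕ) (T : Subgroup G) : OP q T ≤ T := map_subtype_le _

theorem le_normalizer_OP (q : ℕ) (T : Subgroup G) : T ≤ normalizer (OP q T : Set G) := by
  haveI := Grp.pCore_isNormal (p := q) (G := ↥T)
  intro g hg
  refine mem_normalizer_iff.2 fun x => ⟨?_, ?_⟩
  · rintro ⟨y, hy, rfl⟩
    exact ⟨⟨g, hg⟩ * y * ⟨g, hg⟩⁻¹, Normal.conj_mem inferInstance y hy _, rfl⟩
  · rintro ⟨y, hy, e⟩
    refine ⟨⟨g, hg⟩⁻¹ * y * ⟨g, hg⟩, Normal.conj_mem' inferInstance y hy _, ?_⟩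
    show g⁻¹ * (y : G) * g = x
    rw [show (y : G) = g * x * g⁻¹ from e]
    group

theorem conj_mem_OP {q : ℕ} {T : Subgroup G} {g x : G} (hg : g ∈ T) (hx : x ∈ OP q T) :
    g * x * g⁻¹ ∈ OP q T := Grp.mem_conj_normalizer (le_normalizer_OP q T hg) hx

variable [Finite G]

theorem OP_isPGroup (q : ℕ) (T : Subgroup G) : IsPGroup q ↥(OP q T) :=
  (Grp.pCore_isPGroup (p := q) (G := ↥T)).map _

theorem le_OP {q : ℕ} {T N : Subgroup G} (hNT : N ≤ T) (hN : T ≤ normalizer (N : Set G))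
    (hp : IsPGroup q ↥N) : N ≤ OP q T := by
  haveI : (N.subgroupOf T).Normal := (normal_subgroupOf_iff_le_normalizer hNT).2 hN
  have h := map_mono (f := T.subtype) (Grp.le_pCore (p := q) ‹(N.subgroupOf T).Normal› (hp.comap_subtype (K := T)))
  rwa [map_subgroupOf_eq_of_le hNT] at h

/-- Cores for different primes commute. -/
theorem OP_comm {q q' : ℕ} [hq : Fact q.Prime] [hq' : Fact q'.Prime] (hne : q ≠ q') (T : Subgroup G) :
    ∀ x ∈ OP q T, ∀ y ∈ OP q' T, x * y = y * x := by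
  intro x hx y hy
  have hd : OP q T ⊓ OP q' T = ⊥ := by
    refine Grp.inf_eq_bot_of_coprime ?_
    obtain ⟨a, ha⟩ := IsPGroup.iff_card.1 (OP_isPGroup q T)
    obtain ⟨b, hb⟩ := IsPGroup.iff_card.1 (OP_isPGroup q' T)
    rw [ha, hb]
    exact (((Nat.coprime_primes hq.out hq'.out).2 hne).pow_left a).pow_right b
  have hm : x * y * x⁻¹ * y⁻¹ ∈ OP q T ⊓ OP q' T := ⟨by
      rw [mul_assoc, mul_assoc, ← mul_assoc y]
      exact mul_mem hx (conj_mem_OP (OP_le q' T hy) ((OP q T).inv_mem hx)),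
    mul_mem (conj_mem_OP (OP_le q T hx) hy) ((OP q' T).inv_mem hy)⟩
  rw [hd, mem_bot, mul_inv_eq_one, mul_inv_eq_iff_eq_mul] at hm
  exact hm

/-- In a solvable group the centraliser of all the cores lies in their join. -/
theorem cent_cores_le (T : Subgroup G) [Group.IsSolvable ↥T] (H : Subgroup G)
    (hH : ∀ q : ℕ, q.Prime → OP q T ≤ H) {x : G} (hx : x ∈ T)
    (hc : ∀ q : ℕ, q.Prime → ∀ y ∈ OP q T, x * y = y * x) : x ∈ H := by
  set F := Cfsg.fittingSubgroup ↥T
  have hF : ∀ (W : Subgroup ↥T), (∀ q : ℕ, q.Prime → Cfsg.pCore q ↥T ≤ W) → F ≤ W := by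
    intro W hW
    refine (Grp.le_of_forall_sylow (inf_le_left : F ⊓ W ≤ F) fun q hq => ?_).trans inf_le_right
    obtain ⟨X, hX⟩ := Grp.exists_isSylowIn q F
    exact ⟨X, hX, fun y hy => ⟨hX.1 hy, hW q hq.out (Grp.mem_pCore_of_mem_fitting (hX.1 hy)
      (hX.2.1.to_le (zpowers_le.2 hy)))⟩⟩
  have h1 : (⟨x, hx⟩ : ↥T) ∈ centralizer (F : Set ↥T) := by
    refine mem_centralizer_iff.2 fun y hy => ?_
    have := hF (centralizer {(⟨x, hx⟩ : ↥T)}) (fun q hq w hw => mem_centralizer_singleton_iff.2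
      (Subtype.ext (hc q hq w (mem_map_of_mem T.subtype hw)).symm)) hy
    exact mem_centralizer_singleton_iff.1 this
  exact hF (H.subgroupOf T) (fun q hq w hw => mem_subgroupOf.2 (hH q hq (mem_map_of_mem T.subtype hw)))
    (Grp.centralizer_fittingSubgroup_le h1)

theorem exists_OP_ne_bot {T : Subgroup G} [Group.IsSolvable ↥T] (hT : T ≠ ⊥) :
    ∃ q : ℕ, q.Prime ∧ OP q T ≠ ⊥ := by
  by_contra h
  push Not at h
  refine hT ((eq_bot_iff_forall _).2 fun x hx => mem_bot.1 (cent_cores_le T ⊥ (fun q hq => (h q hq).le) hx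
    fun q hq y hy => ?_))
  rw [h q hq, mem_bot] at hy
  rw [hy, mul_one, one_mul]

theorem OP_dvd_card {q : ℕ} [hq : Fact q.Prime] {T : Subgroup G} (h : OP q T ≠ ⊥) : q ∣ Nat.card T := by
  obtain ⟨v, hv, hvq⟩ := exists_order_mem (OP_isPGroup q T) h
  exact hvq ▸ T.orderOf_dvd_natCard (OP_le q T hv)

/-- Hall subgroups of a solvable group for a finite set of primes. -/
theorem exists_hallSub [Group.IsSolvable G] (π : Finset ℕ) :
    ∃ H : Subgroup G, (∀ q : ℕ, q.Prime → q ∣ Nat.card H → q ∈ π) ∧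
      ∀ K : Subgroup G, (∀ q : ℕ, q.Prime → q ∣ Nat.card K → q ∈ π) → ∃ g : G, ∀ x ∈ K, g * x * g⁻¹ ∈ H := by
  classical
  set n := Nat.card G
  have hn : n ≠ 0 := Nat.card_pos.ne'
  set f := n.factorization
  have hprod : n = (∏ q ∈ f.support.filter (· ∈ π), q ^ f q) * ∏ q ∈ f.support.filter (fun q => ¬ q ∈ π), q ^ f q := by
    rw [Finset.prod_filter_mul_prod_filter_not]
    exact (Nat.prod_factorization_pow_eq_self hn).symm
  set m := ∏ q ∈ f.support.filter (· ∈ π), q ^ f q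
  set m' := ∏ q ∈ f.support.filter (fun q => ¬ q ∈ π), q ^ f q
  have hmem : ∀ {S : Finset ℕ}, S ⊆ f.support → ∀ {q : ℕ}, q.Prime → q ∣ ∏ r ∈ S, r ^ f r → q ∈ S := by
    intro S hS q hq hd
    obtain ⟨r, hr, hqr⟩ := (Prime.dvd_finset_prod_iff (Nat.prime_iff.1 hq) _).1 hd
    have hrp : r.Prime := Nat.prime_of_mem_primeFactors (Nat.support_factorization n ▸ hS hr)
    exact (Nat.prime_dvd_prime_iff_eq hq hrp).1 (hq.dvd_of_dvd_pow hqr) ▸ hr
  have hcop : m.Coprime m' := Nat.coprime_of_dvd fun q hq h1 h2 => by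
    have h3 := hmem (Finset.filter_subset _ _) hq h1
    have h4 := hmem (Finset.filter_subset _ _) hq h2
    exact (Finset.mem_filter.1 h4).2 (Finset.mem_filter.1 h3).2
  obtain ⟨H, hH⟩ := Grp.exists_hall hprod hcop
  refine ⟨H, fun q hq hd => (Finset.mem_filter.1 (hmem (Finset.filter_subset _ _) hq (by rwa [hH] at hd))).2, fun K hK => ?_⟩
  have hKc : (Nat.card K).Coprime m' := Nat.coprime_of_dvd fun q hq h1 h2 =>
    (Finset.mem_filter.1 (hmem (Finset.filter_subset _ _) hq h2)).2 (hK q hq h1)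
  obtain ⟨g, hg⟩ := Grp.exists_conj_le_hall hprod hcop hH hKc
  refine ⟨g⁻¹, fun x hx => ?_⟩
  have := hg hx
  rw [mem_pointwise_smul_iff_inv_smul_mem, ← map_inv, MulAut.smul_def, MulAut.conj_apply] at this
  exact this

/-- Elements normalising a cyclic subgroup induce commuting automorphisms on it. -/
theorem conj_comm_of_cyclic {C : Subgroup G} (hC : IsCyclic C) {g h : G} (hg : g ∈ normalizer (C : Set G))
    (hh : h ∈ normalizer (C : Set G)) : g * h * g⁻¹ * h⁻¹ ∈ centralizer (C : Set G) := by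
  obtain ⟨⟨c, hc⟩, hgen⟩ := hC.exists_generator
  have key : ∀ x ∈ C, ∃ i : ℤ, c ^ i = x := fun x hx => by
    obtain ⟨i, hi⟩ := mem_zpowers_iff.1 (hgen ⟨x, hx⟩)
    exact ⟨i, congrArg Subtype.val hi⟩
  obtain ⟨i, hi⟩ := key _ (Grp.mem_conj_normalizer hg hc)
  obtain ⟨j, hj⟩ := key _ (Grp.mem_conj_normalizer hh hc)
  have hgh : g * h * c * (g * h)⁻¹ = h * g * c * (h * g)⁻¹ := by
    calc g * h * c * (g * h)⁻¹ = g * (h * c * h⁻¹) * g⁻¹ := by group
      _ = c ^ (i * j) := by rw [← hj, ← conj_zpow, ← hi, ← zpow_mul]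
      _ = h * (g * c * g⁻¹) * h⁻¹ := by rw [← hi, ← conj_zpow, ← hj, ← zpow_mul, mul_comm]
      _ = _ := by group
  have h0 : ∀ w ∈ C, g * h * w = h * g * ((h * g)⁻¹ * (g * h)) * w := fun w _ => by group
  have hc2 : ∀ w ∈ C, g * h * w * (g * h)⁻¹ = h * g * w * (h * g)⁻¹ := fun w hw => by
    obtain ⟨k, rfl⟩ := key w hw
    rw [← conj_zpow, ← conj_zpow, hgh]
  refine mem_centralizer_iff.2 fun w hw => ?_
  have hw' := Grp.mem_conj_normalizer' (mul_mem hh hg) hw
  have := hc2 _ hw'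
  calc w * (g * h * g⁻¹ * h⁻¹) = h * g * ((h * g)⁻¹ * w * (h * g)) * (h * g)⁻¹ * (g * h * g⁻¹ * h⁻¹) := by group
    _ = g * h * ((h * g)⁻¹ * w * (h * g)) * (g * h)⁻¹ * (g * h * g⁻¹ * h⁻¹) := by rw [this]
    _ = _ := by group

/-- An automorphism of prime order `k` of a group of prime order `s`. -/
theorem dvd_sub_one_of_moves {s k : ℕ} (hs : s.Prime) (hk : k.Prime) {x e : G} (hx : orderOf x = s)
    (he : orderOf e = k) (hn : e ∈ normalizer (zpowers x : Set G)) (hne : e * x ≠ x * e) : k ∣ s - 1 := by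
  set C := zpowers x with hCdef
  let φ := (C.normalizerMonoidHom) ⟨e, hn⟩
  have h1 : φ ≠ 1 := fun h => hne (by
    have h2 := congrArg Subtype.val (DFunLike.congr_fun h ⟨x, mem_zpowers x⟩)
    change e * x * e⁻¹ = x at h2
    exact mul_inv_eq_iff_eq_mul.1 h2)
  have h2 : orderOf φ = k := by
    have h3 : orderOf φ ∣ k := he ▸ (by
      rw [← Subgroup.orderOf_mk (H := normalizer (C : Set G)) e hn]; exact orderOf_map_dvd _ _)
    exact ((Nat.dvd_prime hk).1 h3).resolve_left fun e1 => h1 (orderOf_eq_one_iff.1 e1)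
  have hcard : Nat.card C = s := by rw [Nat.card_zpowers, hx]
  have h4 := orderOf_dvd_natCard φ
  rwa [h2, IsCyclic.card_mulAut, hcard, Nat.totient_prime hs] at h4

/-- An elementary abelian group of order `k ^ 2` normalising a group of prime order has a nontrivial
centralising element. -/
theorem exists_centralizing {s k : ℕ} (hs : s.Prime) (hk : k.Prime) {x : G} (hx : orderOf x = s) {E : Subgroup G}
    (h2 : Nat.card E = k ^ 2) (h3 : ∀ e ∈ E, e ^ k = 1) (hn : E ≤ normalizer (zpowers x : Set G)) :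
    ∃ e ∈ E, orderOf e = k ∧ e * x = x * e := by
  haveI := Fact.mk hs
  haveI := Fact.mk hk
  by_contra h
  push Not at h
  set C := zpowers x
  have hcard : Nat.card C = s := by rw [Nat.card_zpowers, hx]
  let f : ↥E →* MulAut ↥C := C.normalizerMonoidHom.comp (Subgroup.inclusion hn)
  haveI : IsCyclic (MulAut ↥C) := by
    haveI : IsCyclic (ZMod (Nat.card C))ˣ := by rw [hcard]; infer_instance
    exact isCyclic_of_injective (IsCyclic.mulAutMulEquiv ↥C).toMonoidHom (IsCyclic.mulAutMulEquiv ↥C).injective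
  refine not_isCyclic_of_elem hk h2 h3 (isCyclic_of_injective f ((injective_iff_map_eq_one f).2 fun e he => ?_))
  by_contra h1
  refine h e e.2 (orderOf_eq_prime (h3 e e.2) fun h4 => h1 (Subtype.ext h4)) ?_
  have h5 := congrArg Subtype.val (DFunLike.congr_fun he ⟨x, mem_zpowers x⟩)
  change (e : G) * x * (e : G)⁻¹ = x at h5
  exact mul_inv_eq_iff_eq_mul.1 h5

/-- A fixed-point-free involution inverts. -/
theorem inverts_of_fpf {b : G} (hb : b * b = 1) {V : Subgroup G} (hn : b ∈ normalizer (V : Set G))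
    (hfix : V ⊓ centralizer ({b} : Set G) = ⊥) : ∀ v ∈ V, b * v * b⁻¹ = v⁻¹ := by
  let φ : ↥V →* ↥V := (V.normalizerMonoidHom ⟨b, hn⟩).toMonoidHom
  have hval : ∀ v : ↥V, (φ v : G) = b * v * b⁻¹ := fun v => rfl
  have hfp : MonoidHom.FixedPointFree φ := fun v hv => Subtype.ext ((eq_bot_iff_forall _).1 hfix v ⟨v.2,
    mem_centralizer_singleton_iff.2 (mul_inv_eq_iff_eq_mul.1 (congrArg Subtype.val hv)).symm⟩)
  have hinv : Function.Involutive φ := fun v => Subtype.ext (by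
    rw [hval, hval, show b * (b * (v : G) * b⁻¹) * b⁻¹ = (b * b) * v * (b * b)⁻¹ by group, hb]
    group)
  intro v hv
  exact congrArg Subtype.val (congrFun (hfp.coe_eq_inv_of_involutive hinv) ⟨v, hv⟩)

end Cfsg.Agent.Recog.SzSquare
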