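import Cfsg.Agent.Lib.Recog.SzSquare.SzFacts
import Cfsg.Agent.Lib.Grp.Basic

/-!
# The non-abelian composition factors
-/

set_option autoImplicit false
set_option linter.style.haveILetI false

open Subgroup
open scoped commutatorElement

namespace Cfsg.Agent.Recog.SzSquare

universe u

variable {G : Type u} [Group G]

/-- The conjugate of a subgroup. -/
def conjSub (g : G) (L : Subgroup G) : Subgroup G := L.map (MulAut.conj g).toMonoidHom

theorem mem_conjSub {g x : G} {L : Subgroup G} : x ∈ conjSub g L ↔ g⁻¹ * x * g ∈ L := by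
  rw [conjSub, mem_map_equiv]
  simp [MulAut.conj_symm_apply]

theorem conjSub_one (L : Subgroup G) : conjSub 1 L = L := SetLike.ext fun x => by simp [mem_conjSub]

theorem conjSub_mul (g h : G) (L : Subgroup G) : conjSub (g * h) L = conjSub g (conjSub h L) :=
  SetLike.ext fun x => by simp only [mem_conjSub, mul_inv_rev, mul_assoc]

theorem conjSub_mono {g : G} {L M : Subgroup G} (h : L ≤ M) : conjSub g L ≤ conjSub g M := map_mono h

theorem conjSub_normal {g : G} {N : Subgroup G} (hN : N.Normal) : conjSub g N = N :=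
  SetLike.ext fun x => by
    rw [mem_conjSub, hN.mem_comm_iff, ← mul_assoc, mul_inv_cancel, one_mul]

/-- Two elementwise commuting subgroups. -/
def Commuting (A B : Subgroup G) : Prop := ∀ a ∈ A, ∀ b ∈ B, a * b = b * a

theorem Commuting.symm {A B : Subgroup G} (h : Commuting A B) : Commuting B A := fun b hb a ha => (h a ha b hb).symm

theorem Commuting.conj {A B : Subgroup G} (h : Commuting A B) (g : G) : Commuting (conjSub g A) (conjSub g B) := by
  rintro _ ⟨a, ha, rfl⟩ _ ⟨b, hb, rfl⟩
  rw [← map_mul, h a ha b hb, map_mul]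

/-- Two Suzuki subgroups with everything needed from them. -/
structure TwoFactors (G : Type u) [Group G] (m : ℕ) (L1 L2 : Subgroup G) : Prop where
  sz1 : SzLike ↥L1 m
  sz2 : SzLike ↥L2 m
  comm : Commuting L1 L2
  ne : L1 ≠ L2
  conj1 : ∀ g, conjSub g L1 = L1 ∨ conjSub g L1 = L2
  conj2 : ∀ g, conjSub g L2 = L1 ∨ conjSub g L2 = L2
  cent : ∀ x : G, (∀ a ∈ L1, a * x = x * a) → (∀ a ∈ L2, a * x = x * a) → x = 1

variable [Finite G] {m : ℕ}

/-- No three pairwise commuting Suzuki subgroups. -/
theorem no_three_commuting (hB : Bound G m) {A B C : Subgroup G} (hA : SzLike ↥A m) (hB' : SzLike ↥B m)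
    (hC : SzLike ↥C m) (hAB : Commuting A B) (hAC : Commuting A C) (hBC : Commuting B C) : False := by
  obtain ⟨a, x, ha, had, hx⟩ := hA.meets 1
  obtain ⟨b, y, hb, hbd, hy⟩ := hB'.meets 2
  obtain ⟨c, z, hc, hcd, hz⟩ := hC.meets 3
  have hne : ∀ {s t : ℕ} {i j : Fin 4}, s.Prime → s ∣ cl m i → t ∣ cl m j → i ≠ j → s ≠ t :=
    fun hs h1 h2 hij e => hij (cl_eq_of_dvd hB.one_le hs h1 (e ▸ h2))
  exact (hB.t3 ha hb hc (by decide : (1 : Fin 4) ≠ 2) (by decide : (1 : Fin 4) ≠ 3) (by decide : (2 : Fin 4) ≠ 3)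
    had hbd hcd).false ha hb hc (hne ha had hbd (by decide)) (hne ha had hcd (by decide)) (hne hb hbd hcd (by decide))
    ((Subgroup.orderOf_coe x).trans hx) ((Subgroup.orderOf_coe y).trans hy) ((Subgroup.orderOf_coe z).trans hz)
    (hAB _ x.2 _ y.2) (hAC _ x.2 _ z.2) (hBC _ y.2 _ z.2)

/-- A Suzuki subgroup in a nonsolvable minimal normal subgroup. -/
theorem exists_simple_below (hB : Bound G m) {M : Subgroup G} [hM : M.Normal] (hns : ¬ Group.IsSolvable ↥M)
    (hmin : ∀ K : Subgroup G, K.Normal → K ≤ M → K = ⊥ ∨ K = M) :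
    ∃ L : Subgroup G, L ≤ M ∧ SzLike ↥L m ∧ ∀ g h : G, conjSub g L = conjSub h L ∨ Commuting (conjSub g L) (conjSub h L) := by
  have hMne : M ≠ ⊥ := fun e => hns (by subst e; infer_instance)
  haveI : Nontrivial ↥M := (Subgroup.nontrivial_iff_ne_bot M).2 hMne
  obtain ⟨L0, hL0n, hL0ne, -, hL0min⟩ := Grp.exists_minimal_normal_le (G := ↥M) (N := ⊤) top_ne_bot
  set L := L0.map M.subtype
  have hLM : L ≤ M := map_subtype_le _
  have hgL : ∀ g, conjSub g L ≤ M := fun g => (conjSub_mono hLM).trans (conjSub_normal hM).le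
  have hnorm : ∀ g, ∀ y ∈ M, ∀ x ∈ conjSub g L, y * x * y⁻¹ ∈ conjSub g L := by
    intro g y hy x hx
    rw [mem_conjSub] at hx ⊢
    obtain ⟨x0, hx0, hx0'⟩ := hx
    have hy' : g⁻¹ * y * g ∈ M := by
      have := hM.conj_mem y hy g⁻¹; rwa [inv_inv] at this
    refine ⟨⟨_, hy'⟩ * x0 * ⟨_, hy'⟩⁻¹, hL0n.conj_mem _ hx0 _, ?_⟩
    show g⁻¹ * y * g * (x0 : G) * (g⁻¹ * y * g)⁻¹ = _
    rw [show (x0 : G) = g⁻¹ * x * g from hx0']; group
  have hminL : ∀ N : Subgroup G, N ≤ L → (∀ y ∈ M, ∀ x ∈ N, y * x * y⁻¹ ∈ N) → N = ⊥ ∨ N = L := by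
    intro N hN hn
    rcases hL0min (N.subgroupOf M) ⟨fun x hx y => hn y y.2 x hx⟩
        (fun x hx => by
          obtain ⟨x0, hx0, e⟩ := hN hx
          exact (Subtype.ext e : x0 = x) ▸ hx0) with h | h
    · left
      refine (Subgroup.eq_bot_iff_forall _).2 fun x hx => ?_
      have := (Subgroup.eq_bot_iff_forall _).1 h ⟨x, hLM (hN hx)⟩ hx
      exact congrArg Subtype.val this
    · right
      refine le_antisymm hN fun x hx => ?_
      obtain ⟨x0, hx0, rfl⟩ := hx
      rw [← h] at hx0
      exact hx0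
  have hpair : ∀ g h, conjSub g L = conjSub h L ∨ Commuting (conjSub g L) (conjSub h L) := by
    intro g h
    set k := g⁻¹ * h with hk
    rcases hminL (L ⊓ conjSub k L) inf_le_left (fun y hy x hx => ⟨by
        have := hnorm 1 y hy x (by rw [conjSub_one]; exact hx.1)
        rwa [conjSub_one] at this, hnorm k y hy x hx.2⟩) with e | e
    · right
      have hc : Commuting L (conjSub k L) := fun a ha b hb => by
        have hmem : a * b * a⁻¹ * b⁻¹ ∈ L ⊓ conjSub k L := mem_inf.2 ⟨by
          rw [show a * b * a⁻¹ * b⁻¹ = a * (b * a⁻¹ * b⁻¹) by group]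
          refine mul_mem ha ?_
          have := hnorm 1 b (hgL k hb) a⁻¹ (by rw [conjSub_one]; exact inv_mem ha)
          rwa [conjSub_one] at this,
          mul_mem (hnorm k a (hLM ha) b hb) (inv_mem hb)⟩
        rw [e, mem_bot] at hmem
        rwa [mul_inv_eq_one, mul_inv_eq_iff_eq_mul] at hmem
      have := hc.conj g
      rwa [← conjSub_mul, hk, mul_inv_cancel_left] at this
    · left
      have hle : L ≤ conjSub k L := inf_eq_left.1 e
      have heq : L = conjSub k L := eq_of_le_of_card_ge hle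
        (card_map_of_injective (MulAut.conj k).injective).le
      have := congrArg (conjSub g) heq
      rwa [← conjSub_mul, hk, mul_inv_cancel_left] at this
  -- the conjugates generate
  set U := ⨆ g : G, conjSub g L
  have hUn : U.Normal := ⟨fun x hx y => by
    have hle : conjSub y U ≤ U := by
      rw [conjSub, Subgroup.map_iSup]
      refine iSup_le fun g => ?_
      rw [← conjSub, ← conjSub_mul]
      exact le_iSup (fun g => conjSub g L) _
    exact hle ⟨x, hx, rfl⟩⟩
  have hLne : L ≠ ⊥ := fun e => hL0ne ((map_eq_bot_iff_of_injective _ M.subtype_injective).1 e)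
  have hUM : U = M := (hmin U hUn (iSup_le hgL)).resolve_left fun e => hLne (le_bot_iff.1 (e ▸ by
    have := le_iSup (fun g => conjSub g L) 1
    rwa [conjSub_one] at this))
  have hnc : ¬ IsMulCommutative ↥L := by
    intro hc
    apply hns
    have hcomm : ∀ g h, Commuting (conjSub g L) (conjSub h L) := fun g h => by
      rcases hpair g h with e | e
      · rw [← e]
        exact Commuting.conj (fun a ha b hb => congrArg Subtype.val (hc.is_comm.comm ⟨a, ha⟩ ⟨b, hb⟩)) g
      · exact e
    refine Group.isSolvable_of_comm fun a b => Subtype.ext ?_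
    have h1 : ∀ g, M ≤ centralizer (conjSub g L : Set G) := fun g => hUM ▸ iSup_le fun h x hx =>
      mem_centralizer_iff.2 fun y hy => hcomm g h y hy x hx
    have h2 : M ≤ centralizer (M : Set G) := hUM ▸ iSup_le fun g x hx => mem_centralizer_iff.2 fun y hy =>
      ((mem_centralizer_iff.1 (h1 g (hUM ▸ hy)) x hx)).symm
    exact ((mem_centralizer_iff.1 (h2 a.2) b b.2)).symm
  haveI : IsSimpleGroup ↥L :=
    { exists_pair_ne := ((Subgroup.nontrivial_iff_ne_bot L).2 hLne).exists_pair_ne
      eq_bot_or_eq_top_of_normal := fun N hN => by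
        have hMn : M ≤ normalizer (N.map L.subtype : Set G) := hUM ▸ iSup_le fun g => by
          rcases hpair 1 g with e | e
          · rw [← e, conjSub_one]
            intro z hz
            refine mem_normalizer_fintype ?_
            rintro _ ⟨w, hw, rfl⟩
            exact ⟨⟨z, hz⟩ * w * ⟨z, hz⟩⁻¹, hN.conj_mem w hw _, rfl⟩
          · intro z hz
            refine mem_normalizer_fintype ?_
            rintro _ ⟨w, hw, rfl⟩
            refine ⟨w, hw, ?_⟩
            have := e (w : G) (by rw [conjSub_one]; exact w.2) z hz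
            show (w : G) = z * (w : G) * z⁻¹
            rw [← this, mul_inv_cancel_right]
        rcases hminL (N.map L.subtype) (map_subtype_le _) (fun y hy x hx => (mem_normalizer_iff.1 (hMn hy) x).1 hx) with e | e
        · exact .inl ((map_eq_bot_iff_of_injective _ L.subtype_injective).1 e)
        · exact .inr (eq_top_iff.2 fun x _ => by
            have hx : (x : G) ∈ N.map L.subtype := by rw [e]; exact x.2
            exact (mem_map_iff_mem L.subtype_injective).1 hx) }
  exact ⟨L, hLM, szLike_of_simple hnc (hB.subgroup L), hpair⟩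

/-- The two possible shapes of a group without solvable normal subgroups. -/
theorem factor_cases (hB : Bound G m) (hns : ¬ Group.IsSolvable G)
    (hrad : ∀ N : Subgroup G, N.Normal → Group.IsSolvable ↥N → N = ⊥) :
    (∃ L1 L2, TwoFactors G m L1 L2) ∨
      ∃ L : Subgroup G, L.Normal ∧ SzLike ↥L m ∧ centralizer (L : Set G) = ⊥ := by
  have hbelow : ∀ N : Subgroup G, N.Normal → N ≠ ⊥ → ∃ L : Subgroup G, L ≤ N ∧ SzLike ↥L m ∧
      ∀ g h : G, conjSub g L = conjSub h L ∨ Commuting (conjSub g L) (conjSub h L) := by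
    intro N hN hne
    obtain ⟨M, hM, hMne, hMN, hmin⟩ := Grp.exists_minimal_normal_le hne
    haveI := hM
    obtain ⟨L, hL, h1, h2⟩ := exists_simple_below hB (fun hs => hMne (hrad M hM hs)) hmin
    exact ⟨L, hL.trans hMN, h1, h2⟩
  have hsz : ∀ {L : Subgroup G}, SzLike ↥L m → ∀ g, SzLike ↥(conjSub g L) m := fun h g =>
    h.congr ((equivMapOfInjective _ (MulAut.conj g).toMonoidHom (MulAut.conj g).injective).symm)
  have hnot : ∀ {L : Subgroup G}, SzLike ↥L m → ¬ Commuting L L := fun h hc =>
    h.not_comm ⟨⟨fun a b => Subtype.ext (hc _ a.2 _ b.2)⟩⟩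
  have hcent : ∀ {A B : Subgroup G}, SzLike ↥A m → SzLike ↥B m → Commuting A B →
      (∀ g, conjSub g A = A ∨ conjSub g A = B) → (∀ g, conjSub g B = A ∨ conjSub g B = B) →
      ∀ x : G, (∀ a ∈ A, a * x = x * a) → (∀ a ∈ B, a * x = x * a) → x = 1 := by
    intro A B hA hB' hAB cA cB x hxA hxB
    set C := centralizer (A : Set G) ⊓ centralizer (B : Set G)
    have hCn : C.Normal := ⟨fun y hy g => by
      have key : ∀ {D : Subgroup G}, (conjSub g⁻¹ D = A ∨ conjSub g⁻¹ D = B) →
          g * y * g⁻¹ ∈ centralizer (D : Set G) := fun {D} hD => mem_centralizer_iff.2 fun d hd => by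
        have hd' : g⁻¹ * d * g ∈ conjSub g⁻¹ D := ⟨d, hd, by simp⟩
        have e : g⁻¹ * d * g * y = y * (g⁻¹ * d * g) := by
          rcases hD with e | e <;> rw [e] at hd'
          · exact mem_centralizer_iff.1 hy.1 _ hd'
          · exact mem_centralizer_iff.1 hy.2 _ hd'
        calc d * (g * y * g⁻¹) = g * (g⁻¹ * d * g * y) * g⁻¹ := by group
          _ = g * (y * (g⁻¹ * d * g)) * g⁻¹ := by rw [e]
          _ = _ := by group
      exact ⟨key (cA _), key (cB _)⟩⟩
    by_contra hx1
    obtain ⟨L3, hL3, h3, -⟩ := hbelow C hCn fun e => hx1 ((Subgroup.eq_bot_iff_forall _).1 e x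
      ⟨mem_centralizer_iff.2 hxA, mem_centralizer_iff.2 hxB⟩)
    exact no_three_commuting hB hA hB' h3 hAB (fun a ha c hc => mem_centralizer_iff.1 (hL3 hc).1 a ha)
      fun b hb c hc => mem_centralizer_iff.1 (hL3 hc).2 b hb
  have hGne : (⊤ : Subgroup G) ≠ ⊥ := fun e => hns (by
    haveI : Subsingleton G := ⟨fun a b => by
      rw [(Subgroup.eq_bot_iff_forall _).1 e a trivial, (Subgroup.eq_bot_iff_forall _).1 e b trivial]⟩
    exact Group.isSolvable_of_comm fun a b => Subsingleton.elim _ _)
  obtain ⟨L, -, hL, hpair⟩ := hbelow ⊤ inferInstance hGne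
  by_cases hnorm : ∀ g, conjSub g L = L
  · have hLn : L.Normal := ⟨fun x hx g => by rw [← hnorm g]; exact ⟨x, hx, rfl⟩⟩
    by_cases hC : centralizer (L : Set G) = ⊥
    · exact .inr ⟨L, hLn, hL, hC⟩
    obtain ⟨L2, hL2C, hL2, hpair2⟩ := hbelow (centralizer (L : Set G)) inferInstance hC
    have hc12 : Commuting L L2 := fun a ha b hb => mem_centralizer_iff.1 (hL2C hb) a ha
    have hnorm2 : ∀ g, conjSub g L2 = L2 := fun g => by
      rcases hpair2 1 g with e | e
      · rw [conjSub_one] at e; exact e.symm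
      · rw [conjSub_one] at e
        refine (no_three_commuting hB hL hL2 (hsz hL2 g) hc12 ?_ e).elim
        rw [← hnorm g]
        exact hc12.conj g
    refine .inl ⟨L, L2, hL, hL2, hc12, fun e => ?_, fun g => .inl (hnorm g), fun g => .inr (hnorm2 g),
      hcent hL hL2 hc12 (fun g => .inl (hnorm g)) (fun g => .inr (hnorm2 g))⟩
    exact hnot hL (by nth_rw 2 [e]; exact hc12)
  push Not at hnorm
  obtain ⟨g0, hg0⟩ := hnorm
  set L2 := conjSub g0 L
  have hc12 : Commuting L L2 := by
    have := (hpair 1 g0).resolve_left fun e => hg0 (by rw [conjSub_one] at e; exact e.symm)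
    rwa [conjSub_one] at this
  have hall : ∀ g, conjSub g L = L ∨ conjSub g L = L2 := fun g => by
    rcases hpair 1 g with e | e
    · exact .inl (by rw [conjSub_one] at e; exact e.symm)
    rcases hpair g0 g with e' | e'
    · exact .inr e'.symm
    rw [conjSub_one] at e
    exact (no_three_commuting hB hL (hsz hL g0) (hsz hL g) hc12 e e').elim
  have hall2 : ∀ g, conjSub g L2 = L ∨ conjSub g L2 = L2 := fun g => by
    rw [← conjSub_mul]; exact hall _
  exact .inl ⟨L, L2, hL, hsz hL g0, hc12, fun e => hg0 e.symm, hall, hall2,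
    hcent hL (hsz hL g0) hc12 hall hall2⟩

end Cfsg.Agent.Recog.SzSquare
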