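import Cfsg.Agent.Lib.Recog.SzSquare.One
import Cfsg.Agent.Lib.Recog.SzSquare.Two

/-!
# `Sz(q) × Sz(q)` is determined by its element orders (S3492, S3533)
-/

set_option autoImplicit false
set_option linter.style.haveILetI false

open Subgroup

namespace Cfsg.Agent.Recog.SzSquare

universe u v

variable {F : Type v} [Field F] [Fintype F] {m : ℕ}

/-- The element orders of the direct square. -/
theorem spec_of_range {G : Type u} [Group G] [Finite G] (hS : Suz.SzField F m)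
    (h : Set.range (orderOf : G → ℕ) =
      Set.range (orderOf : ↥(Cfsg.Lie.Sz F (2 ^ (m + 1))) × ↥(Cfsg.Lie.Sz F (2 ^ (m + 1))) → ℕ)) : Spec G m where
  one_le := hS.one_le
  ord g := by
    obtain ⟨⟨a, b⟩, e⟩ := h ▸ Set.mem_range_self (f := (orderOf : G → ℕ)) g
    obtain ⟨i, hi⟩ := sz_orders hS ((Suz.szEquiv hS).symm a)
    obtain ⟨j, hj⟩ := sz_orders hS ((Suz.szEquiv hS).symm b)
    rw [MulEquiv.orderOf_eq] at hi hj
    rw [← e, Prod.orderOf_mk]
    by_cases hij : i = j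
    · obtain ⟨l, hl⟩ := (show ∀ i : Fin 4, ∃ l, i ≠ l by decide) i
      exact ⟨i, l, hl, (Nat.lcm_dvd hi (hij ▸ hj)).mul_right _⟩
    · exact ⟨i, j, hij, (Nat.lcm_dvd_mul _ _).trans (mul_dvd_mul hi hj)⟩
  occ i j hij := by
    obtain ⟨a, ha⟩ := sz_exists hS i
    obtain ⟨b, hb⟩ := sz_exists hS j
    obtain ⟨g, hg⟩ := h.symm ▸ Set.mem_range_self
      (f := (orderOf : ↥(Cfsg.Lie.Sz F (2 ^ (m + 1))) × ↥(Cfsg.Lie.Sz F (2 ^ (m + 1))) → ℕ))
      (Suz.szEquiv hS a, Suz.szEquiv hS b)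
    refine ⟨g, ?_⟩
    rw [hg, Prod.orderOf_mk, MulEquiv.orderOf_eq, MulEquiv.orderOf_eq, ha, hb,
      (cl_coprime hS.one_le hij).lcm_eq_mul]

/-- The direct square of a Suzuki group over a field of order `2 ^ (2 * m + 1)`, `m ≠ 2`, is recognised. -/
theorem recognition {G : Type u} [Group G] [Finite G] (hS : Suz.SzField F m) (hm2 : m ≠ 2)
    (h : Set.range (orderOf : G → ℕ) =
      Set.range (orderOf : ↥(Cfsg.Lie.Sz F (2 ^ (m + 1))) × ↥(Cfsg.Lie.Sz F (2 ^ (m + 1))) → ℕ)) :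
    Nonempty (G ≃* ↥(Cfsg.Lie.Sz F (2 ^ (m + 1))) × ↥(Cfsg.Lie.Sz F (2 ^ (m + 1)))) := by
  have hG := spec_of_range hS h
  obtain ⟨K, -, hK⟩ := (Set.toFinite {N : Subgroup G | N.Normal ∧ Group.IsSolvable ↥N}).exists_le_maximal
    (a := ⊥) ⟨inferInstance, inferInstance⟩
  obtain ⟨hKn, hKs⟩ := hK.1
  haveI := hKn
  have hns : ¬ Group.IsSolvable (G ⧸ K) := fun hq => by
    haveI := hKs
    haveI := hq
    exact hG.not_solvable (Group.isSolvable_of_ker_le_range K.subtype (QuotientGroup.mk' K)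
      (by rw [QuotientGroup.ker_mk', K.range_subtype]))
  have hrad : ∀ N : Subgroup (G ⧸ K), N.Normal → Group.IsSolvable ↥N → N = ⊥ := by
    intro N hN hs
    set M := N.comap (QuotientGroup.mk' K)
    have hKM : K ≤ M := fun x hx => by
      show QuotientGroup.mk' K x ∈ N
      rw [show QuotientGroup.mk' K x = 1 from (QuotientGroup.eq_one_iff x).2 hx]
      exact one_mem N
    haveI := hKs
    haveI := hs
    have hMs : Group.IsSolvable ↥M := Group.isSolvable_of_ker_le_range (Subgroup.inclusion hKM)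
      ((QuotientGroup.mk' K).subgroupComap N) (fun x hx => by
        have e := congrArg Subtype.val (MonoidHom.mem_ker.1 hx)
        exact ⟨⟨x, (QuotientGroup.eq_one_iff (x : G)).1 e⟩, Subtype.ext rfl⟩)
    have heq : M ≤ K := hK.2 ⟨hN.comap _, hMs⟩ hKM
    rw [← map_comap_eq_self_of_surjective (QuotientGroup.mk'_surjective K) N, Subgroup.map_eq_bot_iff,
      QuotientGroup.ker_mk']
    exact heq
  rcases factor_cases (hG.toBound.quotient K) hns hrad with ⟨L1, L2, h2⟩ | ⟨L, hLn, hL, hC⟩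
  · have hK1 := h2.ker_eq_bot hG.toBound hKs
    subst hK1
    let q : G ⧸ (⊥ : Subgroup G) ≃* G := QuotientGroup.quotientBot
    have hG' : Spec (G ⧸ (⊥ : Subgroup G)) m :=
      { hG.toBound.quotient ⊥ with
        occ := fun i j hij => by
          obtain ⟨g, hg⟩ := hG.occ i j hij
          exact ⟨q.symm g, by rw [MulEquiv.orderOf_eq, hg]⟩ }
    obtain ⟨e⟩ := h2.nonempty_iso hG' hm2 hS
    exact ⟨(q.symm.trans e).trans ((Suz.szEquiv hS).prodCongr (Suz.szEquiv hS))⟩
  · haveI := hLn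
    exact (one_false hG hKs hL hC).elim

end Cfsg.Agent.Recog.SzSquare
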