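import Cfsg.Agent.Lib.Recog.SzSquare.Factors
import Cfsg.Agent.Lib.Recog.SzSquare.SzModule

/-!
# A single non-abelian factor is impossible
-/

set_option autoImplicit false
set_option linter.style.haveILetI false

open Subgroup
open scoped commutatorElement

namespace Cfsg.Agent.Recog.SzSquare

universe u v

variable {L : Type v} [Group L] {m : ℕ}

/-- The Sylow subgroups for odd primes of a Suzuki group are cyclic. -/
theorem SzLike.isCyclic_of_isPGroup (h : SzLike L m) {p : ℕ} [Fact p.Prime] (hp : p ≠ 2) {P : Subgroup L}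
    (hP : IsPGroup p ↥P) : IsCyclic ↥P := by
  obtain ⟨F, i1, i2, k, hS, hd, ⟨e⟩⟩ := h
  obtain ⟨S, hle⟩ := (hP.map e.toMonoidHom).exists_le_sylow
  haveI := Suz.sylow_odd_cyclic hS hp S
  refine isCyclic_of_injective ((e.toMonoidHom.comp P.subtype).codRestrict (S : Subgroup ↥(Cfsg.Sz F k))
    fun x => hle ⟨x, x.2, rfl⟩) fun a b hab => ?_
  exact Subtype.ext (e.injective (congrArg Subtype.val hab))

variable {H : Type u} [Group H]

/-- An involution over `L` has fixed points on every section of odd order. -/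
theorem exists_fixed_section {L : Type v} [Group L] (hL : SzLike L m) {M : Subgroup H} [Finite H]
    (π : ↥M →* L) (hπ : Function.Surjective π) (hmin : ∀ N : Subgroup ↥M, N.Normal → N ≤ π.ker ∨ N = ⊤)
    {t : ↥M} (ht : t * t = 1) (ht1 : π t ≠ 1) {Γ : Type u} [Group Γ] [Finite Γ] (ψ : ↥M →* Γ) {W : Subgroup Γ}
    {r : ℕ} [hr : Fact r.Prime] (hr2 : r ≠ 2) (hW : IsPGroup r ↥W) (hW1 : W ≠ ⊥)
    (hn : ∀ h, ψ h ∈ normalizer (W : Set Γ)) :
    ∃ w ∈ W, orderOf w = r ∧ ψ t * w = w * ψ t := by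
  haveI := hL.simple
  set Z := zc W
  have hZn : ∀ h, ψ h ∈ normalizer (Z : Set Γ) := fun h => normalizer_le_zc W (hn h)
  letI : CommGroup ↥Z := { (inferInstance : Group ↥Z) with mul_comm := (zc_isMulCommutative W).is_comm.comm }
  let ρ : ↥M →* MulAut ↥Z :=
    Z.normalizerMonoidHom.comp (ψ.codRestrict (normalizer (Z : Set Γ)) hZn)
  have hρ : ∀ h (z : ↥Z), ((ρ h z : ↥Z) : Γ) = ψ h * z * (ψ h)⁻¹ := fun h z => rfl
  have hpos : fixd (ρ t) ≠ ⊥ := by
    intro hbot
    have hodd : Odd (Nat.card ↥Z) := by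
      obtain ⟨n, hn⟩ := IsPGroup.iff_card.1 (hW.to_le (zc_le W))
      rw [hn]; exact (hr.out.odd_of_ne_two hr2).pow
    have hc := fpf_inv_comm ρ hodd ht hbot
    rcases hmin ρ.ker inferInstance with hk | hk
    · have hcen : π t ∈ center L := mem_center_iff.2 fun y => by
        obtain ⟨x, rfl⟩ := hπ y
        have h1 : ⁅π t, π x⁆ = 1 := by rw [← map_commutatorElement]; exact hk (hc x)
        exact (commutatorElement_eq_one_iff_mul_comm.1 h1).symm
      rcases Subgroup.Normal.eq_bot_or_eq_top (inferInstance : (center L).Normal) with e | e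
      · exact ht1 ((Subgroup.eq_bot_iff_forall _).1 e _ hcen)
      · exact hL.not_comm ⟨⟨fun a b => mem_center_iff.1 (e ▸ mem_top b) a⟩⟩
    · refine zc_ne_bot hW hW1 ((Subgroup.eq_bot_iff_forall _).2 fun z hz => ?_)
      have : ρ t = 1 := show t ∈ ρ.ker by rw [hk]; trivial
      have h1 := (Subgroup.eq_bot_iff_forall _).1 hbot ⟨z, hz⟩ (by rw [mem_fixd, this]; rfl)
      exact congrArg Subtype.val h1
  obtain ⟨v, hv, hvr⟩ := exists_order_mem (((hW.to_le (zc_le W))).to_subgroup (fixd (ρ t))) hpos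
  refine ⟨v, zc_le W v.2, by rw [Subgroup.orderOf_coe, hvr], ?_⟩
  have e := congrArg Subtype.val (mem_fixd.1 hv)
  rw [hρ] at e
  exact mul_inv_eq_iff_eq_mul.1 e

/-- A Frattini argument for conjugate subgroups. -/
theorem exists_mem_normalizer [Finite H] {A B : Subgroup H} {g : H}
    (hconj : ∃ c ∈ B, ∀ x ∈ A, c * (g * x * g⁻¹) * c⁻¹ ∈ A) : ∃ c ∈ B, c * g ∈ normalizer (A : Set H) := by
  obtain ⟨c, hc, h⟩ := hconj
  refine ⟨c, hc, mem_normalizer_fintype fun x hx => ?_⟩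
  have e : c * g * x * (c * g)⁻¹ = c * (g * x * g⁻¹) * c⁻¹ := by group
  show c * g * x * (c * g)⁻¹ ∈ A
  rw [e]; exact h x hx

variable [Finite H]

/-- The core of the argument: a group over a single Suzuki group, with solvable kernel. -/
theorem one_core (hB : Bound H m) {p : Fin 4 → ℕ} (hp : FourPrimes H p) (hpd : ∀ i, p i ∣ cl m i)
    {L : Type v} [Group L] (hL : SzLike L m) (π : H →* L) (hπ : Function.Surjective π)
    (hs : Group.IsSolvable ↥π.ker) : False := by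
  classical
  haveI : Finite L := Finite.of_surjective π hπ
  haveI hprime : ∀ i, Fact (p i).Prime := fun i => ⟨hp.prime i⟩
  set K := π.ker
  haveI := hs
  -- two commuting elements of distinct classes cannot both be outside `K`
  have hout : ∀ {x y : H} {i j : Fin 4}, orderOf x = p i → orderOf y = p j → x * y = y * x → x ∉ K → y ∉ K →
      i = j := by
    intro x y i j hx hy hxy hxK hyK
    by_contra hij
    have hx' : orderOf (π x) = p i := orderOf_eq_prime (by rw [← map_pow, ← hx, pow_orderOf_eq_one, map_one]) hxK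
    have hy' : orderOf (π y) = p j := orderOf_eq_prime (by rw [← map_pow, ← hy, pow_orderOf_eq_one, map_one]) hyK
    obtain ⟨a, ha⟩ := hL.orders (π x * π y)
    have hd := (mul_dvd_orderOf (hp.prime i) (hp.prime j) (hp.inj.ne hij) hx' hy'
      (by rw [← map_mul, hxy, map_mul])).trans ha
    exact hij ((cl_eq_of_dvd hB.one_le (hp.prime i) (hpd i) ((dvd_mul_right _ _).trans hd)).trans
      (cl_eq_of_dvd hB.one_le (hp.prime j) (hpd j) ((dvd_mul_left _ _).trans hd)).symm)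
  have hmemK : ∀ {x : H} {i : Fin 4}, orderOf x = p i → x ∈ K → p i ∣ Nat.card K := fun hx hxK =>
    hx ▸ K.orderOf_dvd_natCard hxK
  by_cases hmiss : ∃ z : Fin 4, z ≠ 0 ∧ ¬ p z ∣ Nat.card K
  · obtain ⟨z, hz0, hzK⟩ := hmiss
    have hz2 : p z ≠ 2 := fun e => hz0 (hp.inj (e.trans hp.two.symm))
    -- subgroups of order `p z` are conjugate
    obtain ⟨P⟩ : Nonempty (Sylow (p z) H) := inferInstance
    have hinj : ∀ x ∈ (P : Subgroup H), π x = 1 → x = 1 := fun x hx e => by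
      obtain ⟨n, hn⟩ := IsPGroup.iff_orderOf.1 P.isPGroup' ⟨x, hx⟩
      rw [Subgroup.orderOf_mk] at hn
      rcases Nat.eq_zero_or_pos n with rfl | hn0
      · rw [pow_zero] at hn; exact orderOf_eq_one_iff.1 hn
      · exact absurd ((hn ▸ dvd_pow_self (p z) hn0.ne').trans (K.orderOf_dvd_natCard (show x ∈ K from e))) hzK
    have hcyc : IsCyclic ↥(P : Subgroup H) := by
      haveI := hL.isCyclic_of_isPGroup hz2 (P.isPGroup'.map π)
      refine isCyclic_of_injective ((π.comp (P : Subgroup H).subtype).codRestrict ((P : Subgroup H).map π)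
        fun x => mem_map_of_mem π x.2) ((injective_iff_map_eq_one _).2 fun x e => ?_)
      exact Subtype.ext (hinj x x.2 (congrArg Subtype.val e))
    have hnot : ∀ {x : H}, orderOf x = p z → x ∉ K := fun hx hxK => hzK (hmemK hx hxK)
    have hconj : ∀ x : H, orderOf x = p z → ∃ c : H, c * x * c⁻¹ ∈ (P : Subgroup H) := fun x hx => by
      obtain ⟨Q, hQ⟩ := (IsPGroup.of_card (p := p z) (n := 1) (G := ↥(zpowers x))
        (by rw [Nat.card_zpowers, hx, pow_one])).exists_le_sylow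
      obtain ⟨c, hc⟩ := MulAction.exists_smul_eq H Q P
      refine ⟨c, ?_⟩
      rw [← hc, Sylow.coe_subgroup_smul, ← Grp.map_conj_eq_smul]
      exact mem_map_of_mem _ (hQ (mem_zpowers x))
    obtain ⟨j0, hj0⟩ : ∃ j : Fin 4, z ≠ j := ⟨0, hz0⟩
    obtain ⟨g0, hg0⟩ := hp.pairs z j0 hj0
    obtain ⟨x0, -, hx0, -, -⟩ := exists_commuting hg0
    obtain ⟨c0, hc0⟩ := hconj x0 hx0
    set u := c0 * x0 * c0⁻¹
    have hu : orderOf u = p z := by rw [orderOf_conj, hx0]
    set C := K ⊓ centralizer ({u} : Set H)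
    haveI : Group.IsSolvable ↥C := Grp.isSolvable_of_le inf_le_left hs
    have hother : ∀ j, z ≠ j → ∃ y ∈ C, orderOf y = p j := by
      intro j hj
      obtain ⟨g, hg⟩ := hp.pairs z j hj
      obtain ⟨x, y, hx, hy, hxy⟩ := exists_commuting hg
      obtain ⟨c, hc⟩ := hconj x hx
      have he : zpowers (⟨c * x * c⁻¹, hc⟩ : ↥(P : Subgroup H)) = zpowers ⟨u, hc0⟩ :=
        Cfsg.Agent.S3977.cyclic_subgroup_eq (by
          rw [Nat.card_zpowers, Nat.card_zpowers, Subgroup.orderOf_mk, Subgroup.orderOf_mk, orderOf_conj, hx, hu])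
      obtain ⟨n, hn⟩ := mem_zpowers_iff.1 (he ▸ mem_zpowers (⟨u, hc0⟩ : ↥(P : Subgroup H)))
      have hn' : (c * x * c⁻¹) ^ n = u := by simpa using congrArg Subtype.val hn
      have hyu : Commute (c * y * c⁻¹) u := hn' ▸ ((show Commute (c * y * c⁻¹) (c * x * c⁻¹) from
        (conj_commute c hxy).symm).zpow_right n)
      refine ⟨c * y * c⁻¹, ⟨?_, mem_centralizer_singleton_iff.2 hyu.eq⟩, by rw [orderOf_conj, hy]⟩
      by_contra hyK
      exact hj (hout hu (by rw [orderOf_conj, hy]) hyu.eq.symm (hnot hu) hyK)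
    obtain ⟨a, b, c, hza, hzb, hzc, hab, hac, hbc⟩ :=
      (show ∀ z : Fin 4, ∃ a b c : Fin 4, z ≠ a ∧ z ≠ b ∧ z ≠ c ∧ a ≠ b ∧ a ≠ c ∧ b ≠ c by decide) z
    have hno : ∀ {a b : Fin 4}, z ≠ a → z ≠ b → a ≠ b → ∀ g : ↥C, ¬ p a * p b ∣ orderOf g := by
      intro a b hza hzb hab g hg
      rw [← Subgroup.orderOf_coe] at hg
      have hug : Commute u (g : H) := (mem_centralizer_singleton_iff.1 g.2.2).symm
      obtain ⟨i, hi⟩ := exists_pow_orderOf (orderOf_pos (g : H)) (dvd_trans (dvd_mul_right _ _) hg)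
      obtain ⟨j, hj⟩ := exists_pow_orderOf (orderOf_pos (g : H)) (dvd_trans (dvd_mul_left _ _) hg)
      exact (hp.tri z a b hza hzb hab).false (hp.prime z) (hp.prime a) (hp.prime b) (hp.inj.ne hza)
        (hp.inj.ne hzb) (hp.inj.ne hab) hu hi hj (hug.pow_right i).eq (hug.pow_right j).eq
        ((Commute.refl (g : H)).pow_pow i j).eq
    have hd : ∀ j, z ≠ j → p j ∣ Nat.card C := fun j hj => by
      obtain ⟨y, hy, hyo⟩ := hother j hj
      exact hyo ▸ C.orderOf_dvd_natCard hy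
    exact no_three (G := ↥C) (hp.prime a) (hp.prime b) (hp.prime c) (hp.inj.ne hab) (hp.inj.ne hac) (hp.inj.ne hbc)
      (hd a hza) (hd b hzb) (hd c hzc) (hno hza hzb hab) (hno hza hzc hac) (hno hzb hzc hbc)
  push Not at hmiss
  -- a Hall subgroup of the kernel for the three odd primes
  set S : Finset ℕ := {p 1, p 2, p 3}
  have hS : ∀ {t : ℕ}, t ∈ S → ∃ a : Fin 4, a ≠ 0 ∧ t = p a := fun ht => by
    simp only [S, Finset.mem_insert, Finset.mem_singleton] at ht
    rcases ht with e | e | e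
    exacts [⟨1, by decide, e⟩, ⟨2, by decide, e⟩, ⟨3, by decide, e⟩]
  have hS' : ∀ {a : Fin 4}, a ≠ 0 → p a ∈ S := fun {a} ha => by
    fin_cases a <;> simp [S] at ha ⊢
  obtain ⟨T0, hT0, hT0c⟩ := exists_hallSub (G := ↥K) S
  set T := T0.map K.subtype
  have hTK : T ≤ K := map_subtype_le _
  haveI : Group.IsSolvable ↥T := Grp.isSolvable_of_le hTK hs
  have hTp : ∀ t : ℕ, t.Prime → t ∣ Nat.card T → ∃ a : Fin 4, a ≠ 0 ∧ t = p a := fun t ht hd =>
    hS (hT0 t ht (by rwa [card_map_of_injective K.subtype_injective] at hd))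
  have helem : ∀ a : Fin 4, a ≠ 0 → ∃ x ∈ T, orderOf x = p a := fun a ha => by
    obtain ⟨x, hx⟩ := exists_prime_orderOf_dvd_card' (p a) (hmiss a ha)
    obtain ⟨c, hc⟩ := hT0c (zpowers x) fun t ht hd => by
      rw [Nat.card_zpowers, hx] at hd
      rw [(Nat.prime_dvd_prime_iff_eq ht (hp.prime a)).1 hd]
      exact hS' ha
    exact ⟨_, mem_map_of_mem _ (hc x (mem_zpowers x)), by
      rw [Subgroup.coe_subtype, Subgroup.orderOf_coe, orderOf_conj, hx]⟩
  have hTn : ∀ g : H, ∃ c ∈ K, c * g ∈ normalizer (T : Set H) := fun g => by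
    refine exists_mem_normalizer ?_
    have hgK : ∀ x ∈ T, g * x * g⁻¹ ∈ K := fun x hx => (inferInstance : K.Normal).conj_mem x (hTK hx) g
    obtain ⟨c, hc⟩ := hT0c ((T.map (MulAut.conj g).toMonoidHom).subgroupOf K) fun t ht hd => by
      rw [Nat.card_congr (subgroupOfEquivOfLe (show T.map (MulAut.conj g).toMonoidHom ≤ K by
        rintro _ ⟨x, hx, rfl⟩; exact hgK x hx)).toEquiv, card_map_of_injective (MulAut.conj g).injective,
        card_map_of_injective K.subtype_injective] at hd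
      exact hT0 t ht hd
    exact ⟨c, c.2, fun x hx => ⟨_, hc ⟨g * x * g⁻¹, hgK x hx⟩ ⟨x, hx, rfl⟩, rfl⟩⟩
  have hTne : T ≠ ⊥ := fun e => by
    obtain ⟨x, hx, hxo⟩ := helem 1 (by decide)
    rw [e, mem_bot] at hx
    rw [hx, orderOf_one] at hxo
    exact (hp.prime 1).one_lt.ne hxo
  obtain ⟨t0, ht0, hA1⟩ := exists_OP_ne_bot hTne
  haveI := Fact.mk ht0
  obtain ⟨a, ha0, rfl⟩ := hTp t0 ht0 (OP_dvd_card hA1)
  set A := OP (p a) T
  have hAT : A ≤ T := OP_le _ T
  have hTA : normalizer (T : Set H) ≤ normalizer (A : Set H) := Grp.FlavellPair.normalizer_le_map_char T _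
  -- the quotient by the core
  set A' := A.subgroupOf (normalizer (A : Set H))
  haveI : A'.Normal := (normal_subgroupOf_iff_le_normalizer le_normalizer).2 le_rfl
  let φ : ↥(normalizer (A : Set H)) →* ↥(normalizer (A : Set H)) ⧸ A' := QuotientGroup.mk' A'
  have hTN : T ≤ normalizer (A : Set H) := le_normalizer_OP _ T
  set Tb := (T.subgroupOf (normalizer (A : Set H))).map φ
  haveI : Group.IsSolvable ↥(T.subgroupOf (normalizer (A : Set H))) := Group.isSolvable_of_isSolvable_injective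
    (f := (subgroupOfEquivOfLe hTN).toMonoidHom) (subgroupOfEquivOfLe hTN).injective
  haveI : Group.IsSolvable ↥Tb := Group.isSolvable_of_surjective (MonoidHom.subgroupMap_surjective φ _)
  have hTb : Tb ≠ ⊥ := fun e => by
    obtain ⟨b, hb0, hba⟩ := (show ∀ a : Fin 4, ∃ b : Fin 4, b ≠ 0 ∧ b ≠ a by decide) a
    obtain ⟨x, hx, hxo⟩ := helem b hb0
    have h1 : φ ⟨x, hTN hx⟩ = 1 :=
      (Subgroup.eq_bot_iff_forall _).1 e _ (mem_map_of_mem φ (show (⟨x, hTN hx⟩ : ↥(normalizer (A : Set H))) ∈ T.subgroupOf _ from hx))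
    have hxA : x ∈ A := by
      have h2 : (⟨x, hTN hx⟩ : ↥(normalizer (A : Set H))) ∈ A' := (QuotientGroup.eq_one_iff _).1 h1
      exact h2
    exact hba (hp.inj (eq_of_dvd_prime_pow_card (OP_isPGroup _ T) (hp.prime a) (hp.prime b)
      (hxo ▸ A.orderOf_dvd_natCard hxA)))
  obtain ⟨t1, ht1, hR1⟩ := exists_OP_ne_bot hTb
  haveI := Fact.mk ht1
  have ht1T : t1 ∣ Nat.card T := (OP_dvd_card hR1).trans ((card_map_dvd (f := φ) _).trans
    (Nat.card_congr (subgroupOfEquivOfLe hTN).toEquiv).dvd)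
  obtain ⟨b, hb0, rfl⟩ := hTp t1 ht1 ht1T
  set R := OP (p b) Tb
  have hab : a ≠ b := by
    rintro rfl
    set X := (R.comap φ).map (normalizer (A : Set H)).subtype
    have hXT : X ≤ T := by
      rintro _ ⟨x, hx, rfl⟩
      obtain ⟨y, hy, he⟩ := OP_le _ Tb hx
      have hm : y⁻¹ * x ∈ A' := QuotientGroup.eq.1 he
      have := mul_mem (show (y : H) ∈ T from hy) (hAT hm)
      simpa using this
    have hXn : T ≤ normalizer (X : Set H) := fun g hg => by
      refine mem_normalizer_fintype ?_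
      rintro _ ⟨x, hx, rfl⟩
      refine ⟨⟨g, hTN hg⟩ * x * ⟨g, hTN hg⟩⁻¹, ?_, rfl⟩
      show φ _ ∈ R
      rw [map_mul, map_mul, map_inv]
      exact conj_mem_OP (mem_map_of_mem φ (show (⟨g, hTN hg⟩ : ↥(normalizer (A : Set H))) ∈ T.subgroupOf _ from hg)) hx
    have hXp : IsPGroup (p a) ↥X := by
      refine IsPGroup.map ?_ _
      exact (OP_isPGroup _ Tb).comap_of_ker_isPGroup φ (by
        rw [QuotientGroup.ker_mk']
        exact (OP_isPGroup (p a) T).comap_subtype)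
    refine hR1 ((Subgroup.eq_bot_iff_forall _).2 fun y hy => ?_)
    obtain ⟨x, rfl⟩ := QuotientGroup.mk'_surjective A' y
    exact (QuotientGroup.eq_one_iff x).2 (le_OP hXT hXn hXp (mem_map_of_mem _ hy))
  obtain ⟨c, hc0, hca, hcb⟩ := (show ∀ a b : Fin 4, ∃ c : Fin 4, c ≠ 0 ∧ c ≠ a ∧ c ≠ b by decide) a b
  -- a Sylow subgroup of `T` for the third prime
  obtain ⟨P0, hP0, hP0c⟩ := exists_hallSub (G := ↥T) {p c}
  set P := P0.map T.subtype
  have hPT : P ≤ T := map_subtype_le _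
  have hPg : IsPGroup (p c) ↥P :=
    IsPGroup.of_card (n := (Nat.card ↥P).primeFactorsList.length) (Nat.eq_prime_pow_of_unique_prime_dvd
      Nat.card_pos.ne' fun {q} hq hd => by
        rw [card_map_of_injective T.subtype_injective] at hd
        simpa using hP0 q hq hd)
  have hP1 : P ≠ ⊥ := fun e => by
    obtain ⟨x, hx, hxo⟩ := helem c hc0
    obtain ⟨g, hg⟩ := hP0c (zpowers (⟨x, hx⟩ : ↥T)) fun t ht hd => by
      rw [Nat.card_zpowers, Subgroup.orderOf_mk, hxo] at hd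
      simp [(Nat.prime_dvd_prime_iff_eq ht (hp.prime c)).1 hd]
    have h1 : ((g * ⟨x, hx⟩ * g⁻¹ : ↥T) : H) = 1 :=
      (Subgroup.eq_bot_iff_forall _).1 e _ (mem_map_of_mem _ (hg _ (mem_zpowers _)))
    have h2 : orderOf ((g : H) * x * (g : H)⁻¹) = 1 := by rw [show (g : H) * x * (g : H)⁻¹ = 1 from h1, orderOf_one]
    rw [orderOf_conj, hxo] at h2
    exact (hp.prime c).one_lt.ne' h2
  set N2 := normalizer (T : Set H) ⊓ normalizer (P : Set H)
  have hN2 : ∀ g : H, ∃ c ∈ K, c * g ∈ N2 := fun g => by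
    obtain ⟨c1, hc1, hg1⟩ := hTn g
    set g' := c1 * g
    have hgT : ∀ x ∈ P, g' * x * g'⁻¹ ∈ T := fun x hx => Grp.mem_conj_normalizer hg1 (hPT hx)
    obtain ⟨c2, hc2, h2⟩ := exists_mem_normalizer (A := P) (B := T) (g := g') (by
      obtain ⟨d, hd⟩ := hP0c ((P.map (MulAut.conj g').toMonoidHom).subgroupOf T) fun t ht hd => by
        rw [Nat.card_congr (subgroupOfEquivOfLe (show P.map (MulAut.conj g').toMonoidHom ≤ T by
          rintro _ ⟨x, hx, rfl⟩; exact hgT x hx)).toEquiv, card_map_of_injective (MulAut.conj g').injective,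
          card_map_of_injective T.subtype_injective] at hd
        exact hP0 t ht hd
      exact ⟨d, d.2, fun x hx => ⟨_, hd ⟨g' * x * g'⁻¹, hgT x hx⟩ ⟨x, hx, rfl⟩, rfl⟩⟩)
    refine ⟨c2 * c1, mul_mem (hTK hc2) hc1, ?_⟩
    rw [mul_assoc]
    exact ⟨mul_mem (le_normalizer hc2) hg1, h2⟩
  -- a minimal cover of `L`
  obtain ⟨M, hM, hMmin⟩ := (Set.toFinite {U : Subgroup H | U ≤ N2 ∧ U.map π = ⊤}).exists_le_minimal
    (a := N2) ⟨le_rfl, eq_top_iff.2 fun y _ => by
      obtain ⟨g, rfl⟩ := hπ y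
      obtain ⟨c, hc, hcg⟩ := hN2 g
      exact ⟨c * g, hcg, by rw [map_mul, MonoidHom.mem_ker.1 hc, one_mul]⟩⟩
  set πM := π.comp M.subtype
  have hπM : Function.Surjective πM := fun y => by
    obtain ⟨x, hx, e⟩ := (show y ∈ M.map π by rw [hMmin.1.2]; trivial)
    exact ⟨⟨x, hx⟩, e⟩
  have hmin : ∀ N : Subgroup ↥M, N.Normal → N ≤ πM.ker ∨ N = ⊤ := fun N hN => by
    haveI := hL.simple
    rcases Subgroup.Normal.eq_bot_or_eq_top (Normal.map hN πM hπM) with e | e
    · exact .inl ((Subgroup.map_eq_bot_iff _).1 e)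
    · right
      have hle : N.map M.subtype ≤ M := map_subtype_le _
      have h2 := hMmin.2 ⟨hle.trans hMmin.1.1, by rw [Subgroup.map_map]; exact e⟩ hle
      exact eq_top_iff.2 fun x _ => (mem_map_iff_mem M.subtype_injective).1 (h2 x.2)
  -- an involution over an involution
  obtain ⟨y4, hy4⟩ := hL.exists_four
  obtain ⟨g4, hg4⟩ := hπM y4
  obtain ⟨e, w, hw, hge⟩ := Nat.exists_eq_two_pow_mul_odd (orderOf_pos g4).ne'
  obtain ⟨w', rfl⟩ := hw
  set g := g4 ^ (2 * w' + 1)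
  have hg : orderOf (πM g) = 4 := by
    rw [map_pow, hg4]
    rw [(show (orderOf y4).Coprime (2 * w' + 1) by
      rw [hy4, show (4 : ℕ) = 2 ^ 2 from rfl]
      exact Nat.Coprime.pow_left 2 (Nat.coprime_two_left.2 ⟨w', rfl⟩)).orderOf_pow, hy4]
  have hg44 : orderOf g = 4 := by
    have h1 : orderOf g ∣ 2 ^ e := orderOf_dvd_of_pow_eq_one (by
      rw [← pow_mul, mul_comm, ← hge, pow_orderOf_eq_one])
    have h2 : 4 ∣ orderOf g := hg ▸ orderOf_map_dvd πM g
    obtain ⟨i, -, hi⟩ := (Nat.dvd_prime_pow Nat.prime_two).1 h1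
    rw [hi] at h2 ⊢
    rcases Nat.lt_or_ge i 3 with h3 | h3
    · interval_cases i <;> omega
    · exact absurd ((Nat.pow_dvd_pow 2 h3).trans (dvd_of_eq (hi.symm.trans (Subgroup.orderOf_coe g).symm)))
        (hB.not_eight (g : H))
  set t := g * g
  have ht : t * t = 1 := by
    rw [show t * t = g ^ 4 by simp only [t, pow_succ, pow_zero, one_mul, mul_assoc], ← hg44, pow_orderOf_eq_one]
  have ht1' : πM t ≠ 1 := fun e => by
    rw [map_mul, ← pow_two] at e
    have := Nat.le_of_dvd two_pos (hg ▸ orderOf_dvd_of_pow_eq_one e)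
    omega
  have htord : orderOf (t : H) = 2 := by
    rw [Subgroup.orderOf_coe]
    exact orderOf_eq_prime (by rw [pow_two]; exact ht) fun e => ht1' (by rw [e, map_one])
  have hMT : ∀ h : ↥M, (h : H) ∈ normalizer (T : Set H) := fun h => (hMmin.1.1 h.2).1
  have hMA : ∀ h : ↥M, (h : H) ∈ normalizer (A : Set H) := fun h => hTA (hMT h)
  have hp2 : ∀ {x : Fin 4}, x ≠ 0 → p x ≠ 2 := fun hx e => hx (hp.inj (e.trans hp.two.symm))
  -- the three fixed points
  obtain ⟨xa, hxa, hxao, hxat⟩ := exists_fixed_section hL πM hπM hmin ht ht1' M.subtype (hp2 ha0)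
    (OP_isPGroup (p a) T) hA1 hMA
  obtain ⟨xc, hxc, hxco, hxct⟩ := exists_fixed_section hL πM hπM hmin ht ht1' M.subtype (hp2 hc0)
    hPg hP1 (fun h => (hMmin.1.1 h.2).2)
  let ψ : ↥M →* ↥(normalizer (A : Set H)) ⧸ A' :=
    φ.comp (M.subtype.codRestrict (normalizer (A : Set H)) hMA)
  have hRn : ∀ h, ψ h ∈ normalizer (R : Set (↥(normalizer (A : Set H)) ⧸ A')) := fun h => by
    refine Grp.FlavellPair.normalizer_le_map_char Tb _ (mem_normalizer_fintype ?_)
    rintro _ ⟨x, hx, rfl⟩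
    refine ⟨⟨h, hMA h⟩ * x * ⟨h, hMA h⟩⁻¹, ?_, by rw [map_mul, map_mul, map_inv]; rfl⟩
    show (h : H) * (x : H) * (h : H)⁻¹ ∈ T
    exact Grp.mem_conj_normalizer (hMT h) hx
  obtain ⟨xr, hxr, hxro, hxrt⟩ := exists_fixed_section hL πM hπM hmin ht ht1' ψ (hp2 hb0)
    (OP_isPGroup (p b) Tb) hR1 hRn
  obtain ⟨x, hxT, rfl⟩ := OP_le _ Tb hxr
  set Z := zpowers (t : H)
  have hZT : Z ≤ normalizer (T : Set H) := zpowers_le.2 (hMT t)
  have hZA : Z ≤ normalizer (A : Set H) := zpowers_le.2 (hMA t)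
  have hodd : ¬ 2 ∣ Nat.card T := fun hd => by
    obtain ⟨i, hi, he⟩ := hTp 2 Nat.prime_two hd
    exact hp2 hi he.symm
  have hinf : Z ⊓ T = ⊥ := Subgroup.inf_eq_bot_of_coprime (by
    rw [Nat.card_zpowers, htord]; exact Nat.prime_two.coprime_iff_not_dvd.2 hodd)
  obtain ⟨y, ⟨hyT, hyt⟩, hyA⟩ := Grp.exists_fixed_rep Z T A hZT hinf (by
      rw [Nat.card_zpowers, htord]
      exact Nat.prime_two.coprime_iff_not_dvd.2 fun hd => hodd (hd.trans (card_dvd_of_le hAT)))
    (Or.inr (Grp.isSolvable_of_le hAT inferInstance)) hAT hTN hZA (k := (x : H)) hxT (fun z hz => by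
      obtain ⟨i, rfl⟩ := mem_zpowers_iff.1 hz
      have e : Commute ((ψ t) ^ i) (φ x) := (show Commute (ψ t) (φ x) from hxrt).zpow_left i
      have e2 : φ ((M.subtype.codRestrict (normalizer (A : Set H)) hMA t) ^ i * x *
          ((M.subtype.codRestrict (normalizer (A : Set H)) hMA t) ^ i)⁻¹ * x⁻¹) = 1 := by
        rw [map_mul, map_mul, map_mul, map_inv, map_inv, map_zpow]
        show (ψ t) ^ i * φ x * ((ψ t) ^ i)⁻¹ * (φ x)⁻¹ = 1
        rw [e.eq, mul_inv_cancel_right, mul_inv_cancel]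
      have e3 := (QuotientGroup.eq_one_iff _).1 e2
      exact e3)
  have hyb : p b ∣ orderOf y := by
    have h1 : φ ⟨y, hTN hyT⟩ = φ x := (QuotientGroup.eq.2 (show x⁻¹ * ⟨y, hTN hyT⟩ ∈ A' from hyA)).symm
    have h2 := orderOf_map_dvd φ ⟨y, hTN hyT⟩
    rw [h1, hxro, Subgroup.orderOf_mk] at h2
    exact h2
  set C := T ⊓ centralizer ({(t : H)} : Set H)
  haveI : Group.IsSolvable ↥C := Grp.isSolvable_of_le inf_le_left inferInstance
  have hyC : y ∈ C := ⟨hyT, mem_centralizer_singleton_iff.2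
    (mem_centralizer_iff.1 hyt _ (mem_zpowers (t : H))).symm⟩
  have hno : ∀ {i j : Fin 4}, i ≠ 0 → j ≠ 0 → i ≠ j → ∀ g : ↥C, ¬ p i * p j ∣ orderOf g := by
    intro i j hi hj hij g hg
    rw [← Subgroup.orderOf_coe] at hg
    have htg : Commute (t : H) (g : H) := (mem_centralizer_singleton_iff.1 g.2.2).symm
    obtain ⟨n, hn⟩ := exists_pow_orderOf (orderOf_pos (g : H)) (dvd_trans (dvd_mul_right _ _) hg)
    obtain ⟨l, hl⟩ := exists_pow_orderOf (orderOf_pos (g : H)) (dvd_trans (dvd_mul_left _ _) hg)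
    exact (hp.tri 0 i j hi.symm hj.symm hij).false (hp.prime 0) (hp.prime i) (hp.prime j) (hp.inj.ne hi.symm)
      (hp.inj.ne hj.symm) (hp.inj.ne hij) (htord.trans hp.two.symm) hn hl (htg.pow_right n).eq (htg.pow_right l).eq
      ((Commute.refl (g : H)).pow_pow n l).eq
  exact no_three (G := ↥C) (hp.prime a) (hp.prime b) (hp.prime c) (hp.inj.ne hab) (hp.inj.ne hca.symm)
    (hp.inj.ne hcb.symm)
    (hxao ▸ C.orderOf_dvd_natCard ⟨hAT hxa, mem_centralizer_singleton_iff.2 hxat.symm⟩)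
    (hyb.trans (C.orderOf_dvd_natCard hyC))
    (hxco ▸ C.orderOf_dvd_natCard ⟨hPT hxc, mem_centralizer_singleton_iff.2 hxct.symm⟩)
    (hno ha0 hb0 hab) (hno ha0 hc0 hca.symm) (hno hb0 hc0 hcb.symm)

/-- A single factor is impossible. -/
theorem one_false {G : Type u} [Group G] [Finite G] (hS : Spec G m) {K : Subgroup G} [K.Normal]
    (hs : Group.IsSolvable ↥K) {L : Subgroup (G ⧸ K)} [L.Normal] (hL : SzLike ↥L m)
    (hC : centralizer (L : Set (G ⧸ K)) = ⊥) : False := by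
  set G0 := L.comap (QuotientGroup.mk' K)
  have hpow : ∀ g : G, g ^ (2 * m + 1) ∈ G0 := fun g => by
    set x := QuotientGroup.mk' K g
    obtain ⟨u, hu⟩ := hL.out (MulAut.conjNormal x)
    show QuotientGroup.mk' K (g ^ (2 * m + 1)) ∈ L
    rw [map_pow]
    have hz : (u : G ⧸ K)⁻¹ * x ^ (2 * m + 1) ∈ centralizer (L : Set (G ⧸ K)) := mem_centralizer_iff.2 fun a ha => by
      have e1 : x ^ (2 * m + 1) * a * (x ^ (2 * m + 1))⁻¹ = u * a * (u : G ⧸ K)⁻¹ := by
        rw [← MulAut.conjNormal_apply (H := L) (x ^ (2 * m + 1)) ⟨a, ha⟩, map_pow, ← hu]; rfl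
      generalize x ^ (2 * m + 1) = T at e1 ⊢
      generalize (u : G ⧸ K) = U at e1 ⊢
      calc a * (U⁻¹ * T) = U⁻¹ * (U * a * U⁻¹) * T := by group
        _ = U⁻¹ * (T * a * T⁻¹) * T := by rw [e1]
        _ = _ := by group
    rw [hC, mem_bot, inv_mul_eq_one] at hz
    exact hz ▸ u.2
  obtain ⟨p, hp⟩ := hS.exists_reps
  let π : ↥G0 →* ↥L := (QuotientGroup.mk' K).subgroupComap L
  have hπ : Function.Surjective π :=
    MonoidHom.subgroupComap_surjective_of_surjective (QuotientGroup.mk' K) L (QuotientGroup.mk'_surjective K)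
  have hker : π.ker ≤ K.subgroupOf G0 := fun x hx => by
    have := congrArg Subtype.val (MonoidHom.mem_ker.1 hx)
    exact (QuotientGroup.eq_one_iff (x : G)).1 this
  haveI : Group.IsSolvable ↥(K.subgroupOf G0) := Group.isSolvable_of_isSolvable_injective
    (f := (MonoidHom.codRestrict (G0.subtype.comp (K.subgroupOf G0).subtype) K fun x => x.2))
    (fun a b e => Subtype.ext (Subtype.ext (congrArg (fun z : ↥K => (z : G)) e)))
  refine one_core (hS.toBound.subgroup G0) (p := p) ?_ hp.dvd hL π hπ (Grp.isSolvable_of_le hker inferInstance)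
  refine ⟨hp.prime, hp.inj, hp.two, fun i j hij => ?_, fun i j k a b c =>
    ((hp.fourPrimes hS.toBound).tri i j k a b c).of_injective G0.subtype G0.subtype_injective⟩
  obtain ⟨g, hg⟩ := hp.pairs i j hij
  exact ⟨⟨g ^ (2 * m + 1), hpow g⟩, by rwa [Subgroup.orderOf_mk]⟩

end Cfsg.Agent.Recog.SzSquare
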