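import Cfsg.Agent.Lib.Recog.SzSquare.Arith
import Cfsg.Agent.Lib.Recog.SzSquare.Criterion

/-!
# Groups with the element orders of `Sz(q) × Sz(q)`
-/

set_option autoImplicit false

open Subgroup

namespace Cfsg.Agent.Recog.SzSquare

universe u v

/-- Every element order divides a product of two of the four classes. -/
structure Bound (G : Type u) [Group G] (m : ℕ) : Prop where
  one_le : 1 ≤ m
  ord : ∀ g : G, ∃ i j : Fin 4, i ≠ j ∧ orderOf g ∣ cl m i * cl m j

/-- The element orders of `Sz(q) × Sz(q)`. -/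
structure Spec (G : Type u) [Group G] (m : ℕ) : Prop extends Bound G m where
  occ : ∀ i j : Fin 4, i ≠ j → ∃ g : G, orderOf g = cl m i * cl m j

/-- A choice of primes of the four classes, surviving the degree of the field. -/
structure Reps (G : Type u) [Group G] (m : ℕ) (p : Fin 4 → ℕ) : Prop where
  prime : ∀ i, (p i).Prime
  dvd : ∀ i, p i ∣ cl m i
  inj : Function.Injective p
  two : p 0 = 2
  pairs : ∀ i j, i ≠ j → ∃ g : G, p i * p j ∣ orderOf (g ^ (2 * m + 1))

variable {G : Type u} [Group G] {m : ℕ}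

theorem Bound.of_injective {H : Type v} [Group H] (h : Bound G m) (f : H →* G) (hf : Function.Injective f) :
    Bound H m :=
  ⟨h.one_le, fun x => orderOf_injective f hf x ▸ h.ord (f x)⟩

theorem Bound.of_surjective {H : Type v} [Group H] (h : Bound G m) (f : G →* H) (hf : Function.Surjective f) :
    Bound H m :=
  ⟨h.one_le, fun x => by
    obtain ⟨g, rfl⟩ := hf x
    obtain ⟨i, j, hij, hd⟩ := h.ord g
    exact ⟨i, j, hij, (orderOf_map_dvd f g).trans hd⟩⟩

theorem Bound.subgroup (h : Bound G m) (K : Subgroup G) : Bound ↥K m :=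
  h.of_injective K.subtype K.subtype_injective

theorem Bound.quotient (h : Bound G m) (N : Subgroup G) [N.Normal] : Bound (G ⧸ N) m :=
  h.of_surjective (QuotientGroup.mk' N) (QuotientGroup.mk'_surjective N)

theorem Bound.cls (h : Bound G m) {t : ℕ} (ht : t.Prime) {g : G} (hd : t ∣ orderOf g) : ∃ i, t ∣ cl m i := by
  obtain ⟨i, j, -, hij⟩ := h.ord g
  rcases (Nat.Prime.dvd_mul ht).1 (hd.trans hij) with e | e
  exacts [⟨i, e⟩, ⟨j, e⟩]

theorem Bound.cls_card [Finite G] (h : Bound G m) {t : ℕ} (ht : t.Prime) (hd : t ∣ Nat.card G) :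
    ∃ i, t ∣ cl m i := by
  haveI := Fact.mk ht
  obtain ⟨g, hg⟩ := exists_prime_orderOf_dvd_card' t hd
  exact h.cls ht (g := g) (hg ▸ dvd_rfl)

theorem Bound.t3 (h : Bound G m) {a b c : ℕ} (ha : a.Prime) (hb : b.Prime) (hc : c.Prime) {i j k : Fin 4}
    (hij : i ≠ j) (hik : i ≠ k) (hjk : j ≠ k) (hai : a ∣ cl m i) (hbj : b ∣ cl m j) (hck : c ∣ cl m k) :
    T3 G a b c := fun g hg => by
  obtain ⟨x, y, -, hd⟩ := h.ord g
  have key : ∀ {t : ℕ} {l : Fin 4}, t.Prime → t ∣ a * b * c → t ∣ cl m l → l = x ∨ l = y := fun ht htd htl => by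
    rcases (Nat.Prime.dvd_mul ht).1 ((htd.trans hg).trans hd) with e | e
    exacts [.inl (cl_eq_of_dvd h.one_le ht htl e), .inr (cl_eq_of_dvd h.one_le ht htl e)]
  have k1 := key ha ((dvd_mul_right a b).mul_right c) hai
  have k2 := key hb ((dvd_mul_left b a).mul_right c) hbj
  have k3 := key hc (dvd_mul_left c _) hck
  rcases k1 with rfl | rfl <;> rcases k2 with rfl | rfl <;> rcases k3 with rfl | rfl <;>
    first
    | exact hij rfl
    | exact hik rfl
    | exact hjk rfl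

theorem Bound.not_eight (h : Bound G m) (g : G) : ¬ 8 ∣ orderOf g := fun h8 => by
  obtain ⟨i, j, hij, hd⟩ := h.ord g
  have key : ∀ {a b : Fin 4}, a ≠ 0 → (8 : ℕ) ∣ cl m b * cl m a → False := fun {a b} ha hdd => by
    have hcop : Nat.Coprime 8 (cl m a) := by
      rw [show (8 : ℕ) = 2 ^ 3 from rfl]
      exact Nat.Coprime.pow_left 3 (Nat.coprime_two_left.2 (cl_odd h.one_le ha))
    have hb := hcop.dvd_of_dvd_mul_right hdd
    by_cases hb0 : b = 0
    · subst hb0; rw [cl_zero] at hb; omega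
    · exact (Nat.not_even_iff_odd.2 (cl_odd h.one_le hb0)) (even_iff_two_dvd.2 (dvd_trans (by decide) hb))
  by_cases hj : j = 0
  · exact key (hj ▸ hij) (mul_comm (cl m i) _ ▸ h8.trans hd)
  · exact key hj (h8.trans hd)

theorem three_not_dvd_cl (m : ℕ) (i : Fin 4) : ¬ 3 ∣ cl m i := by
  have hmod : 2 ^ (2 * m + 1) % 3 = 2 := by
    rw [pow_succ, pow_mul, Nat.mul_mod, Nat.pow_mod]; simp
  have hBC : ¬ 3 ∣ cl m 2 * cl m 3 := by
    rw [cl_prod, Nat.dvd_iff_mod_eq_zero, Nat.add_mod, Nat.pow_mod, hmod]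
    decide
  fin_cases i
  · show ¬ 3 ∣ 4; decide
  · show ¬ 3 ∣ 2 ^ (2 * m + 1) - 1; generalize 2 ^ (2 * m + 1) = q at *; omega
  · exact fun e => hBC (e.mul_right _)
  · exact fun e => hBC (e.mul_left _)

theorem Bound.not_three [Finite G] (h : Bound G m) : ¬ 3 ∣ Nat.card G := fun e => by
  obtain ⟨i, hi⟩ := h.cls_card Nat.prime_three e
  exact three_not_dvd_cl m i hi

theorem Spec.exists_reps [Finite G] (h : Spec G m) : ∃ p, Reps G m p := by
  choose p hp hpd using fun i => exists_rep h.one_le i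
  have hdvd : ∀ i, p i ∣ cl m i := fun i => (hpd i).trans (Nat.div_dvd_of_dvd (Nat.gcd_dvd_left _ _))
  refine ⟨p, hp, hdvd, fun i j e => cl_eq_of_dvd h.one_le (hp i) (hdvd i) (e ▸ hdvd j), ?_, fun i j hij => ?_⟩
  · exact (Nat.prime_dvd_prime_iff_eq (hp 0) Nat.prime_two).1
      ((hp 0).dvd_of_dvd_pow (show p 0 ∣ 2 ^ 2 from hdvd 0))
  obtain ⟨g, hg⟩ := h.occ i j hij
  refine ⟨g, ?_⟩
  rw [orderOf_pow' g (by omega), hg]
  have hf : Nat.gcd (cl m i * cl m j) (2 * m + 1) = Nat.gcd (cl m i) (2 * m + 1) * Nat.gcd (cl m j) (2 * m + 1) := by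
    rw [Nat.gcd_comm, Nat.Coprime.gcd_mul _ (cl_coprime h.one_le hij), Nat.gcd_comm _ (cl m i),
      Nat.gcd_comm _ (cl m j)]
  rw [hf, ← Nat.div_mul_div_comm (Nat.gcd_dvd_left _ _) (Nat.gcd_dvd_left _ _)]
  exact mul_dvd_mul (hpd i) (hpd j)

theorem Reps.fourPrimes [Finite G] {p : Fin 4 → ℕ} (h : Reps G m p) (hB : Bound G m) : FourPrimes G p where
  prime := h.prime
  inj := h.inj
  two := h.two
  pairs i j hij := by
    obtain ⟨g, hg⟩ := h.pairs i j hij
    exact ⟨g, hg.trans (orderOf_pow_dvd _)⟩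
  tri i j k a b c := hB.t3 (h.prime i) (h.prime j) (h.prime k) a b c (h.dvd i) (h.dvd j) (h.dvd k)

theorem Spec.not_solvable [Finite G] (h : Spec G m) : ¬ Group.IsSolvable G := fun hs => by
  obtain ⟨p, hp⟩ := h.exists_reps
  haveI := hs
  exact (hp.fourPrimes h.toBound).false

end Cfsg.Agent.Recog.SzSquare
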