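import Cfsg.Agent.Lib.Recog.SzSquare.Cores

/-!
# Lucido's three primes lemma and two-rank of the Sylow subgroups
-/

set_option autoImplicit false
set_option linter.style.haveILetI false

open Subgroup
open scoped commutatorElement

namespace Cfsg.Agent.Recog.SzSquare

universe u

theorem mul_dvd_orderOf {G : Type u} [Group G] {a b : ℕ} (ha : a.Prime) (hb : b.Prime) (hab : a ≠ b) {x y : G}
    (hx : orderOf x = a) (hy : orderOf y = b) (h : x * y = y * x) : a * b ∣ orderOf (x * y) := by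
  rw [Commute.orderOf_mul_eq_mul_orderOf_of_coprime h (by rw [hx, hy]; exact (Nat.coprime_primes ha hb).2 hab),
    hx, hy]

theorem exists_commuting {G : Type u} [Group G] [Finite G] {a b : ℕ} {g : G} (h : a * b ∣ orderOf g) :
    ∃ x y : G, orderOf x = a ∧ orderOf y = b ∧ x * y = y * x := by
  obtain ⟨i, hi⟩ := exists_pow_orderOf (orderOf_pos g) (dvd_trans (dvd_mul_right a b) h)
  obtain ⟨j, hj⟩ := exists_pow_orderOf (orderOf_pos g) (dvd_trans (dvd_mul_left b a) h)
  exact ⟨g ^ i, g ^ j, hi, hj, by rw [← pow_add, ← pow_add, add_comm]⟩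

theorem conj_commute {G : Type u} [Group G] {x y : G} (c : G) (h : x * y = y * x) :
    c * x * c⁻¹ * (c * y * c⁻¹) = c * y * c⁻¹ * (c * x * c⁻¹) := by
  rw [show c * x * c⁻¹ * (c * y * c⁻¹) = c * (x * y) * c⁻¹ by group, h]; group

theorem orderOf_conj {G : Type u} [Group G] (c x : G) : orderOf (c * x * c⁻¹) = orderOf x :=
  (MulAut.conj c).orderOf_eq x

variable {G : Type u} [Group G] [Finite G]

theorem no_three_aux [Group.IsSolvable G] {a b c : ℕ} [Fact a.Prime] [Fact b.Prime] [Fact c.Prime]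
    (hab : a ≠ b) (hac : a ≠ c) (hbc : b ≠ c) {V : Subgroup G} (hV : IsPGroup a ↥V) (hV1 : V ≠ ⊥)
    {T : Subgroup G} (hT : T ≤ normalizer (V : Set G)) (hb : OP b T ≠ ⊥) {z : G} (hz : z ∈ T) (hzc : orderOf z = c)
    (h1 : ∀ g : G, ¬ a * b ∣ orderOf g) (h2 : ∀ g : G, ¬ a * c ∣ orderOf g) (h3 : ∀ g : G, ¬ b * c ∣ orderOf g) :
    False := by
  have hap : a.Prime := Fact.out
  have hbp : b.Prime := Fact.out
  have hcp : c.Prime := Fact.out
  have hfix : ∀ {q : ℕ}, q.Prime → a ≠ q → (∀ g : G, ¬ a * q ∣ orderOf g) → ∀ {y : G}, orderOf y = q →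
      V ⊓ centralizer ({y} : Set G) = ⊥ := by
    intro q hq hne hno y hy
    by_contra h
    obtain ⟨v, hv, hva⟩ := exists_order_mem (hV.to_le inf_le_left) h
    exact hno _ (mul_dvd_orderOf hap hq hne hva hy (mem_centralizer_singleton_iff.1 hv.2))
  set N := OP b T
  have hNT : N ≤ T := OP_le b T
  rcases unique_or_rankTwo (OP_isPGroup b T) hb with ⟨E, hEN, hE2, hEc, hE3⟩ | ⟨u, hu, hub, huniq, -⟩
  · obtain ⟨e, -, heb, he⟩ := exists_fixed_rankTwo hbp hE2 hEc hE3 hV1 ((hEN.trans hNT).trans hT) (fun hd => by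
      obtain ⟨k, hk⟩ := IsPGroup.iff_card.1 hV
      exact hab ((Nat.prime_dvd_prime_iff_eq hbp hap).1 (hbp.dvd_of_dvd_pow (hk ▸ hd))).symm)
    exact he (hfix hbp hab h1 heb)
  have hzn : z ∈ normalizer (zpowers u : Set G) := by
    refine mem_normalizer_fintype fun w hw => ?_
    obtain ⟨i, rfl⟩ := mem_zpowers_iff.1 hw
    rw [← conj_zpow]
    exact zpow_mem (huniq _ (conj_mem_OP hz hu) (by rw [orderOf_conj, hub])) i
  have hc := fpf_commutator_le (p := a) (q := b) (r := c) hab hac hbc hzc (Q := zpowers u)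
    (IsPGroup.of_card (n := 1) (by rw [Nat.card_zpowers, hub, pow_one])) (fun _ _ => inferInstance) hzn V hV
    (hT hz) ((zpowers_le.2 (hNT hu)).trans hT) (hfix hcp hac h2 hzc)
  have hm : ⁅u, z⁆ ∈ zpowers u := by
    rw [commutatorElement_def, mul_assoc, mul_assoc, ← mul_assoc z]
    exact mul_mem (mem_zpowers u) (Grp.mem_conj_normalizer hzn (inv_mem (mem_zpowers u)))
  have hne : ⁅u, z⁆ ≠ 1 := fun e => h3 _ (mul_dvd_orderOf hbp hcp hbc hub hzc (commutatorElement_eq_one_iff_mul_comm.1 e))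
  have hord : orderOf ⁅u, z⁆ = b := by
    have h := (zpowers u).orderOf_dvd_natCard hm
    rw [Nat.card_zpowers, hub] at h
    exact ((Nat.dvd_prime hbp).1 h).resolve_left fun e => hne (orderOf_eq_one_iff.1 e)
  obtain ⟨v, hv, hva⟩ := exists_order_mem hV hV1
  exact h1 _ (mul_dvd_orderOf hap hbp hab hva hord
    (mem_centralizer_iff.1 (hc (commutator_mem_commutator (mem_zpowers u) (mem_zpowers z))) v hv))

/-- Lucido: a solvable group has a product of two of three primes as an element order. -/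
theorem no_three [Group.IsSolvable G] {a b c : ℕ} (ha : a.Prime) (hb : b.Prime) (hc : c.Prime)
    (hab : a ≠ b) (hac : a ≠ c) (hbc : b ≠ c) (da : a ∣ Nat.card G) (db : b ∣ Nat.card G) (dc : c ∣ Nat.card G)
    (h1 : ∀ g : G, ¬ a * b ∣ orderOf g) (h2 : ∀ g : G, ¬ a * c ∣ orderOf g) (h3 : ∀ g : G, ¬ b * c ∣ orderOf g) :
    False := by
  haveI := Fact.mk ha
  haveI := Fact.mk hb
  haveI := Fact.mk hc
  obtain ⟨H, hH, hHc⟩ := exists_hallSub (G := G) {a, b, c}
  have mem : ∀ {q : ℕ}, q.Prime → q ∈ ({a, b, c} : Finset ℕ) → q ∣ Nat.card G → ∃ x ∈ H, orderOf x = q := by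
    intro q hq hqm hd
    haveI := Fact.mk hq
    obtain ⟨x, hx⟩ := exists_prime_orderOf_dvd_card' q hd
    obtain ⟨g, hg⟩ := hHc (zpowers x) fun r hr h => by
      rw [Nat.card_zpowers, hx] at h
      exact (Nat.prime_dvd_prime_iff_eq hr hq).1 h ▸ hqm
    exact ⟨_, hg x (mem_zpowers x), by rw [orderOf_conj, hx]⟩
  obtain ⟨x, hxH, hxa⟩ := mem ha (by simp) da
  obtain ⟨y, hyH, hyb⟩ := mem hb (by simp) db
  obtain ⟨z, hzH, hzc⟩ := mem hc (by simp) dc
  have hH1 : H ≠ ⊥ := fun e => by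
    rw [e, mem_bot] at hxH
    rw [hxH, orderOf_one] at hxa
    exact ha.ne_one hxa.symm
  obtain ⟨q, hq, hqne⟩ := exists_OP_ne_bot (T := H) hH1
  haveI := Fact.mk hq
  have key : ∀ {r s : ℕ} [Fact r.Prime] [Fact s.Prime], q ≠ r → q ≠ s → r ≠ s →
      ({a, b, c} : Finset ℕ) ⊆ {q, r, s} → r ∈ ({a, b, c} : Finset ℕ) → s ∈ ({a, b, c} : Finset ℕ) →
      ∀ {y z : G}, y ∈ H → z ∈ H → orderOf y = r → orderOf z = s →
      (∀ g : G, ¬ q * r ∣ orderOf g) → (∀ g : G, ¬ q * s ∣ orderOf g) → (∀ g : G, ¬ r * s ∣ orderOf g) → False := by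
    intro r s _ _ hqr hqs hrs hsub _ _ y z hyH hzH hy hz e1 e2 e3
    have hr : r.Prime := Fact.out
    have hs : s.Prime := Fact.out
    haveI : Group.IsSolvable ↥H := inferInstance
    obtain ⟨T, hT, hTc⟩ := exists_hallSub (G := ↥H) {r, s}
    have hin : ∀ {w : G} (hw : w ∈ H) {t : ℕ}, t.Prime → t ∈ ({r, s} : Finset ℕ) → orderOf w = t →
        ∃ w' ∈ T.map H.subtype, orderOf w' = t := by
      intro w hw t ht htm e
      obtain ⟨g, hg⟩ := hTc (zpowers (⟨w, hw⟩ : ↥H)) fun u hu h => by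
        rw [Nat.card_zpowers, Subgroup.orderOf_mk, e] at h
        exact (Nat.prime_dvd_prime_iff_eq hu ht).1 h ▸ htm
      exact ⟨_, mem_map_of_mem H.subtype (hg _ (mem_zpowers _)), by
        rw [show H.subtype (g * ⟨w, hw⟩ * g⁻¹) = (g : G) * w * (g : G)⁻¹ from rfl, orderOf_conj, e]⟩
    obtain ⟨y', hy', hyr⟩ := hin hyH hr (by simp) hy
    obtain ⟨z', hz', hzs⟩ := hin hzH hs (by simp) hz
    have hTH : T.map H.subtype ≤ H := map_subtype_le T
    have hT1 : T.map H.subtype ≠ ⊥ := fun e => by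
      rw [e, mem_bot] at hy'
      rw [hy', orderOf_one] at hyr
      exact hr.ne_one hyr.symm
    obtain ⟨t, ht, htne⟩ := exists_OP_ne_bot (T := T.map H.subtype) hT1
    haveI := Fact.mk ht
    have hd := OP_dvd_card htne
    rw [card_map_of_injective H.subtype_injective] at hd
    have htm := hT t ht hd
    rw [Finset.mem_insert, Finset.mem_singleton] at htm
    rcases htm with rfl | rfl
    · exact no_three_aux hqr hqs hrs (OP_isPGroup q H) hqne (hTH.trans (le_normalizer_OP q H)) htne hz' hzs e1 e2 e3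
    · exact no_three_aux hqs hqr hrs.symm (OP_isPGroup q H) hqne (hTH.trans (le_normalizer_OP q H)) htne hy' hyr
        e2 e1 (fun g => by rw [mul_comm]; exact e3 g)
  have hqm := hH q hq (OP_dvd_card hqne)
  rw [Finset.mem_insert, Finset.mem_insert, Finset.mem_singleton] at hqm
  rcases hqm with rfl | rfl | rfl
  · exact key hab hac hbc (by simp) (by simp) (by simp) hyH hzH hyb hzc h1 h2 h3
  · exact key hab.symm hbc hac (by intro w; simp; tauto) (by simp) (by simp) hxH hzH hxa hzc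
      (fun g => by rw [mul_comm]; exact h1 g) h3 h2
  · exact key hac.symm hbc.symm hab (by intro w; simp; tauto) (by simp) (by simp) hxH hyH hxa hyb
      (fun g => by rw [mul_comm]; exact h2 g) (fun g => by rw [mul_comm]; exact h3 g) h1

/-- A prime joined to three others without a triangle has two commuting subgroups of order `a`. -/
theorem exists_rankTwo [Group.IsSolvable G] {a b c d : ℕ} (ha : a.Prime) (hb : b.Prime) (hc : c.Prime) (hd : d.Prime)
    (hbc : b ≠ c) (hbd : b ≠ d) (hcd : c ≠ d) (hab : a ≠ b) (hac : a ≠ c) (had : a ≠ d)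
    (eb : ∃ g : G, a * b ∣ orderOf g) (ec : ∃ g : G, a * c ∣ orderOf g) (ed : ∃ g : G, a * d ∣ orderOf g)
    (t1 : T3 G a b c) (t2 : T3 G a b d) (t3 : T3 G a c d) : RankTwo a (⊤ : Subgroup G) := by
  haveI := Fact.mk ha
  obtain ⟨P⟩ : Nonempty (Sylow a G) := inferInstance
  obtain ⟨g0, hg0⟩ := eb
  obtain ⟨x0, -, hx0, -, -⟩ := exists_commuting hg0
  have hP1 : (P : Subgroup G) ≠ ⊥ := P.ne_bot_of_dvd_card (hx0 ▸ orderOf_dvd_natCard x0)
  refine (unique_or_rankTwo P.isPGroup' hP1).elim (fun h => h.mono le_top) ?_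
  rintro ⟨u, hu, hua, huniq, -⟩
  exfalso
  have key : ∀ {q : ℕ}, (∃ g : G, a * q ∣ orderOf g) → ∃ y ∈ centralizer ({u} : Set G), orderOf y = q := by
    rintro q ⟨g, hg⟩
    obtain ⟨x, y, hx, hy, hxy⟩ := exists_commuting hg
    obtain ⟨Q, hQ⟩ := (IsPGroup.of_card (p := a) (n := 1) (G := ↥(zpowers x))
      (by rw [Nat.card_zpowers, hx, pow_one])).exists_le_sylow
    obtain ⟨c, hc⟩ := MulAction.exists_smul_eq G Q P
    have hm : c * x * c⁻¹ ∈ (P : Subgroup G) := by
      rw [← hc, Sylow.coe_subgroup_smul, ← Grp.map_conj_eq_smul]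
      exact mem_map_of_mem _ (hQ (mem_zpowers x))
    have hz : zpowers (c * x * c⁻¹) = zpowers u := eq_of_le_of_card_ge
      (zpowers_le.2 (huniq _ hm (by rw [orderOf_conj, hx]))) (by rw [Nat.card_zpowers, Nat.card_zpowers, orderOf_conj, hx, hua])
    obtain ⟨i, hi⟩ := mem_zpowers_iff.1 (hz ▸ mem_zpowers u : u ∈ zpowers (c * x * c⁻¹))
    refine ⟨c * y * c⁻¹, mem_centralizer_singleton_iff.2 ?_, by rw [orderOf_conj, hy]⟩
    rw [← hi]
    exact ((show Commute (c * y * c⁻¹) (c * x * c⁻¹) from (conj_commute c hxy).symm).zpow_right i).eq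
  obtain ⟨yb, hyb, eb'⟩ := key ⟨g0, hg0⟩
  obtain ⟨yc, hyc, ec'⟩ := key ec
  obtain ⟨yd, hyd, ed'⟩ := key ed
  set C := centralizer ({u} : Set G)
  have hno : ∀ {q r : ℕ}, q.Prime → r.Prime → a ≠ q → a ≠ r → q ≠ r → T3 G a q r →
      ∀ g : ↥C, ¬ q * r ∣ orderOf g := by
    intro q r hq hr n1 n2 n3 ht g hg
    rw [← Subgroup.orderOf_coe] at hg
    have hug : Commute u (g : G) := (mem_centralizer_singleton_iff.1 g.2).symm
    obtain ⟨i, hi⟩ := exists_pow_orderOf (orderOf_pos (g : G)) (dvd_trans (dvd_mul_right q r) hg)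
    obtain ⟨j, hj⟩ := exists_pow_orderOf (orderOf_pos (g : G)) (dvd_trans (dvd_mul_left r q) hg)
    exact ht.false ha hq hr n1 n2 n3 hua hi hj (hug.pow_right i).eq (hug.pow_right j).eq
      ((Commute.refl (g : G)).pow_pow i j).eq
  exact no_three (G := ↥C) hb hc hd hbc hbd hcd (eb' ▸ C.orderOf_dvd_natCard hyb) (ec' ▸ C.orderOf_dvd_natCard hyc)
    (ed' ▸ C.orderOf_dvd_natCard hyd) (hno hb hc hab hac hbc t1) (hno hb hd hab had hbd t2) (hno hc hd hac had hcd t3)

end Cfsg.Agent.Recog.SzSquare
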