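import Cfsg.Agent.Lib.Recog.SzSquare.Triple

/-!
# A solvable group with four adjacent primes and two primes in its Fitting subgroup
-/

set_option autoImplicit false
set_option linter.style.haveILetI false

open Subgroup
open scoped commutatorElement

namespace Cfsg.Agent.Recog.SzSquare

universe u

variable {G : Type u} [Group G] [Finite G]

/-- An involution centralising one of the two odd parts and inverting the other is central modulo the latter. -/
theorem central_case {r s k : ℕ} [Fact r.Prime] [Fact s.Prime] (hr2 : r ≠ 2) (hs2 : s ≠ 2) (hk : k.Prime)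
    (hrs : r ≠ s) (hrk : r ≠ k) (hsk : s ≠ k) (hk2 : k ≠ 2) {R S : Subgroup G} [R.Normal] [S.Normal]
    (hR : IsPGroup r ↥R) (hS : IsPGroup s ↥S) (hRS : ∀ x ∈ R, ∀ y ∈ S, x * y = y * x)
    (hC : centralizer (R : Set G) ⊓ centralizer (S : Set G) ≤ R ⊔ S) (t3 : T3 G 2 r k)
    (hp : ∃ g : G, r * k ∣ orderOf g) {b : G} (hb : orderOf b = 2)
    (hbR : b ∈ centralizer (R : Set G)) (hbS : ∀ y ∈ S, b * y * b⁻¹ = y⁻¹) : False := by
  have hrp : r.Prime := Fact.out
  have hsp : s.Prime := Fact.out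
  have hbb : b * b = 1 := by rw [← pow_two, ← hb, pow_orderOf_eq_one]
  have hbi : b⁻¹ = b := inv_eq_of_mul_eq_one_right hbb
  have hkey : ∀ g : G, g * b * g⁻¹ * b ∈ S := by
    intro g
    set c := g * b * g⁻¹
    have hcR : c ∈ centralizer (R : Set G) := mem_centralizer_iff.2 fun x hx => by
      have := mem_centralizer_iff.1 hbR (g⁻¹ * x * g) (Normal.conj_mem' inferInstance x hx g)
      calc x * c = g * (g⁻¹ * x * g * b) * g⁻¹ := by simp [c, mul_assoc]
        _ = g * (b * (g⁻¹ * x * g)) * g⁻¹ := by rw [this]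
        _ = c * x := by simp [c, mul_assoc]
    have hcS : ∀ y ∈ S, c * y * c⁻¹ = y⁻¹ := fun y hy => by
      calc c * y * c⁻¹ = g * (b * (g⁻¹ * y * g) * b⁻¹) * g⁻¹ := by simp [c, mul_assoc]
        _ = g * (g⁻¹ * y * g)⁻¹ * g⁻¹ := by rw [hbS _ (Normal.conj_mem' inferInstance y hy g)]
        _ = y⁻¹ := by group
    have hz : c * b ∈ centralizer (R : Set G) ⊓ centralizer (S : Set G) := by
      refine ⟨mul_mem hcR hbR, mem_centralizer_iff.2 fun y hy => ?_⟩
      have : c * b * y * (c * b)⁻¹ = y := by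
        calc c * b * y * (c * b)⁻¹ = c * (b * y * b⁻¹) * c⁻¹ := by group
          _ = y := by rw [hbS y hy, hcS _ (inv_mem hy), inv_inv]
      exact (mul_inv_eq_iff_eq_mul.1 this).symm
    obtain ⟨x, hx, y, hy, hxy⟩ := mem_sup_of_normal_right.1 (hC hz)
    have h1 : b * (c * b) * b⁻¹ = (c * b)⁻¹ := by
      rw [mul_inv_rev, show c⁻¹ = c by simp [c, mul_assoc, hbi], hbi, mul_assoc, mul_assoc, hbb, mul_one]
    rw [← hxy, ← conj_mul, hbS y hy, show b * x * b⁻¹ = x by
      rw [← mem_centralizer_iff.1 hbR x hx, mul_inv_cancel_right], mul_inv_rev,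
      ← hRS x⁻¹ (inv_mem hx) y⁻¹ (inv_mem hy)] at h1
    have h2 : x * x = 1 := by
      conv_lhs => arg 1; rw [mul_right_cancel h1]
      exact inv_mul_cancel x
    have hx1 : x = 1 := by
      by_contra hne
      have h3 := R.orderOf_dvd_natCard hx
      rw [orderOf_eq_prime (show x ^ 2 = 1 by rw [pow_two, h2]) hne] at h3
      obtain ⟨n, hn⟩ := IsPGroup.iff_card.1 hR
      exact hr2 ((Nat.prime_dvd_prime_iff_eq Nat.prime_two hrp).1 (Nat.prime_two.dvd_of_dvd_pow (hn ▸ h3))).symm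
    rw [← hxy, hx1, one_mul]
    exact hy
  set f := QuotientGroup.mk' S
  have hcent : ∀ w : G, Commute (f b) (f w) := fun w => by
    have h1 : f (w * b * w⁻¹ * b) = 1 := (QuotientGroup.eq_one_iff _).2 (hkey w)
    rw [map_mul, map_mul, map_mul, map_inv, mul_eq_one_iff_eq_inv,
      show (f b)⁻¹ = f b by rw [← map_inv, hbi]] at h1
    exact (mul_inv_eq_iff_eq_mul.1 h1).symm
  have hord : ∀ {x : G} {q : ℕ}, q.Prime → q ≠ s → orderOf x = q → orderOf (f x) = q := by
    intro x q hq hne hx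
    refine ((Nat.dvd_prime hq).1 (hx ▸ orderOf_map_dvd f x)).resolve_left fun e => hne ?_
    have h3 := S.orderOf_dvd_natCard ((QuotientGroup.eq_one_iff x).1 (orderOf_eq_one_iff.1 e))
    obtain ⟨n, hn⟩ := IsPGroup.iff_card.1 hS
    exact (Nat.prime_dvd_prime_iff_eq hq hsp).1 (hq.dvd_of_dvd_pow (hn ▸ hx ▸ h3))
  obtain ⟨g, hg⟩ := hp
  obtain ⟨x, y, hx, hy, hxy⟩ := exists_commuting hg
  have hrky : orderOf (f (x * y)) = r * k := by
    rw [map_mul, Commute.orderOf_mul_eq_mul_orderOf_of_coprime (Commute.map hxy f) (by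
      rw [hord hrp hrs hx, hord hk hsk.symm hy]; exact (Nat.coprime_primes hrp hk).2 hrk),
      hord hrp hrs hx, hord hk hsk.symm hy]
  have htot : orderOf (f (b * (x * y))) = 2 * r * k := by
    rw [map_mul, (hcent _).orderOf_mul_eq_mul_orderOf_of_coprime (by
      rw [hrky, hord Nat.prime_two hs2.symm hb]
      exact Nat.Coprime.mul_right ((Nat.coprime_primes Nat.prime_two hrp).2 hr2.symm)
        ((Nat.coprime_primes Nat.prime_two hk).2 hk2.symm)), hrky, hord Nat.prime_two hs2.symm hb, mul_assoc]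
  exact t3 _ (htot ▸ orderOf_map_dvd f _)

/-- Two odd primes in the Fitting subgroup. -/
theorem two_odd {r s k : ℕ} [Fact r.Prime] [Fact s.Prime] (hr2 : r ≠ 2) (hs2 : s ≠ 2) (hk : k.Prime)
    (hrs : r ≠ s) (hrk : r ≠ k) (hsk : s ≠ k) (hk2 : k ≠ 2) {R S : Subgroup G} [R.Normal] [S.Normal]
    (hR : IsPGroup r ↥R) (hS : IsPGroup s ↥S) (hR1 : R ≠ ⊥) (hS1 : S ≠ ⊥)
    (hRS : ∀ x ∈ R, ∀ y ∈ S, x * y = y * x)
    (hC : centralizer (R : Set G) ⊓ centralizer (S : Set G) ≤ R ⊔ S)
    (hE : RankTwo 2 (⊤ : Subgroup G)) (t2rs : T3 G 2 r s) (t2rk : T3 G 2 r k) (t2sk : T3 G 2 s k)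
    (hprk : ∃ g : G, r * k ∣ orderOf g) (hpsk : ∃ g : G, s * k ∣ orderOf g) : False := by
  have hrp : r.Prime := Fact.out
  have hsp : s.Prime := Fact.out
  obtain ⟨E, -, hE2, hEc, hE3⟩ := hE
  have nR : ∀ g : G, g ∈ normalizer (R : Set G) := fun g => by
    rw [Subgroup.normalizer_eq_top]; exact mem_top g
  have nS : ∀ g : G, g ∈ normalizer (S : Set G) := fun g => by
    rw [Subgroup.normalizer_eq_top]; exact mem_top g
  have hdich : ∀ t : G, orderOf t = 2 →
      (∀ x ∈ R, t * x * t⁻¹ = x⁻¹) ∨ ∀ y ∈ S, t * y * t⁻¹ = y⁻¹ := by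
    intro t ht
    have htt : t * t = 1 := by rw [← pow_two, ← ht, pow_orderOf_eq_one]
    by_cases h1 : R ⊓ centralizer ({t} : Set G) = ⊥
    · exact Or.inl (inverts_of_fpf htt (nR t) h1)
    by_cases h2 : S ⊓ centralizer ({t} : Set G) = ⊥
    · exact Or.inr (inverts_of_fpf htt (nS t) h2)
    obtain ⟨x, hx, hxr⟩ := exists_order_mem (hR.to_le inf_le_left) h1
    obtain ⟨y, hy, hys⟩ := exists_order_mem (hS.to_le inf_le_left) h2
    exact (t2rs.false Nat.prime_two hrp hsp hr2.symm hs2.symm hrs ht hxr hys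
      (mem_centralizer_singleton_iff.1 hx.2).symm (mem_centralizer_singleton_iff.1 hy.2).symm (hRS x hx.1 y hy.1)).elim
  have two : ∀ {a : G}, a ∈ E → a ≠ 1 → orderOf a = 2 := fun ha h => orderOf_eq_prime (hE3 _ ha) h
  -- two inverters of the same part give a centraliser of it
  have pair : ∀ {a c : G} {N : Subgroup G}, (∀ x ∈ N, a * x * a⁻¹ = x⁻¹) → (∀ x ∈ N, c * x * c⁻¹ = x⁻¹) →
      a * c ∈ centralizer (N : Set G) := fun {a c N} ha hc => mem_centralizer_iff.2 fun x hx => by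
    have h : a * c * x * (a * c)⁻¹ = x := by
      calc a * c * x * (a * c)⁻¹ = a * (c * x * c⁻¹) * a⁻¹ := by group
        _ = x := by rw [hc x hx, ha _ (inv_mem hx), inv_inv]
    exact (mul_inv_eq_iff_eq_mul.1 h).symm
  -- an involution centralising `R` inverts `S`
  have other : ∀ {a : G} {N : Subgroup G} {q : ℕ}, q.Prime → q ≠ 2 → IsPGroup q ↥N → N ≠ ⊥ →
      a ∈ centralizer (N : Set G) → ¬ ∀ x ∈ N, a * x * a⁻¹ = x⁻¹ := by
    intro a N q hq hq2 hN hN1 ha hinv
    haveI := Fact.mk hq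
    obtain ⟨x, hx, hxq⟩ := exists_order_mem hN hN1
    have h1 := hinv x hx
    rw [← mem_centralizer_iff.1 ha x hx, mul_inv_cancel_right] at h1
    have h2 : x ^ 2 = 1 := by
      rw [pow_two]; nth_rewrite 1 [h1]; exact inv_mul_cancel x
    rw [← hxq] at hq2 hq
    exact hq2 ((Nat.prime_dvd_prime_iff_eq hq Nat.prime_two).1 (orderOf_dvd_of_pow_eq_one h2))
  have caseR : ∀ {a : G}, orderOf a = 2 → a ∈ centralizer (R : Set G) → False := fun {a} ha h =>
    central_case hr2 hs2 hk hrs hrk hsk hk2 hR hS hRS hC t2rk hprk ha h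
      ((hdich a ha).resolve_left (other hrp hr2 hR hR1 h))
  have caseS : ∀ {a : G}, orderOf a = 2 → a ∈ centralizer (S : Set G) → False := fun {a} ha h =>
    central_case hs2 hr2 hk hrs.symm hsk hrk hk2 hS hR (fun y hy x hx => (hRS x hx y hy).symm)
      (by rw [inf_comm, sup_comm]; exact hC) t2sk hpsk ha h ((hdich a ha).resolve_right (other hsp hs2 hS hS1 h))
  obtain ⟨a, haE, ha1⟩ : ∃ a ∈ E, a ≠ 1 := by
    by_contra h
    push Not at h
    rw [(eq_bot_iff_forall E).2 h, card_bot] at hE2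
    omega
  obtain ⟨c, hcE, hc1, hca⟩ : ∃ c ∈ E, c ≠ 1 ∧ c ≠ a := by
    by_contra h
    push Not at h
    have : E ≤ zpowers a := fun c hc => by
      by_cases h1 : c = 1
      · subst h1; exact one_mem _
      · rw [h c hc h1]; exact mem_zpowers a
    have := card_le_of_le this
    rw [hE2, Nat.card_zpowers, two haE ha1] at this
    omega
  have hac : orderOf (a * c) = 2 := two (mul_mem haE hcE) fun e => hca (by
    rw [eq_inv_of_mul_eq_one_right e]
    exact inv_eq_of_mul_eq_one_right (by rw [← pow_two]; exact hE3 a haE))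
  have ha2 := two haE ha1
  have hc2 := two hcE hc1
  have hcomm : a * c = c * a := congrArg Subtype.val (hEc.is_comm.comm ⟨a, haE⟩ ⟨c, hcE⟩)
  rcases hdich a ha2 with h1 | h1 <;> rcases hdich c hc2 with h2 | h2
  · exact caseR hac (pair h1 h2)
  · rcases hdich _ hac with h3 | h3
    · refine caseR hc2 ?_
      have := pair h1 h3
      rwa [← mul_assoc, show a * a = 1 by rw [← pow_two]; exact hE3 a haE, one_mul] at this
    · refine caseS ha2 ?_
      have := pair h3 h2
      rwa [mul_assoc, show c * c = 1 by rw [← pow_two]; exact hE3 c hcE, mul_one] at this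
  · rcases hdich _ hac with h3 | h3
    · refine caseR ha2 ?_
      have := pair h3 h2
      rwa [mul_assoc, show c * c = 1 by rw [← pow_two]; exact hE3 c hcE, mul_one] at this
    · refine caseS hc2 ?_
      have := pair h1 h3
      rwa [← mul_assoc, show a * a = 1 by rw [← pow_two]; exact hE3 a haE, one_mul] at this
  · exact caseS hac (pair h1 h2)

/-- The data of two coprime normal subgroups and a two-prime group acting faithfully on their product. -/
structure TwoMod (G : Type u) [Group G] (p q r s : ℕ) (W1 W2 T : Subgroup G) : Prop where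
  hp : p.Prime
  hq : q.Prime
  hr : r.Prime
  hs : s.Prime
  pq : p ≠ q
  pr : p ≠ r
  ps : p ≠ s
  qr : q ≠ r
  qs : q ≠ s
  rs : r ≠ s
  r2 : r ≠ 2
  s2 : s ≠ 2
  p1 : IsPGroup p ↥W1
  p2 : IsPGroup q ↥W2
  n1 : W1.Normal
  n2 : W2.Normal
  comm : ∀ x ∈ W1, ∀ y ∈ W2, x * y = y * x
  ne1 : W1 ≠ ⊥
  ne2 : W2 ≠ ⊥
  faith : T ⊓ (centralizer (W1 : Set G) ⊓ centralizer (W2 : Set G)) = ⊥
  rankR : RankTwo r T
  rankS : RankTwo s T
  primes : ∀ t : ℕ, t.Prime → t ∣ Nat.card T → t = r ∨ t = s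
  tpqr : T3 G p q r
  tpqs : T3 G p q s
  tprs : T3 G p r s
  tqrs : T3 G q r s

theorem TwoMod.swap {p q r s : ℕ} {W1 W2 T : Subgroup G} (h : TwoMod G p q r s W1 W2 T) :
    TwoMod G p q s r W1 W2 T :=
  { h with
    hr := h.hs, hs := h.hr, pr := h.ps, ps := h.pr, qr := h.qs, qs := h.qr, rs := h.rs.symm, r2 := h.s2, s2 := h.r2
    rankR := h.rankS, rankS := h.rankR, primes := fun t h1 h2 => (h.primes t h1 h2).symm
    tpqr := h.tpqs, tpqs := h.tpqr, tprs := h.tprs.swap23, tqrs := h.tqrs.swap23 }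

/-- Elements of order `s` centralise the `r`-core, which has one subgroup of order `r`. -/
theorem TwoMod.inner {p q r s : ℕ} {W1 W2 T : Subgroup G} (h : TwoMod G p q r s W1 W2 T) :
    (∃ E : Subgroup G, E ≤ T ∧ Nat.card E = s ^ 2 ∧ (∀ e ∈ E, e ^ s = 1) ∧ IsMulCommutative E ∧
      ∀ e ∈ E, e ∈ centralizer (OP r T : Set G)) ∧ ¬ RankTwo r (OP r T) := by
  haveI := Fact.mk h.hp
  haveI := Fact.mk h.hq
  haveI := Fact.mk h.hr
  haveI := Fact.mk h.hs
  haveI := h.n1
  haveI := h.n2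
  obtain ⟨E, hET, hE2, hEc, hE3⟩ := h.rankS
  set R := OP r T with hRdef
  have hRT : R ≤ T := OP_le r T
  have hRp : IsPGroup r ↥R := OP_isPGroup r T
  have n1 : ∀ K : Subgroup G, K ≤ normalizer (W1 : Set G) := fun K => by
    rw [Subgroup.normalizer_eq_top]; exact le_top
  have n2 : ∀ K : Subgroup G, K ≤ normalizer (W2 : Set G) := fun K => by
    rw [Subgroup.normalizer_eq_top]; exact le_top
  have notdvd : ∀ {W : Subgroup G} {a t : ℕ}, IsPGroup a ↥W → a.Prime → t.Prime → a ≠ t → ¬ t ∣ Nat.card W := by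
    intro W a t hW ha ht hne hd
    haveI := Fact.mk ha
    obtain ⟨n, hn⟩ := IsPGroup.iff_card.1 hW
    exact hne ((Nat.prime_dvd_prime_iff_eq ht ha).1 (ht.dvd_of_dvd_pow (hn ▸ hd))).symm
  -- an element of order `s` does not fix points in both
  have one : ∀ {e : G}, orderOf e = s → W1 ⊓ centralizer ({e} : Set G) = ⊥ ∨ W2 ⊓ centralizer ({e} : Set G) = ⊥ := by
    intro e he
    by_contra hcon
    push Not at hcon
    obtain ⟨x, hx, hxp⟩ := exists_order_mem (h.p1.to_le inf_le_left) hcon.1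
    obtain ⟨y, hy, hyq⟩ := exists_order_mem (h.p2.to_le inf_le_left) hcon.2
    exact h.tpqs.false h.hp h.hq h.hs h.pq h.ps h.qs hxp hyq he (h.comm x hx.1 y hy.1)
      (mem_centralizer_singleton_iff.1 hx.2) (mem_centralizer_singleton_iff.1 hy.2)
  have nR : ∀ {e : G}, e ∈ T → e ∈ normalizer (R : Set G) := fun he => le_normalizer_OP r T he
  have comm1 : ∀ {e : G}, e ∈ T → orderOf e = s → W1 ⊓ centralizer ({e} : Set G) = ⊥ →
      ⁅R, zpowers e⁆ ≤ centralizer (W1 : Set G) := fun {e} heT he hfix =>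
    fpf_commutator_le h.pr h.ps h.rs he hRp (fun e2 => absurd e2 h.r2) (nR heT) W1 h.p1
      (n1 ⊤ (mem_top e)) (n1 R) hfix
  have comm2 : ∀ {e : G}, e ∈ T → orderOf e = s → W2 ⊓ centralizer ({e} : Set G) = ⊥ →
      ⁅R, zpowers e⁆ ≤ centralizer (W2 : Set G) := fun {e} heT he hfix =>
    fpf_commutator_le h.qr h.qs h.rs he hRp (fun e2 => absurd e2 h.r2) (nR heT) W2 h.p2
      (n2 ⊤ (mem_top e)) (n2 R) hfix
  have mem : ∀ {e u : G}, e ∈ T → u ∈ R → ⁅u, e⁆ ∈ R := fun {e u} he hu => by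
    rw [commutatorElement_def, mul_assoc, mul_assoc, ← mul_assoc e]
    exact mul_mem hu (conj_mem_OP he (inv_mem hu))
  obtain ⟨e1, he1E, he1, hf1⟩ := exists_fixed_rankTwo h.hs hE2 hEc hE3 h.ne1 (n1 E) (notdvd h.p1 h.hp h.hs h.ps)
  obtain ⟨e2, he2E, he2, hf2⟩ := exists_fixed_rankTwo h.hs hE2 hEc hE3 h.ne2 (n2 E) (notdvd h.p2 h.hq h.hs h.qs)
  -- the part of `R` centralising `W1` (resp. `W2`) is trivial
  have triv : ∀ {u : G}, u ∈ R → (u ∈ centralizer (W1 : Set G) ∨ u ∈ centralizer (W2 : Set G)) → u = 1 := by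
    intro u hu hc
    by_contra hu1
    have hup : r ∣ orderOf u := by
      obtain ⟨k, hk⟩ := IsPGroup.iff_orderOf.1 hRp ⟨u, hu⟩
      rw [Subgroup.orderOf_mk] at hk
      rcases k with _ | k
      · exact absurd (orderOf_eq_one_iff.1 (by simpa using hk)) hu1
      · exact hk ▸ dvd_pow_self r k.succ_ne_zero
    obtain ⟨i, hi⟩ := exists_pow_orderOf (orderOf_pos u) hup
    rcases hc with hc | hc
    · have hfix := (one he1).resolve_left hf1
      have h1 : ⁅u ^ i, e1⁆ = 1 := (eq_bot_iff_forall _).1 h.faith _ ⟨hRT (mem (hET he1E) (pow_mem hu i)), by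
        rw [commutatorElement_def, mul_assoc, mul_assoc, ← mul_assoc e1]
        haveI : (centralizer (W1 : Set G)).Normal := inferInstance
        exact mul_mem (pow_mem hc i) (Normal.conj_mem inferInstance _ (inv_mem (pow_mem hc i)) _),
        comm2 (hET he1E) he1 hfix (commutator_mem_commutator (pow_mem hu i) (mem_zpowers e1))⟩
      obtain ⟨w, hw, hwp⟩ := exists_order_mem (h.p1.to_le inf_le_left) hf1
      exact h.tprs.false h.hp h.hr h.hs h.pr h.ps h.rs hwp hi he1 (mem_centralizer_iff.1 (pow_mem hc i) w hw.1)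
        (mem_centralizer_singleton_iff.1 hw.2) (commutatorElement_eq_one_iff_mul_comm.1 h1)
    · have hfix := (one he2).resolve_right hf2
      have h1 : ⁅u ^ i, e2⁆ = 1 := (eq_bot_iff_forall _).1 h.faith _ ⟨hRT (mem (hET he2E) (pow_mem hu i)),
        comm1 (hET he2E) he2 hfix (commutator_mem_commutator (pow_mem hu i) (mem_zpowers e2)), by
        rw [commutatorElement_def, mul_assoc, mul_assoc, ← mul_assoc e2]
        haveI : (centralizer (W2 : Set G)).Normal := inferInstance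
        exact mul_mem (pow_mem hc i) (Normal.conj_mem inferInstance _ (inv_mem (pow_mem hc i)) _)⟩
      obtain ⟨w, hw, hwp⟩ := exists_order_mem (h.p2.to_le inf_le_left) hf2
      exact h.tqrs.false h.hq h.hr h.hs h.qr h.qs h.rs hwp hi he2 (mem_centralizer_iff.1 (pow_mem hc i) w hw.1)
        (mem_centralizer_singleton_iff.1 hw.2) (commutatorElement_eq_one_iff_mul_comm.1 h1)
  have hcent : ∀ e ∈ E, e ∈ centralizer (R : Set G) := fun e he => mem_centralizer_iff.2 fun u hu => by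
    by_cases h1 : e = 1
    · rw [h1, mul_one, one_mul]
    refine commutatorElement_eq_one_iff_mul_comm.1 (triv (mem (hET he) hu) ?_)
    rcases one (orderOf_eq_prime (hE3 e he) h1) with hf | hf
    · exact Or.inl (comm1 (hET he) (orderOf_eq_prime (hE3 e he) h1) hf (commutator_mem_commutator hu (mem_zpowers e)))
    · exact Or.inr (comm2 (hET he) (orderOf_eq_prime (hE3 e he) h1) hf (commutator_mem_commutator hu (mem_zpowers e)))
  refine ⟨⟨E, hET, hE2, hE3, hEc, hcent⟩, fun ⟨A, hAR, hA2, hAc, hA3⟩ => ?_⟩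
  obtain ⟨u, huA, hur, hfu⟩ := exists_fixed_rankTwo h.hr hA2 hAc hA3 hf1 (fun x hx => mem_normalizer_fintype
    fun w hw => ⟨Grp.mem_conj_normalizer (n1 ⊤ (mem_top x)) hw.1, mem_centralizer_singleton_iff.2 (by
      have hxe : Commute x e1 := mem_centralizer_iff.1 (hcent e1 he1E) x (hAR hx)
      exact ((hxe.mul_left (mem_centralizer_singleton_iff.1 hw.2)).mul_left hxe.inv_left).eq)⟩)
    (fun hd => notdvd h.p1 h.hp h.hr h.pr (hd.trans (card_dvd_of_le inf_le_left)))
  obtain ⟨w, hw, hwp⟩ := exists_order_mem ((h.p1.to_le inf_le_left).to_le inf_le_left) hfu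
  exact h.tprs.false h.hp h.hr h.hs h.pr h.ps h.rs hwp hur he1
    (mem_centralizer_singleton_iff.1 hw.2) (mem_centralizer_singleton_iff.1 hw.1.2)
    (mem_centralizer_iff.1 (hcent e1 he1E) u (hAR huA))

theorem TwoMod.false {p q r s : ℕ} {W1 W2 T : Subgroup G} [Group.IsSolvable ↥T] (h : TwoMod G p q r s W1 W2 T) :
    False := by
  haveI := Fact.mk h.hr
  haveI := Fact.mk h.hs
  obtain ⟨⟨E, hET, hE2, hE3, hEc, hEcR⟩, hrR⟩ := h.inner
  obtain ⟨⟨E', -, -, -, -, -⟩, hrS⟩ := h.swap.inner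
  have hcyc : IsCyclic ↥(OP s T) := isCyclic_of_not_rankTwo h.s2 (OP_isPGroup s T) hrS
  have hcores : ∀ t : ℕ, t.Prime → OP t T ≤ OP r T ⊔ OP s T := by
    intro t ht
    haveI := Fact.mk ht
    by_cases h1 : OP t T = ⊥
    · rw [h1]; exact bot_le
    rcases h.primes t ht (OP_dvd_card h1) with rfl | rfl
    · exact le_sup_left
    · exact le_sup_right
  refine not_isCyclic_of_elem h.hs hE2 hE3 (haveI := hcyc; Subgroup.isCyclic_of_le (show E ≤ OP s T from fun e he => ?_))
  by_cases he1 : e = 1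
  · subst he1; exact one_mem _
  have hes : orderOf e = s := orderOf_eq_prime (hE3 e he) he1
  have hne : OP s T ⊔ zpowers e ≤ T := sup_le (OP_le s T) (zpowers_le.2 (hET he))
  have hconj : ∀ g ∈ T, g * e * g⁻¹ ∈ OP s T ⊔ zpowers e := by
    intro g hg
    have hz : g * e * g⁻¹ * e⁻¹ ∈ OP r T ⊔ OP s T := by
      refine cent_cores_le T _ hcores (mul_mem (mul_mem (mul_mem hg (hET he)) (inv_mem hg)) (inv_mem (hET he)))
        fun t ht y hy => ?_
      haveI := Fact.mk ht
      by_cases h1 : OP t T = ⊥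
      · rw [h1, mem_bot] at hy; rw [hy, mul_one, one_mul]
      rcases h.primes t ht (OP_dvd_card h1) with rfl | rfl
      · have hcR := hEcR e he
        have hgc : g * e * g⁻¹ ∈ centralizer (OP t T : Set G) := mem_centralizer_iff.2 fun x hx => by
          have := mem_centralizer_iff.1 hcR _ (Grp.mem_conj_normalizer' (le_normalizer_OP t T hg) hx)
          calc x * (g * e * g⁻¹) = g * (g⁻¹ * x * g * e) * g⁻¹ := by group
            _ = g * (e * (g⁻¹ * x * g)) * g⁻¹ := by rw [this]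
            _ = _ := by group
        exact (mem_centralizer_iff.1 (mul_mem hgc (inv_mem hcR)) y hy).symm
      · exact (mem_centralizer_iff.1 (conj_comm_of_cyclic hcyc (le_normalizer_OP t T hg)
          (le_normalizer_OP t T (hET he))) y hy).symm
    rw [← SetLike.mem_coe, coe_mul_of_left_le_normalizer_right (OP r T) (OP s T)
      ((OP_le r T).trans (le_normalizer_OP s T))] at hz
    obtain ⟨a, ha, b, hb, hab⟩ := Set.mem_mul.1 hz
    simp only [SetLike.mem_coe] at ha hb
    have hae : Commute a (b * e) := Commute.mul_right (OP_comm h.rs T a ha b hb)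
      (mem_centralizer_iff.1 (hEcR e he) a ha)
    have hbe : b * e ∈ OP s T ⊔ zpowers e := mul_mem_sup hb (mem_zpowers e)
    have heq : g * e * g⁻¹ = a * (b * e) := by rw [← mul_assoc, hab, inv_mul_cancel_right]
    have hpow : a ^ s * (b * e) ^ s = 1 := by
      rw [← hae.mul_pow, ← heq, conj_pow, ← hes, pow_orderOf_eq_one, mul_one, mul_inv_cancel]
    have has : a ^ s = 1 := by
      have h1 : a ^ s ∈ OP r T ⊓ (OP s T ⊔ zpowers e) := ⟨pow_mem ha s, by
        rw [mul_eq_one_iff_eq_inv.1 hpow]; exact (OP s T ⊔ zpowers e).inv_mem (pow_mem hbe s)⟩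
      have hd : OP r T ⊓ (OP s T ⊔ zpowers e) = ⊥ := by
        refine Grp.inf_eq_bot_of_coprime ?_
        obtain ⟨i, hi⟩ := IsPGroup.iff_card.1 (OP_isPGroup r T)
        obtain ⟨j, hj⟩ := IsPGroup.iff_card.1 ((OP_isPGroup s T).to_sup_of_normal_left'
          (IsPGroup.of_card (n := 1) (G := ↥(zpowers e)) (by rw [Nat.card_zpowers, hes, pow_one]))
          ((zpowers_le.2 (hET he)).trans (le_normalizer_OP s T)))
        rw [hi, hj]; exact (((Nat.coprime_primes h.hr h.hs).2 h.rs).pow_left i).pow_right j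
      rwa [hd, mem_bot] at h1
    have ha1 : a = 1 := by
      obtain ⟨i, hi⟩ := IsPGroup.iff_orderOf.1 (OP_isPGroup r T) ⟨a, ha⟩
      rw [Subgroup.orderOf_mk] at hi
      refine orderOf_eq_one_iff.1 (Nat.eq_one_of_dvd_coprimes ?_ (hi ▸ dvd_rfl : orderOf a ∣ r ^ i)
        (orderOf_dvd_of_pow_eq_one has))
      exact ((Nat.coprime_primes h.hr h.hs).2 h.rs).pow_left i
    rw [heq, ha1, one_mul]
    exact hbe
  refine le_OP hne ?_ ?_ (mem_sup_right (mem_zpowers e))
  · intro g hg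
    refine mem_normalizer_fintype fun x hx => ?_
    have : (MulAut.conj g) x ∈ (OP s T ⊔ zpowers e).map (MulAut.conj g).toMonoidHom := mem_map_of_mem _ hx
    rw [Subgroup.map_sup, MonoidHom.map_zpowers] at this
    refine (sup_le ?_ (zpowers_le.2 ?_) : _ ≤ OP s T ⊔ zpowers e) this
    · rintro _ ⟨y, hy, rfl⟩; exact mem_sup_left (conj_mem_OP hg hy)
    · exact hconj g hg
  · exact (OP_isPGroup s T).to_sup_of_normal_left'
      (IsPGroup.of_card (n := 1) (G := ↥(zpowers e)) (by rw [Nat.card_zpowers, hes, pow_one]))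
      ((zpowers_le.2 (hET he)).trans (le_normalizer_OP s T))

end Cfsg.Agent.Recog.SzSquare
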